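import Cfsg.Agent.UGT.LTF.Basics

/-!
# The component `L` and `O(C(x)) ∩ C(a)`

* `ft_of_triple`: the facts for a triple of type `L₃(4)`.
* `center_typ`: trivial centre for all types.
* `norm_L`: `C(a) ≤ N(L)`; `L_le`: `L ≤ X`.
* `mem_Y`, `mem_core`: `O(C(x)) ∩ C(a) = O(C_L(x))`.
-/

set_option autoImplicit false

open Cfsg Subgroup
open Cfsg.Agent.SignalizersComponents Cfsg.Agent.Lib
open Cfsg.Agent.SignalizersComponents.IntrinsicBasic
open Cfsg.Agent.SignalizersComponents.IntrinsicIntr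
open Cfsg.Agent.SignalizersComponents.PLayerAut
open Cfsg.Agent.Intrinsic.Basic Cfsg.Agent.Intrinsic.Cen Cfsg.Agent.Intrinsic.Diag
open Cfsg.Agent.McLLyComp.Act
open Cfsg.Agent.UGT.Triple Cfsg.Agent.UGT.TriBase Cfsg.Agent.UGT.Res.Base
open Cfsg.Agent.UGT.Iface (Bar IsL2 IsL34 IsAltOdd)
open Cfsg.Agent.UGT.LTF.Defs Cfsg.Agent.UGT.LTF.Basics
open scoped commutatorElement

namespace Cfsg.Agent.UGT.LTF.Comp

universe u

variable {G : Type u} [Group G] [Finite G]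

omit [Finite G] in
theorem act_sq {J : Subgroup G} {x : G} (hx : x ∈ normalizer (J : Set G)) (hxx : x * x = 1) :
    act J ⟨x, hx⟩ * act J ⟨x, hx⟩ = 1 := by
  rw [← act_mul, act_eq_one_iff, hxx]
  exact fixes_one J

theorem ft_of_triple (kf : KF34.{u}) {x t : G} {J : Subgroup G} (T : IsTriple x t J)
    (hc : core J = ⊥) (h34 : IsL34 (Bar J)) : FT (act J ⟨x, T.x_mem⟩) :=
  kf _ h34 _ (act_sq T.x_mem (sq_of_order T.invx)) _ (oddC T hc) (img_ne T)

omit [Finite G] in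
theorem center_of_ft {D : Type*} [Group D] {ξ : MulAut D} (h : FT ξ) :
    ∀ z : D, (∀ d, z * d = d * z) → z = 1 := by
  intro z hz
  apply h.cl
  apply MulEquiv.ext
  intro d
  rw [MulAut.conj_apply, hz d, mul_inv_cancel_right]
  rfl

/-- the types of the triples have trivial centre -/
theorem center_typ (kf : KF34.{u}) (kf2 : KF2.{u}) (kfa : KFA.{u}) {x t : G} {J : Subgroup G}
    (T : IsTriple x t J) (hc : core J = ⊥)
    (ht : IsL2 (Bar J) ∨ IsAltOdd (Bar J) ∨ IsL34 (Bar J)) :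
    ∀ z ∈ J, (∀ j ∈ J, z * j = j * z) → z = 1 := by
  apply center_of_bar hc
  rcases ht with h | h | h
  · exact (kf2 _ h).1
  · exact (kfa _ h).1
  · exact center_of_ft (ft_of_triple kf T hc h)

section sit

variable {X : Subgroup G} {x a b : G} {L S : Subgroup G}

theorem ft (kf : KF34.{u}) (h : Sit X x a b L S) : FT (act L ⟨x, h.T.x_mem⟩) :=
  ft_of_triple kf h.T (core_L h) h.l34

theorem center_L (kf : KF34.{u}) (h : Sit X x a b L S) :
    ∀ z ∈ L, (∀ l ∈ L, z * l = l * z) → z = 1 :=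
  center_of_bar (core_L h) (center_of_ft (ft kf h))

/-- `C(a) ≤ N(L)` -/
theorem norm_L (kf : KF34.{u}) (h : Sit X x a b L S) {g : G} (hg : g * a = a * g) :
    g ∈ normalizer (L : Set G) := by
  rw [mem_normalizer_iff_cj]
  apply lone h (comp_cj h.T.comp (mem_c hg))
  rintro _ ⟨z, hz, rfl⟩ hc
  have h1 : z = 1 := by
    apply center_L kf h z hz
    intro l hl
    have h2 := hc _ (conj_mem_cj (g := g) hl)
    change g * z * g⁻¹ * (g * l * g⁻¹) = g * l * g⁻¹ * (g * z * g⁻¹) at h2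
    have h3 : g * (z * l) * g⁻¹ = g * (l * z) * g⁻¹ := by
      calc g * (z * l) * g⁻¹ = g * z * g⁻¹ * (g * l * g⁻¹) := by group
        _ = g * l * g⁻¹ * (g * z * g⁻¹) := h2
        _ = _ := by group
    exact mul_left_cancel (mul_right_cancel h3)
  rw [h1, map_one]

omit [Finite G] in
theorem comm_mem_X (h : Sit X x a b L S) (g k : G) : ⁅g, k⁆ ∈ X := by
  have hn := h.Xn
  rw [← QuotientGroup.eq_one_iff (N := X)]
  have hq : ∀ g : G, (QuotientGroup.mk g : G ⧸ X) = 1 ∨ (QuotientGroup.mk g : G ⧸ X) =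
      QuotientGroup.mk x⁻¹ := by
    intro g
    rcases h.two g with h1 | h1
    · exact Or.inl ((QuotientGroup.eq_one_iff _).mpr h1)
    · right
      rw [QuotientGroup.eq, ← inv_mem_iff]
      have : (g⁻¹ * x⁻¹)⁻¹ = x * g := by group
      rwa [this]
  have h1 : (QuotientGroup.mk ⁅g, k⁆ : G ⧸ X) =
      ⁅(QuotientGroup.mk g : G ⧸ X), (QuotientGroup.mk k : G ⧸ X)⁆ := rfl
  rw [h1, commutatorElement_eq_one_iff_mul_comm]
  rcases hq g with h2 | h2 <;> rcases hq k with h3 | h3 <;> rw [h2, h3] <;> simp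

/-- perfect subgroups lie in `X` -/
theorem le_X (h : Sit X x a b L S) {J H : Subgroup G} (hJ : IsComp H J) : J ≤ X := by
  rw [← hJ.perfect, commutator_le]
  intro g _ k _
  exact comm_mem_X h g k

theorem bX (h : Sit X x a b L S) : b ∈ X := le_X h h.T.comp h.bL

theorem Y_comm {y : G} (h : Sit X x a b L S) (hy : y ∈ L) : y * a = a * y := comm_c (h.T.comp.le hy)

/-- lifting equations on `L / O(L)` -/
theorem pow_three {J : Subgroup G} (hc : core J = ⊥) {y : G} (hy : y ∈ J)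
    (h : (QuotientGroup.mk (⟨y, hy⟩ : ↥J) : Bar J) ^ 3 = 1) : y ^ 3 = 1 := by
  have h1 : (QuotientGroup.mk (⟨y ^ 3, pow_mem hy 3⟩ : ↥J) : Bar J) = 1 := h
  rw [mk_eq_one_iff, hc, mem_bot] at h1
  exact h1

theorem pow_three' {J : Subgroup G} {y : G} (hy : y ∈ J) (h : y ^ 3 = 1) :
    (QuotientGroup.mk (⟨y, hy⟩ : ↥J) : Bar J) ^ 3 = 1 := by
  have h1 : (QuotientGroup.mk (⟨y, hy⟩ : ↥J) : Bar J) ^ 3 =
      QuotientGroup.mk ⟨y ^ 3, pow_mem hy 3⟩ := rfl
  rw [h1]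
  have h2 : (⟨y ^ 3, pow_mem hy 3⟩ : ↥J) = 1 := Subtype.ext h
  rw [h2]
  rfl

theorem sq_bar {J : Subgroup G} {y : G} (hy : y ∈ J) (h : y * y = 1) :
    (QuotientGroup.mk (⟨y, hy⟩ : ↥J) : Bar J) * QuotientGroup.mk ⟨y, hy⟩ = 1 := by
  have h1 : (QuotientGroup.mk (⟨y, hy⟩ : ↥J) : Bar J) * QuotientGroup.mk ⟨y, hy⟩ =
      QuotientGroup.mk ⟨y * y, mul_mem hy hy⟩ := rfl
  rw [h1]
  have h2 : (⟨y * y, mul_mem hy hy⟩ : ↥J) = 1 := Subtype.ext h
  rw [h2]
  rfl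

theorem ne_bar {J : Subgroup G} (hc : core J = ⊥) {y : G} (hy : y ∈ J) (h : y ≠ 1) :
    (QuotientGroup.mk (⟨y, hy⟩ : ↥J) : Bar J) ≠ 1 := by
  intro h1
  rw [mk_eq_one_iff, hc, mem_bot] at h1
  exact h h1

/-- `b` inverts the elements of order 3 of `C_L(x)` -/
theorem inv_Y (kf : KF34.{u}) (h : Sit X x a b L S) (hbx : b * x = x * b) {y : G} (hy : y ∈ L)
    (h3 : y ^ 3 = 1) (hyx : x * y = y * x) : b * y * b⁻¹ = y⁻¹ := by
  have hc := core_L h
  have h1 := (ft kf h).inv _ _ (sq_bar h.bL (sq_of_order h.b2))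
    (ne_bar hc h.bL (ne_one_of_order h.b2)) (act_fix' h.T.x_mem h.bL hbx.symm)
    (pow_three' hy h3) (act_fix' h.T.x_mem hy hyx)
  exact mk_inj hc (mul_mem (mul_mem h.bL hy) (inv_mem h.bL)) (inv_mem hy) h1

/-- `d ∈ O(C(x)) ∩ C(a)` lies in `L` and has order 1 or 3 -/
theorem mem_Y (kf : KF34.{u}) (kf2 : KF2.{u}) (kfa : KFA.{u}) (h : Sit X x a b L S)
    {d : G} (hd : d ∈ core (centralizer ({x} : Set G))) (hda : d * a = a * d) :
    d ∈ L ∧ d ^ 3 = 1 := by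
  have hc := core_L h
  have hbx : b * x = x * b := (h.bc x h.xS).symm
  have hdL := h.T.mem_normalizer_of_core hd (mem_c hda)
  obtain ⟨y', hy', h3', hx'⟩ := (ft kf h).core _ (oddC h.T hc) _
    (mem_img.mpr ⟨d, hdL, hd, hda, rfl⟩)
  obtain ⟨⟨y, hy⟩, rfl⟩ := QuotientGroup.mk_surjective y'
  have h3 : y ^ 3 = 1 := pow_three hc hy h3'
  have hxy : x * y = y * x := act_fix hc h.T.x_mem hy hx'
  have hfix : Fixes (d * y⁻¹) L := by
    rw [← act_eq_iff hdL (le_normalizer hy), hy', act_of_mem hy]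
  have hxd : d ∈ centralizer ({x} : Set G) := core_le _ hd
  -- `y ∈ O(C(x))`
  have hyc : y ∈ core (centralizer ({x} : Set G)) := by
    have h4 : d * b * d⁻¹ = y * b * y⁻¹ := by
      have h5 := comm_of_fixes hc hfix (mul_mem (mul_mem hy h.bL) (inv_mem hy))
      calc d * b * d⁻¹ = (d * y⁻¹) * (y * b * y⁻¹) * (d * y⁻¹)⁻¹ := by group
        _ = (y * b * y⁻¹) * (d * y⁻¹) * (d * y⁻¹)⁻¹ := by rw [h5]
        _ = _ := by group
    have h6 : y * b * y⁻¹ * b⁻¹ = y * y := by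
      have h7 := inv_Y kf h hbx hy h3 hxy
      calc y * b * y⁻¹ * b⁻¹ = y * (b * y * b⁻¹)⁻¹ := by group
        _ = _ := by rw [h7, inv_inv]
    have h8 : d * (b * d⁻¹ * b⁻¹) ∈ core (centralizer ({x} : Set G)) :=
      mul_mem hd (conj_core (mem_c hbx) (inv_mem hd))
    have h9 : d * (b * d⁻¹ * b⁻¹) = y * y := by
      calc d * (b * d⁻¹ * b⁻¹) = d * b * d⁻¹ * b⁻¹ := by group
        _ = _ := by rw [h4, h6]
    rw [h9] at h8
    have h10 := mul_mem h8 h8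
    have h11 : y * y * (y * y) = y := by
      calc y * y * (y * y) = y ^ 3 * y := by simp only [pow_succ, pow_zero, one_mul, mul_assoc]
        _ = y := by rw [h3, one_mul]
    rwa [h11] at h10
  have hkc : d * y⁻¹ ∈ core (centralizer ({x} : Set G)) := mul_mem hd (inv_mem hyc)
  have hya : y * a = a * y := Y_comm h hy
  have hka : d * y⁻¹ ∈ centralizer ({a} : Set G) := mul_mem (mem_c hda) (inv_mem (mem_c hya))
  have hk : d * y⁻¹ = 1 := by
    by_contra hne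
    obtain ⟨J, T, hf⟩ := exists_triple h.T.invx h.T.inva h.T.comm hkc hka (by
      rw [core_a h, mem_bot]; exact hne)
    have hJ : J = L := lone h T.comp (center_typ kf kf2 kfa T (core_of_comp T.comp (core_a h))
      (h.typ _ _ _ h.xX h.aX T))
    exact hf (hJ ▸ hfix)
  rw [mul_inv_eq_one] at hk
  rw [hk]
  exact ⟨hy, h3⟩

/-- the elements of order 3 of `C_L(x)` are in `O(C(x))` -/
theorem mem_core (kf : KF34.{u}) (kf2 : KF2.{u}) (kfa : KFA.{u}) (h : Sit X x a b L S)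
    {z : G} (hz : z ∈ L) (hz3 : z ^ 3 = 1) (hxz : x * z = z * x) :
    z ∈ core (centralizer ({x} : Set G)) := by
  have hc := core_L h
  obtain ⟨y, hy, hya, hf⟩ := h.T.bad
  obtain ⟨hyL, hy3⟩ := mem_Y kf kf2 kfa h hy (comm_c hya)
  have hxy : x * y = y * x := (comm_c (core_le _ hy)).symm
  have hy1 : y ≠ 1 := by
    rintro rfl
    exact hf (fixes_one L)
  have h1 := (ft kf h).irr _ _ (pow_three' hyL hy3) (ne_bar hc hyL hy1)
    (act_fix' h.T.x_mem hyL hxy) (pow_three' hz hz3) (act_fix' h.T.x_mem hz hxz)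
  obtain ⟨M, hM⟩ : ∃ M : Subgroup (Bar L), M =
      (((core (centralizer ({x} : Set G))).subgroupOf L).map (QuotientGroup.mk' _)) := ⟨_, rfl⟩
  have h2 : closure {w : Bar L | ∃ r, act L ⟨x, h.T.x_mem⟩ r = r ∧
      w = r * (QuotientGroup.mk ⟨y, hyL⟩) * r⁻¹} ≤ M := by
    rw [closure_le]
    rintro _ ⟨r, hr, rfl⟩
    obtain ⟨⟨m, hm⟩, rfl⟩ := QuotientGroup.mk_surjective r
    have hxm : x * m = m * x := act_fix hc h.T.x_mem hm hr
    rw [hM]
    refine ⟨⟨m * y * m⁻¹, mul_mem (mul_mem hm hyL) (inv_mem hm)⟩, ?_, rfl⟩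
    exact conj_core (mem_c hxm.symm) hy
  have h3 := h2 h1
  rw [hM] at h3
  obtain ⟨⟨w, hw⟩, hwc, hwz⟩ := h3
  have h4 : w = z := mk_inj hc hw hz hwz
  rw [← h4]
  exact hwc

end sit

end Cfsg.Agent.UGT.LTF.Comp
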