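import Cfsg.Agent.UGT.Iface
import Cfsg.Agent.UGT.Res.Base
import Cfsg.Agent.UGT.ThEL34.Facts

/-!
# Type `L₃(4)`, `C_Q(x)` of rank 1, `x ∉ X`: facts and the situation

`X` simple normal of index 2 in `G = X⟨x⟩`, all involution centralizers of `G` with involution in `X` core-free,
`(x, a, L)` a triple of type `L₃(4)`, `a ∈ X`, `S ≤ C(a) ∩ N(L)` a 2-group with `C_S(x)` Sylow in `C(x)`.

* `OddC`: odd groups of automorphisms centralized by `ξ` and normalized by `C_D(ξ)`.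
* `FT ξ`: facts on a unitary polarity `ξ` of `D = L₃(4)`, in addition to `ThEL34.Facts`.
* `KF34`, `KF2`, `KFA`: facts on `L₃(4)`, `L₂(q)`, `Aₙ`.
* `Sit`: the situation.
-/

set_option autoImplicit false

open Cfsg Subgroup
open Cfsg.Agent.SignalizersComponents Cfsg.Agent.Lib
open Cfsg.Agent.Intrinsic.Basic Cfsg.Agent.UGT.Triple Cfsg.Agent.UGT.TriBase
open Cfsg.Agent.UGT.Iface (Bar IsL2 IsL34 IsAltOdd)

namespace Cfsg.Agent.UGT.LTF.Defs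

universe u

section autos

variable {D : Type*} [Group D]

/-- an odd group of automorphisms centralized by `ξ` and normalized by `C_D(ξ)` -/
structure OddC (ξ : MulAut D) (E : Subgroup (MulAut D)) : Prop where
  odd : Odd (Nat.card E)
  com : ∀ e ∈ E, e * ξ = ξ * e
  nor : ∀ l, ξ l = l → ∀ e ∈ E, MulAut.conj l * e * (MulAut.conj l)⁻¹ ∈ E

/-- Facts on a unitary polarity `ξ` of `D = L₃(4)`, `C_D(ξ) = 3² : Q₈`. -/
structure FT (ξ : MulAut D) : Prop extends ThEL34.Facts ξ where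
  /-- odd groups of automorphisms centralized by `ξ` and normalized by `C_D(ξ)` lie in `O(C_D(ξ))` -/
  core : ∀ E, OddC ξ E → ∀ e ∈ E, ∃ y, e = MulAut.conj y ∧ y ^ 3 = 1 ∧ ξ y = y
  /-- the involutions of `C_D(ξ)` invert `O(C_D(ξ))` -/
  inv : ∀ b y, b * b = 1 → b ≠ 1 → ξ b = b → y ^ 3 = 1 → ξ y = y → b * y * b⁻¹ = y⁻¹
  ycomm : ∀ y z : D, y ^ 3 = 1 → ξ y = y → z ^ 3 = 1 → ξ z = z → y * z = z * y
  /-- `|O(C_D(ξ))| = 9` -/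
  nine : ∃ Y : Subgroup D, Nat.card Y = 9 ∧ ∀ y, y ∈ Y ↔ y ^ 3 = 1 ∧ ξ y = y
  /-- field and graph type: one class of involutions in the coset -/
  wone : ∀ a, ThEL34.Wild ξ a → ∀ t, a t = t → t * t = 1 → t ≠ 1 →
    ∃ m, MulAut.conj m * a * (MulAut.conj m)⁻¹ = a * MulAut.conj t
  /-- `C_D(s)` is a 2-group -/
  c2 : ∀ s : D, s * s = 1 → s ≠ 1 → ∀ l, l * s = s * l → ∃ n : ℕ, l ^ 2 ^ n = 1
  /-- one class of involutions -/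
  cls : ∀ s t : D, s * s = 1 → s ≠ 1 → t * t = 1 → t ≠ 1 → ∃ g, g * s * g⁻¹ = t
  /-- an automorphism centralizing `C_D(s)` modulo `⟨s⟩` is in `Z(C_D(s))` -/
  cent : ∀ s : D, s * s = 1 → s ≠ 1 → ∀ α : MulAut D,
    (∀ p, p * s = s * p → α p * p⁻¹ = 1 ∨ α p * p⁻¹ = s) →
    ∃ z, α = MulAut.conj z ∧ ∀ p, p * s = s * p → z * p = p * z
  /-- `[w, C_D(s)]` has order 4 for `w ∈ C_D(s)` non-central -/
  four : ∀ s : D, s * s = 1 → s ≠ 1 → ∀ w, w * s = s * w → (∃ p, p * s = s * p ∧ w * p ≠ p * w) →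
    ∃ p, p * s = s * p ∧ w * p * w⁻¹ * p⁻¹ ≠ 1 ∧ w * p * w⁻¹ * p⁻¹ ≠ s
  /-- `Q₈` in `C_D(ξ)` -/
  q8 : ∀ s : D, s * s = 1 → s ≠ 1 → ξ s = s → ∃ w₁ w₂, ξ w₁ = w₁ ∧ ξ w₂ = w₂ ∧ w₁ * w₁ = s ∧
    w₂ * w₂ = s ∧ w₂ * w₁ * w₂⁻¹ = w₁⁻¹
  /-- 2-groups of `C_D(ξ, a) = S₃` -/
  wsmall : ∀ a, ThEL34.Wild ξ a → a * ξ = ξ * a → ∀ W : Subgroup D, IsPGroup 2 W →
    (∀ w ∈ W, ξ w = w ∧ a w = w) → Nat.card W ≤ 2
  /-- every involution of `Aut D` commutes with a unitary polarity -/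
  pol : ∀ β : MulAut D, β * β = 1 →
    ∃ l, (MulAut.conj l * ξ * (MulAut.conj l)⁻¹) * β = β * (MulAut.conj l * ξ * (MulAut.conj l)⁻¹)
  /-- `⟨Y, Y^p⟩ = D` -/
  gen : ∀ p b, b * b = 1 → b ≠ 1 → ξ b = b → p * b = b * p →
    MulAut.conj p * ξ * (MulAut.conj p)⁻¹ = ξ * MulAut.conj b → ∀ H : Subgroup D,
    (∀ y, y ^ 3 = 1 → ξ y = y → y ∈ H ∧ p * y * p⁻¹ ∈ H) → H = ⊤

/-- Facts on an outer involutory automorphism `ξ` of `D = L₂(q)`, `q` odd. -/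
structure F2 (ξ : MulAut D) : Prop where
  /-- odd subgroups of `C_D(ξ)`, normalized by `C_D(ξ)`, are cyclic -/
  cyc : ∀ E : Subgroup D, Odd (Nat.card E) → (∀ e ∈ E, ξ e = e) →
    (∀ l, ξ l = l → ∀ e ∈ E, l * e * l⁻¹ ∈ E) → IsCyclic E
  /-- and determined by their order -/
  uniq : ∀ E E' : Subgroup D, Odd (Nat.card E) → (∀ e ∈ E, ξ e = e) →
    (∀ l, ξ l = l → ∀ e ∈ E, l * e * l⁻¹ ∈ E) → (∀ e ∈ E', ξ e = e) →
    (∀ l, ξ l = l → ∀ e ∈ E', l * e * l⁻¹ ∈ E') → Nat.card E = Nat.card E' → E = E'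
  /-- `Out D` is abelian of 2-rank..: an element of odd order inverted by an automorphism is inner -/
  out : ∀ α β : MulAut D, Odd (orderOf β) → α * β * α⁻¹ = β⁻¹ → ∃ l, β = MulAut.conj l

end autos

/-- facts on `L₃(4)` -/
def KF34 : Prop := ∀ (D : Type u) [Group D], IsL34 D →
  ∀ ξ : MulAut D, ξ * ξ = 1 → ∀ E, OddC ξ E → E ≠ ⊥ → FT ξ

/-- facts on `L₂(q)`, `q ≥ 5` odd -/
def KF2 : Prop := ∀ (D : Type u) [Group D], IsL2 D →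
  (∀ z : D, (∀ d, z * d = d * z) → z = 1) ∧
  ∀ ξ : MulAut D, ξ * ξ = 1 → (∀ l, ξ ≠ MulAut.conj l) → F2 ξ

/-- facts on `Aₙ`, `n ≥ 7` odd -/
def KFA : Prop := ∀ (D : Type u) [Group D], IsAltOdd D →
  (∀ z : D, (∀ d, z * d = d * z) → z = 1) ∧
  ∀ ξ : MulAut D, ξ * ξ = 1 → (∀ l, ξ ≠ MulAut.conj l) → ∀ E, OddC ξ E → E ≠ ⊥ →
    ∃ A : Subgroup D, Nat.card A = 8 ∧ ∀ e ∈ A, e * e = 1 ∧ ξ e = e

/-- The situation. -/
structure Sit {G : Type u} [Group G] (X : Subgroup G) (x a b : G) (L S : Subgroup G) : Prop where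
  Xn : X.Normal
  sim : IsSimpleGroup ↥X
  xX : x ∉ X
  two : ∀ g, g ∈ X ∨ x * g ∈ X
  /-- core-free involution centralizers -/
  cf : ∀ u ∈ X, orderOf u = 2 → core (centralizer ({u} : Set G)) = ⊥
  /-- the types of triples -/
  typ : ∀ y c J, y ∉ X → c ∈ X → IsTriple y c J → IsL2 (Bar J) ∨ IsAltOdd (Bar J) ∨ IsL34 (Bar J)
  T : IsTriple x a L
  aX : a ∈ X
  l34 : IsL34 (Bar L)
  S2 : IsPGroup 2 ↥S
  SC : S ≤ centralizer ({a} : Set G)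
  SL : S ≤ normalizer (L : Set G)
  xS : x ∈ S
  syl : IsSyl (centralizer ({x} : Set G)) (S ⊓ centralizer ({x} : Set G))
  bS : b ∈ S
  bL : b ∈ L
  b2 : orderOf b = 2
  bc : ∀ s ∈ S, s * b = b * s
  /-- `Ω₁ Z(T) ∩ X = ⟨a, b⟩`, `T = C_S(x)` -/
  zt : ∀ z ∈ S, z * x = x * z → z * z = 1 → z ∈ X → (∀ s ∈ S, s * x = x * s → s * z = z * s) →
    z = 1 ∨ z = a ∨ z = b ∨ z = a * b
  nab : ¬ IsConj a b
  naab : ¬ IsConj a (a * b)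
  nbab : ¬ IsConj b (a * b)
  /-- `a` is the only involution of `C_K(x)`, `K = C(a) ∩ C(L)` -/
  uniq : ∀ k, k * a = a * k → Fixes k L → k * k = 1 → k ≠ 1 → k * x = x * k → k = a
  /-- `m(C(x)) ≤ 4` -/
  rank : ∀ E : Subgroup G, E ≤ centralizer ({x} : Set G) → (∀ e ∈ E, e * e = 1) → Nat.card ↥E ≤ 16
  /-- `C_S(x) ∩ L = Q₈` -/
  w8 : 8 ≤ Nat.card ↥(S ⊓ centralizer ({x} : Set G) ⊓ L)

end Cfsg.Agent.UGT.LTF.Defs
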