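import Cfsg.Agent.UGT.LTF.Comp
import Cfsg.Agent.UGT.ThEL34.Acts
import Cfsg.Agent.UGT.PumpGen
import Cfsg.Agent.UAlt.AltCent

/-!
# An involution of field or graph type

* `fxEquiv`: `C_J(e) ≃* fx (act J e)`, `O(J) = 1`.
* `comp_wild`: `C_J(c)` is a component of `C_H(c)` if `c` is of field or graph type on `J`.
* `not_small`: a component of `C(c) ∩ C(a)` in `N`, `a ∈ N(N)`: `a` is of field or graph type or `N` is the component.
-/

set_option autoImplicit false

open Cfsg Subgroup
open Cfsg.Agent.SignalizersComponents Cfsg.Agent.Lib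
open Cfsg.Agent.SignalizersComponents.IntrinsicBasic
open Cfsg.Agent.SignalizersComponents.IntrinsicIntr
open Cfsg.Agent.SignalizersComponents.PLayerAut
open Cfsg.Agent.Intrinsic.Basic Cfsg.Agent.Intrinsic.Cen Cfsg.Agent.Intrinsic.Diag
open Cfsg.Agent.McLLyComp.Act
open Cfsg.Agent.UGT.Triple Cfsg.Agent.UGT.TriBase Cfsg.Agent.UGT.Res.Base
open Cfsg.Agent.UGT.Iface (Bar IsL2 IsL34 IsAltOdd)
open Cfsg.Agent.UGT.LTF.Defs Cfsg.Agent.UGT.LTF.Basics Cfsg.Agent.UGT.LTF.Comp
open Cfsg.Agent.UGT.ThEL34 (fx mem_fx Wild)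
open scoped commutatorElement

namespace Cfsg.Agent.UGT.LTF.Wild

universe u

variable {G : Type u} [Group G]

/-- `C_J(e) ≃* fx (act J e)` -/
noncomputable def fxEquiv {J : Subgroup G} (hc : core J = ⊥) {e : G}
    (he : e ∈ normalizer (J : Set G)) :
    ↥(J ⊓ centralizer ({e} : Set G)) ≃* fx (act J ⟨e, he⟩) :=
  MulEquiv.ofBijective
    ({ toFun := fun j => ⟨QuotientGroup.mk ⟨j, j.2.1⟩, act_fix' he j.2.1 (comm_c j.2.2).symm⟩
       map_one' := rfl
       map_mul' := fun _ _ => rfl } : ↥(J ⊓ centralizer ({e} : Set G)) →* fx (act J ⟨e, he⟩))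
    ⟨fun i j h => Subtype.ext (mk_inj hc i.2.1 j.2.1 (congrArg Subtype.val h)), by
      rintro ⟨l, hl⟩
      obtain ⟨⟨m, hm⟩, rfl⟩ := QuotientGroup.mk_surjective l
      exact ⟨⟨m, hm, mem_c (act_fix hc he hm hl).symm⟩, rfl⟩⟩

theorem isL34_congr {A B : Type u} [Group A] [Group B] (e : A ≃* B) (h : IsL34 A) : IsL34 B := by
  obtain ⟨F, i1, i2, h1, ⟨h2⟩⟩ := h
  exact ⟨F, i1, i2, h1, ⟨e.symm.trans h2⟩⟩

variable [Finite G]

omit [Finite G] in
theorem even_congr {A B : Type*} [Group A] [Group B] (e : A ≃* B) (h : 2 ∣ Nat.card B) :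
    2 ∣ Nat.card A := by rwa [Nat.card_congr e.toEquiv]

/-- a perfect nontrivial group is not commutative -/
theorem not_comm_of_perf {A : Type*} [Group A] [Nontrivial A] (h : commutator A = ⊤) :
    ¬ IsMulCommutative A := by
  rintro ⟨⟨h1⟩⟩
  have h2 : commutator A ≤ ⊥ := by
    rw [_root_.commutator_def, commutator_le]
    intro g _ k _
    rw [mem_bot, commutatorElement_eq_one_iff_mul_comm]
    exact h1 g k
  rw [h] at h2
  exact bot_ne_top (le_antisymm bot_le h2)

/-- the facts on `C_J(c)`, `c` of field or graph type -/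
theorem wild_facts {J : Subgroup G} (hc : core J = ⊥) {ξ : MulAut (Bar J)} (F : FT ξ) {c : G}
    (hcJ : c ∈ normalizer (J : Set G)) (hw : ThEL34.Wild ξ (act J ⟨c, hcJ⟩)) :
    IsSimpleGroup ↥(J ⊓ centralizer ({c} : Set G)) ∧
      ⁅J ⊓ centralizer ({c} : Set G), J ⊓ centralizer ({c} : Set G)⁆ =
        J ⊓ centralizer ({c} : Set G) ∧
      2 ∣ Nat.card ↥(J ⊓ centralizer ({c} : Set G)) := by
  obtain ⟨e, -⟩ : ∃ _ : ↥(J ⊓ centralizer ({c} : Set G)) ≃* fx (act J ⟨c, hcJ⟩), True :=
    ⟨fxEquiv hc hcJ, trivial⟩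
  have hs := F.wsimp _ hw
  refine ⟨e.isSimpleGroup, ?_, even_congr e (F.weven _ hw)⟩
  · have h1 := F.wperf _ hw
    have h2 : commutator ↥(J ⊓ centralizer ({c} : Set G)) = ⊤ := by
      have h3 : (commutator (fx (act J ⟨c, hcJ⟩))).map e.symm.toMonoidHom = ⊤ := by
        rw [h1]
        exact map_top_of_surjective _ e.symm.surjective
      rw [_root_.commutator_def, map_commutator, map_top_of_surjective _ e.symm.surjective] at h3
      exact h3
    have h4 := congrArg (Subgroup.map (J ⊓ centralizer ({c} : Set G)).subtype) h2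
    rw [_root_.commutator_def, map_commutator, ← MonoidHom.range_eq_map, range_subtype] at h4
    exact h4

/-- `C_J(c)` is a component of `C_H(c)` if `c` is of field or graph type on `J` -/
theorem comp_wild {H J : Subgroup G} (hJ : IsComp H J) (hc : core J = ⊥) {ξ : MulAut (Bar J)}
    (F : FT ξ) {c : G} (hcJ : c ∈ normalizer (J : Set G)) (hw : ThEL34.Wild ξ (act J ⟨c, hcJ⟩)) :
    IsComp (H ⊓ centralizer ({c} : Set G)) (J ⊓ centralizer ({c} : Set G)) := by
  obtain ⟨h1, h2, h3⟩ := wild_facts hc F hcJ hw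
  apply PumpGen.isComp_of_inf hJ
  refine Cfsg.Agent.UAlt.isComp_of_simple le_rfl ?_ h1 ?_ h3
  · rw [subgroupOf_self]
    exact (inferInstance : (⊤ : Subgroup _).Normal).isSubnormal
  · have := h1.toNontrivial
    apply not_comm_of_perf
    apply Subgroup.map_injective (J ⊓ centralizer ({c} : Set G)).subtype_injective
    rw [_root_.commutator_def, map_commutator, ← MonoidHom.range_eq_map, range_subtype]
    exact h2

/-- the centralizer of a non-trivial involutory automorphism that is not of field or graph type is solvable -/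
theorem solv {D : Type*} [Group D] {ξ α : MulAut D} (F : FT ξ) (h2 : α * α = 1) (h1 : α ≠ 1)
    (hw : ¬ ThEL34.Wild ξ α) : Group.IsSolvable (centralizer ({α} : Set (MulAut D))) := by
  rcases ThEL34.tri ξ h2 with ⟨l, rfl⟩ | ⟨l, rfl⟩ | h
  · apply F.sols l (F.toFacts.sq_of_conj h2)
    rintro rfl
    exact h1 (map_one _)
  · obtain ⟨m, hm⟩ := F.xconj l h2
    have hs := F.solx
    obtain ⟨μ, hμ⟩ : ∃ μ, μ = MulAut.conj m := ⟨_, rfl⟩
    obtain ⟨α, hα⟩ : ∃ α, α = ξ * MulAut.conj l := ⟨_, rfl⟩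
    rw [← hμ, ← hα] at hm
    rw [← hα]
    let f : centralizer ({α} : Set (MulAut D)) →* centralizer ({ξ} : Set (MulAut D)) :=
      { toFun := fun β => ⟨μ * β * μ⁻¹, by
          rw [mem_centralizer_singleton_iff, ← hm]
          have hb := mem_centralizer_singleton_iff.mp β.2
          calc μ * (β : MulAut D) * μ⁻¹ * (μ * α * μ⁻¹) = μ * ((β : MulAut D) * α) * μ⁻¹ := by group
            _ = μ * (α * (β : MulAut D)) * μ⁻¹ := by rw [hb]
            _ = _ := by group⟩
        map_one' := Subtype.ext (by simp)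
        map_mul' := fun β γ => Subtype.ext (by
          change μ * ((β : MulAut D) * γ) * μ⁻¹ = μ * β * μ⁻¹ * (μ * γ * μ⁻¹)
          group) }
    have hf : Function.Injective f := by
      intro β γ h
      have h3 : μ * (β : MulAut D) * μ⁻¹ = μ * γ * μ⁻¹ := congrArg Subtype.val h
      exact Subtype.ext (mul_left_cancel (mul_right_cancel h3))
    exact Group.isSolvable_of_isSolvable_injective hf
  · exact (hw h).elim

/-- a component of `C(c) ∩ C(a)` in the component `N` of `C(c)`: `N = M` or `a` is of field or graph type on `N` -/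
theorem not_small {c a : G} {M N : Subgroup G}
    (hM : IsComp (centralizer ({c} : Set G) ⊓ centralizer ({a} : Set G)) M)
    (hN : IsComp (centralizer ({c} : Set G)) N) (hc : core N = ⊥) {ξ : MulAut (Bar N)} (F : FT ξ)
    (ha : a ∈ normalizer (N : Set G)) (h2 : a * a = 1) (hMN : M ≤ N) :
    M = N ∨ ThEL34.Wild ξ (act N ⟨a, ha⟩) := by
  by_cases h1 : act N ⟨a, ha⟩ = 1
  · left
    rw [act_eq_one_iff] at h1
    have hNa : N ≤ centralizer ({c} : Set G) ⊓ centralizer ({a} : Set G) :=
      le_inf hN.le fun n hn => mem_c (comm_of_fixes hc h1 hn).symm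
    exact hM.eq_of_le (hN.restrict inf_le_left hNa) hMN
  · right
    by_contra hw
    have hs := solv F (act_sq ha h2) h1 hw
    have hcen := center_of_bar hc (center_of_ft F)
    have hMa : ∀ m ∈ M, a * m = m * a := fun m hm => (comm_c (hM.le hm).2).symm
    let f : ↥M →* centralizer ({act N ⟨a, ha⟩} : Set (MulAut (Bar N))) :=
      { toFun := fun m => ⟨act N ⟨m, le_normalizer (hMN m.2)⟩, by
          rw [mem_centralizer_singleton_iff, ← act_mul, ← act_mul]
          exact act_congr _ (hMa m m.2).symm⟩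
        map_one' := Subtype.ext (by
          change act N ⟨((1 : ↥M) : G), _⟩ = 1
          rw [act_eq_one_iff]
          exact fixes_one N)
        map_mul' := fun m m' => Subtype.ext (by
          change act N ⟨((m * m' : ↥M) : G), _⟩ = act N ⟨m, _⟩ * act N ⟨m', _⟩
          rw [← act_mul]
          exact act_congr _ rfl) }
    have hf : Function.Injective f := by
      rw [injective_iff_map_eq_one]
      intro m hm
      have h3 : act N ⟨m, le_normalizer (hMN m.2)⟩ = 1 := congrArg Subtype.val hm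
      rw [act_eq_one_iff] at h3
      exact Subtype.ext (hcen m (hMN m.2) fun j hj => comm_of_fixes hc h3 hj)
    have hsM : Group.IsSolvable ↥M := Group.isSolvable_of_isSolvable_injective hf
    exact Cfsg.Agent.UAlt.not_solvable_of_perfect hM.perfect hM.ne_bot hsM

end Cfsg.Agent.UGT.LTF.Wild
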