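import Cfsg.Agent.UGT.LTF.Defs
import Cfsg.Agent.UGT.HFAbs
import Cfsg.Agent.UGT.A9.LTwoField
import Cfsg.Agent.GH.L2AutOut

/-!
# `KF2` : facts on outer involutory automorphisms of `L₂(q)`

* `Rep.f2` : `F2 ξ`;
* `kf2 : KF2`.
-/

set_option autoImplicit false

open Cfsg Subgroup
open Cfsg.Agent.GH.L2Aut Cfsg.Agent.Lib.SL2Mat
open Cfsg.Agent.UGT.Iface (IsL2)

namespace Cfsg.Agent.UGT.LTF.KF2

universe u

open Cfsg.Agent.UGT.LTF.Defs (F2)

/-- an element of odd order in a subgroup closed under squares from it -/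
theorem mem_of_sq {G : Type*} [Group G] {H : Subgroup G} {e : G} (ho : Odd (orderOf e))
    (h : e * e ∈ H) : e ∈ H := by
  obtain ⟨k, hk⟩ := ho
  have h1 : e = (e * e) ^ (k + 1) := by
    have h2 : (e * e) ^ (k + 1) = e ^ orderOf e * e := by
      rw [← sq, ← pow_mul, hk, ← pow_succ]
      congr 1
    rw [h2, pow_orderOf_eq_one, one_mul]
  rw [h1]
  exact pow_mem h _

theorem odd_orderOf {G : Type*} [Group G] {E : Subgroup G} (hE : Odd (Nat.card E)) {e : G}
    (he : e ∈ E) : Odd (orderOf e) := by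
  have h1 : orderOf e ∣ Nat.card E := by
    have := orderOf_dvd_natCard (⟨e, he⟩ : E)
    rwa [Subgroup.orderOf_mk] at this
  exact Odd.of_dvd_nat hE h1

/-- subgroups of a cyclic group are determined by their order -/
theorem le_of_card {G : Type*} [Group G] [Finite G] {T A B : Subgroup G} (hT : IsCyclic T)
    (hA : A ≤ T) (hB : B ≤ T) (h : Nat.card A = Nat.card B) : A ≤ B := by
  classical
  have : Fintype T := Fintype.ofFinite _
  have h1 := IsCyclic.card_pow_eq_one_le (α := T) (n := Nat.card B) Nat.card_pos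
  have h2 : (Finset.univ.filter fun x : T => x ∈ B.subgroupOf T) ⊆
      Finset.univ.filter fun x : T => x ^ Nat.card B = 1 := by
    intro x hx
    rw [Finset.mem_filter] at hx ⊢
    refine ⟨hx.1, ?_⟩
    have h3 : (⟨x, hx.2⟩ : B) ^ Nat.card B = 1 := pow_card_eq_one'
    have h4 : (x : G) ^ Nat.card B = 1 := congrArg Subtype.val h3
    exact Subtype.ext h4
  have h3 : (Finset.univ.filter fun x : T => x ∈ B.subgroupOf T).card = Nat.card B := by
    rw [← Fintype.card_subtype, ← Nat.card_eq_fintype_card]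
    exact Nat.card_congr (subgroupOfEquivOfLe hB).toEquiv
  have h4 := Finset.eq_of_subset_of_card_le h2 (by rw [h3]; exact h1)
  intro x hx
  have h5 : (⟨x, hA hx⟩ : T) ∈ Finset.univ.filter fun x : T => x ^ Nat.card B = 1 := by
    rw [Finset.mem_filter]
    refine ⟨Finset.mem_univ _, ?_⟩
    have h6 : (⟨x, hx⟩ : A) ^ Nat.card A = 1 := pow_card_eq_one'
    have h7 : x ^ Nat.card A = 1 := congrArg Subtype.val h6
    rw [h] at h7
    exact Subtype.ext h7
  rw [← h4, Finset.mem_filter] at h5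
  exact h5.2

section rep

variable {F : Type*} [Field F] [Finite F] {L : Type*} [Group L] (R : Cfsg.Agent.GH.L2Aut.Rep F L)

local notation "M2" => Matrix (Fin 2) (Fin 2) F

/-! ### field type -/

/-- involutions of field type centralize no odd group normalized by their centralizer -/
theorem field_bot {ξ : MulAut L} (hξ : ξ * ξ = 1) (hf : R.fld ξ ≠ 1) {E : Subgroup L}
    (hE : Odd (Nat.card E)) (hc : ∀ e ∈ E, ξ e = e)
    (hn : ∀ l, ξ l = l → ∀ e ∈ E, l * e * l⁻¹ ∈ E) : E = ⊥ := by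
  have hfin : Finite L := R.finite
  have hσ2 : R.fld ξ * R.fld ξ = 1 := by rw [← map_mul, hξ, map_one]
  have ho : orderOf (R.fld ξ) = 2 := by
    apply orderOf_eq_prime
    · rw [sq, hσ2]
    · exact hf
  obtain ⟨R', -, -, hR⟩ := R.exists_rep ξ (by rw [ho, sq, hξ])
  generalize R.fld ξ = σ at hf hσ2 ho hR
  subst hR
  obtain ⟨K, hK, hcard⟩ := exists_fixed_field σ
  have hsub : R'.sub K ≤ fixSub (R'.fa σ) := R'.sub_le_fix hK
  obtain ⟨w, hw, hws, hcov⟩ := R'.exists_outer (ho ▸ even_two) hK hcard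
  -- `E ≤ sub K`
  have hES : E ≤ R'.sub K := by
    intro e he
    apply mem_of_sq (odd_orderOf hE he)
    by_cases h : e ∈ R'.sub K
    · exact mul_mem h h
    · have h1 := hcov e (hc e he) h
      have h2 := hcov e⁻¹ (hc e⁻¹ (inv_mem he)) (fun h3 => h (inv_mem_iff.1 h3))
      have h3 := mul_mem (inv_mem h2) h1
      have h4 : (w * e⁻¹)⁻¹ * (w * e) = e * e := by group
      rwa [h4] at h3
  have hK2 : Odd (Nat.card K) := by
    have h1 := odd_card R'.two
    rw [hcard] at h1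
    exact (Nat.odd_pow_iff (by rw [ho]; norm_num)).1 h1
  have hK1 : 1 < Nat.card K := Finite.one_lt_card
  have hK3 : 3 ≤ Nat.card K := by
    obtain ⟨k, hk⟩ := hK2
    omega
  rcases Nat.lt_or_ge 3 (Nat.card K) with h3 | h3
  · -- `sub K` simple
    have hsim : IsSimpleGroup (R'.sub K) := A9.LTwo.simple_rep (R'.subRep K) h3
    have hN : (E.subgroupOf (R'.sub K)).Normal := by
      refine ⟨fun e he g => ?_⟩
      rw [mem_subgroupOf] at he ⊢
      exact hn g (hsub g.2) e he
    rcases hsim.eq_bot_or_eq_top_of_normal _ hN with h1 | h1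
    · rw [subgroupOf_eq_bot] at h1
      exact (disjoint_iff.1 h1 ▸ inf_eq_left.2 hES).symm
    · exfalso
      rw [subgroupOf_eq_top] at h1
      have h2 : E = R'.sub K := le_antisymm hES h1
      rw [h2] at hE
      exact (Nat.not_odd_iff_even.2 (even_iff_two_dvd.2 (A9.LTwo.two_dvd_rep (R'.subRep K)))) hE
  · have hc9 : Nat.card F = 9 := by
      rw [hcard, ho, show Nat.card K = 3 by omega]
      norm_num
    by_contra hE1
    obtain ⟨a, b, hab⟩ := (R'.subRep K).exists_four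
    have haa : (a : L) * a = 1 := congrArg Subtype.val hab.aa
    have hbb : (b : L) * b = 1 := congrArg Subtype.val hab.bb
    have hcom : (a : L) * b = b * a := congrArg Subtype.val hab.comm
    obtain ⟨u, hu, d, hd, hd1, hdu⟩ := HFAbs.exists_fix hE hE1 haa hbb hcom
      (fun d hd => hn a (hsub a.2) d hd) (fun d hd => hn b (hsub b.2) d hd)
    have huu : u * u = 1 ∧ u ≠ 1 := by
      rcases hu with rfl | rfl | rfl
      · exact ⟨haa, fun h => hab.a1 (Subtype.ext h)⟩
      · exact ⟨hbb, fun h => hab.b1 (Subtype.ext h)⟩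
      · exact ⟨congrArg Subtype.val hab.right.bb, fun h => hab.right.b1 (Subtype.ext h)⟩
    apply hd1
    apply R'.conj_injective
    rw [map_one]
    apply A9.LTwo.eq_one_of_odd_nine R' hc9 huu.1 huu.2
    · exact Odd.of_dvd_nat (odd_orderOf hE hd) (orderOf_map_dvd _ _)
    · rw [← map_mul, ← map_mul, hdu]

/-! ### `PGL` type: the torus -/

section torus

variable {g : GL (Fin 2) F} {r : AlgebraicClosure F}

local notation "ι" => algebraMap F (AlgebraicClosure F)

/-- `e` is induced by `a + b g` and `ρ = (a + b r) / (a - b r)` -/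
def Wt (g : GL (Fin 2) F) (r : AlgebraicClosure F) (e : L) (ρ : AlgebraicClosure F) : Prop :=
  ∃ (t : GL (Fin 2) F) (a b : F), MulAut.conj e = R.gl t ∧ t.1 = a • (1 : M2) + b • g.1 ∧
    ι a - ι b * r ≠ 0 ∧ ρ * (ι a - ι b * r) = ι a + ι b * r

omit [Finite F] in
theorem ab_unique (hs : ∀ c : F, g.1 ≠ c • (1 : M2)) {a b a' b' : F}
    (h : a • (1 : M2) + b • g.1 = a' • (1 : M2) + b' • g.1) : a = a' ∧ b = b' := by
  have hb : b = b' := by
    by_contra hb
    have hb' : b - b' ≠ 0 := sub_ne_zero.2 hb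
    apply hs ((b - b')⁻¹ * (a' - a))
    have h1 : (b - b') • g.1 = (a' - a) • (1 : M2) := by
      rw [sub_smul, sub_smul]
      have h2 : b • g.1 = a' • (1 : M2) + b' • g.1 - a • (1 : M2) := by rw [← h]; abel
      rw [h2]; abel
    rw [mul_smul, ← h1, smul_smul, inv_mul_cancel₀ hb', one_smul]
  subst hb
  refine ⟨?_, rfl⟩
  have h1 := add_right_cancel h
  have h2 := congrFun (congrFun h1 0) 0
  simpa using h2

omit [Finite F] in
theorem det_ab (htr : g.1.trace = 0) (a b : F) :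
    (a • (1 : M2) + b • g.1).det = a ^ 2 + b ^ 2 * g.1.det := by
  rw [Matrix.trace_fin_two] at htr
  rw [Matrix.det_fin_two, Matrix.det_fin_two]
  simp
  linear_combination a * b * htr

theorem wt_exists (htr : g.1.trace = 0) (hs : ∀ c : F, g.1 ≠ c • (1 : M2))
    (hr : r * r = - ι g.1.det) {e : L} {t : GL (Fin 2) F} (he : MulAut.conj e = R.gl t)
    (ht : g.1 * t.1 = t.1 * g.1) : ∃ ρ, Wt R g r e ρ := by
  obtain ⟨a, b, hab⟩ := exists_ab hs ht
  have h1 : t.1.det ≠ 0 := (Matrix.GeneralLinearGroup.det t).ne_zero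
  rw [hab, det_ab htr] at h1
  have h2 : (ι a - ι b * r) * (ι a + ι b * r) ≠ 0 := by
    have h3 : (ι a - ι b * r) * (ι a + ι b * r) = ι (a ^ 2 + b ^ 2 * g.1.det) := by
      rw [map_add, map_mul, map_pow, map_pow]
      linear_combination (-(ι b) ^ 2) * hr
    rw [h3]
    exact (map_ne_zero_iff _ (algebraMap F (AlgebraicClosure F)).injective).2 h1
  have h3 := left_ne_zero_of_mul h2
  exact ⟨(ι a + ι b * r) / (ι a - ι b * r), t, a, b, he, hab, h3, div_mul_cancel₀ _ h3⟩

theorem wt_unique (hs : ∀ c : F, g.1 ≠ c • (1 : M2)) {e : L} {ρ ρ' : AlgebraicClosure F}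
    (h : Wt R g r e ρ) (h' : Wt R g r e ρ') : ρ = ρ' := by
  obtain ⟨t, a, b, h1, h2, h3, h4⟩ := h
  obtain ⟨t', a', b', h1', h2', h3', h4'⟩ := h'
  have h5 : R.gl (t⁻¹ * t') = 1 := by rw [map_mul, map_inv, ← h1, ← h1', inv_mul_cancel]
  obtain ⟨c, hc⟩ := R.gl_eq_one_iff.1 h5
  have h6 : t'.1 = c • t.1 := by
    have h7 : t'.1 = t.1 * (t⁻¹ * t').1 := by rw [← Units.val_mul, mul_inv_cancel_left]
    rw [h7, hc, Matrix.mul_smul, Matrix.mul_one]
  rw [h2, h2', smul_add, smul_smul, smul_smul] at h6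
  obtain ⟨h7, h8⟩ := ab_unique hs h6
  subst h7 h8
  rw [map_mul, map_mul] at h3' h4'
  have h9 : ι c ≠ 0 := by
    intro h0
    apply h3'
    rw [h0]; ring
  have h10 : (ρ - ρ') * (ι c * (ι a - ι b * r)) = 0 := by
    linear_combination ι c * h4 - h4'
  rcases mul_eq_zero.1 h10 with h11 | h11
  · exact sub_eq_zero.1 h11
  · exact absurd h11 (mul_ne_zero h9 h3)

theorem wt_mul (htr : g.1.trace = 0) (hr : r * r = - ι g.1.det) {e e' : L}
    {ρ ρ' : AlgebraicClosure F} (h : Wt R g r e ρ) (h' : Wt R g r e' ρ') :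
    Wt R g r (e * e') (ρ * ρ') := by
  obtain ⟨t, a, b, h1, h2, h3, h4⟩ := h
  obtain ⟨t', a', b', h1', h2', h3', h4'⟩ := h'
  have h5 : ι (a * a' - b * b' * g.1.det) - ι (a * b' + b * a') * r =
      (ι a - ι b * r) * (ι a' - ι b' * r) := by
    rw [map_sub, map_add, map_mul, map_mul, map_mul, map_mul, map_mul]
    linear_combination (-(ι b) * ι b') * hr
  have h6 : ι (a * a' - b * b' * g.1.det) + ι (a * b' + b * a') * r =
      (ι a + ι b * r) * (ι a' + ι b' * r) := by
    rw [map_sub, map_add, map_mul, map_mul, map_mul, map_mul, map_mul]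
    linear_combination (-(ι b) * ι b') * hr
  refine ⟨t * t', a * a' - b * b' * g.1.det, a * b' + b * a', ?_, ?_, ?_, ?_⟩
  · rw [map_mul, map_mul, h1, h1']
  · have h7 := Rep.sq_of_tr htr
    rw [Units.val_mul, h2, h2', Matrix.add_mul, Matrix.mul_add, Matrix.mul_add, Matrix.smul_mul,
      Matrix.smul_mul, Matrix.smul_mul, Matrix.smul_mul, Matrix.mul_smul, Matrix.mul_smul,
      Matrix.mul_smul, Matrix.mul_smul, Matrix.one_mul, Matrix.one_mul, Matrix.mul_one, h7]
    module
  · rw [h5]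
    exact mul_ne_zero h3 h3'
  · rw [h5, h6, ← h4, ← h4']
    ring

theorem wt_one : Wt R g r 1 1 :=
  ⟨1, 1, 0, by rw [map_one, map_one], by rw [Units.val_one, one_smul, zero_smul, add_zero],
    by rw [map_one, map_zero, zero_mul, sub_zero]; exact one_ne_zero,
    by rw [map_one, map_zero]; ring⟩

theorem eq_one_of_wt (hr : r * r = - ι g.1.det) {e : L} (h : Wt R g r e 1) : e = 1 := by
  obtain ⟨t, a, b, h1, h2, h3, h4⟩ := h
  have hd : g.1.det ≠ 0 := (Matrix.GeneralLinearGroup.det g).ne_zero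
  have hr0 : r ≠ 0 := by
    rintro rfl
    rw [mul_zero] at hr
    have h5 : ι g.1.det = 0 := neg_eq_zero.1 hr.symm
    exact hd ((map_eq_zero_iff _ (algebraMap F (AlgebraicClosure F)).injective).1 h5)
  have h20 : (2 : AlgebraicClosure F) ≠ 0 := by
    have h5 : ι (2 : F) ≠ 0 := (map_ne_zero_iff _ (algebraMap F (AlgebraicClosure F)).injective).2 R.two
    rwa [map_ofNat] at h5
  have hb : b = 0 := by
    have h5 : (2 : AlgebraicClosure F) * r * ι b = 0 := by linear_combination -h4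
    have h6 := (mul_eq_zero.1 h5).resolve_left (mul_ne_zero h20 hr0)
    exact (map_eq_zero_iff _ (algebraMap F (AlgebraicClosure F)).injective).1 h6
  rw [hb, zero_smul, add_zero] at h2
  have h5 : R.gl t = 1 := R.gl_eq_one_iff.2 ⟨a, h2⟩
  apply R.conj_injective
  rw [h1, h5, map_one]

/-- the torus -/
def Tor (g : GL (Fin 2) F) : Subgroup L where
  carrier := {e | ∃ t : GL (Fin 2) F, MulAut.conj e = R.gl t ∧ g.1 * t.1 = t.1 * g.1}
  one_mem' := ⟨1, by rw [map_one, map_one], by rw [Units.val_one, Matrix.mul_one, Matrix.one_mul]⟩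
  mul_mem' := by
    rintro x y ⟨t, h1, h2⟩ ⟨t', h1', h2'⟩
    refine ⟨t * t', by rw [map_mul, map_mul, h1, h1'], ?_⟩
    rw [Units.val_mul, ← Matrix.mul_assoc, h2, Matrix.mul_assoc, h2', Matrix.mul_assoc]
  inv_mem' := by
    rintro x ⟨t, h1, h2⟩
    refine ⟨t⁻¹, by rw [map_inv, map_inv, h1], ?_⟩
    have h3 : g * t = t * g := Units.ext h2
    have h4 : g * t⁻¹ = t⁻¹ * g := by
      rw [eq_inv_mul_iff_mul_eq, ← mul_assoc, ← h3, mul_inv_cancel_right]
    exact congrArg Units.val h4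

theorem cyclic_tor (htr : g.1.trace = 0) (hs : ∀ c : F, g.1 ≠ c • (1 : M2)) :
    IsCyclic (Tor R g) := by
  have hfin : Finite L := R.finite
  obtain ⟨r, hr⟩ := IsAlgClosed.exists_pow_nat_eq (- ι g.1.det) (n := 2) (by norm_num)
  rw [sq] at hr
  have hex : ∀ e : Tor R g, ∃ ρ, Wt R g r e ρ := by
    rintro ⟨e, t, h1, h2⟩
    exact wt_exists R htr hs hr h1 h2
  choose f hf using hex
  let φ : Tor R g →* AlgebraicClosure F :=
    { toFun := f
      map_one' := wt_unique R hs (hf 1) (wt_one R)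
      map_mul' := fun x y => wt_unique R hs (hf (x * y)) (wt_mul R htr hr (hf x) (hf y)) }
  have hk : ∀ x, φ x = 1 → x = 1 := by
    intro x hx
    have h1 := hf x
    have h2 : f x = 1 := hx
    rw [h2] at h1
    exact Subtype.ext (eq_one_of_wt R hr h1)
  refine isCyclic_of_injective_ringHom φ ?_
  intro x y hxy
  have h1 : φ (x * y⁻¹) = 1 := by
    have h2 : φ y * φ y⁻¹ = 1 := by rw [← map_mul, mul_inv_cancel, map_one]
    rw [map_mul, hxy, h2]
  exact mul_inv_eq_one.1 (hk _ h1)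

end torus

/-- odd groups centralized by an involution of `PGL` lie in its torus -/
theorem le_tor {g : GL (Fin 2) F} {E : Subgroup L} (hE : Odd (Nat.card E))
    (hc : ∀ e ∈ E, R.gl g e = e) : E ≤ Tor R g := by
  intro e he
  obtain ⟨t, ht⟩ := R.mem_PGL.1 (R.conj_mem_PGL e)
  have h1 : R.gl g * MulAut.conj e = MulAut.conj e * R.gl g := by
    ext x
    rw [MulAut.mul_apply, MulAut.mul_apply, MulAut.conj_apply, MulAut.conj_apply, map_mul, map_mul,
      map_inv, hc e he]
  rw [ht] at h1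
  rcases R.comm_cases h1.symm with h2 | h2
  · exact ⟨t, ht, h2.symm⟩
  · have h3 := R.anticomm_inv h2
    rw [← ht, ← map_mul] at h3
    have h4 : e * e = 1 := R.conj_injective (by rw [h3, map_one])
    have h5 : e ∈ (⊥ : Subgroup L) := mem_of_sq (odd_orderOf hE he) (by rw [h4]; exact one_mem _)
    rw [mem_bot.1 h5]
    exact one_mem _

include R in
/-- `F2` -/
theorem f2 {ξ : MulAut L} (hξ : ξ * ξ = 1) (ho : ∀ l, ξ ≠ MulAut.conj l) : F2 ξ := by
  have hfin : Finite L := R.finite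
  have hout : ∀ α β : MulAut L, Odd (orderOf β) → α * β * α⁻¹ = β⁻¹ → ∃ l, β = MulAut.conj l := by
    intro α β hβ hab
    have h1 : R.fld β = 1 := by
      have h2 : R.fld β * R.fld β = 1 := by
        have h3 := congrArg R.fld hab
        rw [map_mul, map_mul, map_inv, map_inv] at h3
        have h4 : R.fld α * R.fld β = R.fld β * R.fld α := Cfsg.Agent.Lib.AutSL2Out.ringEquiv_comm _ _
        rw [h4, mul_inv_cancel_right] at h3
        exact mul_eq_one_iff_eq_inv.2 h3
      have h5 : R.fld β ∈ (⊥ : Subgroup (F ≃+* F)) :=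
        mem_of_sq (Odd.of_dvd_nat hβ (orderOf_map_dvd _ _)) (by rw [h2]; exact one_mem _)
      exact mem_bot.1 h5
    have h2 : R.o1 β = 1 := by
      have h5 : R.o1 β ∈ (⊥ : Subgroup ℤˣ) :=
        mem_of_sq (Odd.of_dvd_nat hβ (orderOf_map_dvd _ _)) (by
          rw [Int.units_mul_self]; exact one_mem _)
      exact mem_bot.1 h5
    have h3 := R.mem_inn_iff.2 ⟨h1, h2⟩
    obtain ⟨l, hl⟩ := h3
    exact ⟨l, hl.symm⟩
  by_cases hf : R.fld ξ = 1
  · obtain ⟨g, rfl⟩ := R.mem_PGL.1 (R.mem_PGL_iff_fld.2 hf)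
    have hne : R.gl g ≠ 1 := fun h => ho 1 (by rw [h, map_one])
    have hT := cyclic_tor R (R.tr_of_inv hne hξ) (R.not_scalar_of_ne hne)
    refine ⟨fun E h1 h2 _ => ?_, fun E E' h1 h2 _ h3 _ h4 => ?_, hout⟩
    · exact Subgroup.isCyclic_of_le (le_tor R h1 h2)
    · have h5 := le_tor R h1 h2
      have h6 := le_tor R (h4 ▸ h1) h3
      exact le_antisymm (le_of_card hT h5 h6 h4) (le_of_card hT h6 h5 h4.symm)
  · refine ⟨fun E h1 h2 h3 => ?_, fun E E' h1 h2 h3 h4 h5 h6 => ?_, hout⟩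
    · rw [field_bot R hξ hf h1 h2 h3]
      infer_instance
    · rw [field_bot R hξ hf h1 h2 h3, field_bot R hξ hf (h6 ▸ h1) h4 h5]

end rep

/-- **`KF2`** -/
theorem kf2 : Defs.KF2.{u} := by
  rintro D _ ⟨F, _, _, hodd, -, ⟨e⟩⟩
  let R := Rep.ofEquiv (two_ne_zero_of_odd hodd) e
  refine ⟨fun z hz => ?_, fun ξ hξ ho => f2 R hξ ho⟩
  have h1 : z ∈ center D := Subgroup.mem_center_iff.2 fun d => (hz d).symm
  rwa [R.center_eq_bot, mem_bot] at h1

end Cfsg.Agent.UGT.LTF.KF2
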