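import Mathlib

/-!
# The link lemma

`x`, `a` commuting involutions, not conjugate in `G`, `Δ = a^G`, `L`, `K ≤ C(a)`, `[L, K] = 1`, `a` the only involution of
`C_K(x)`, `Δ ∩ C(⟨x, a⟩) = {a}`, and every `d ∈ Δ ∩ C(a)` satisfies `(x' d)² ∈ K` for some `x' ∈ x^L`.

* `pi`: the product of two distinct commuting elements of `Δ` is in `Δ`.
* `exists_link`: every `z ∈ Δ` commutes with an involution `e ∈ C(x)` with `e ∈ Δ` or `x e ∈ Δ`.
* `mem_of_link`: so `Δ ≤ M` if `C(x)`, `C(a) ≤ M`, `Δ ∩ C(x) = a^{C(x)}` and `Δ ∩ C(x a) ≤ M`.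
-/

set_option autoImplicit false

open Subgroup

namespace Cfsg.Agent.UGT.LTF.Link

variable {G : Type*} [Group G]

section dihedral

variable {s t : G}

theorem inv_eq (hs : s * s = 1) (ht : t * t = 1) : (s * t)⁻¹ = t * s := by
  rw [mul_inv_rev, inv_eq_of_mul_eq_one_left hs, inv_eq_of_mul_eq_one_left ht]

theorem left_conj (hs : s * s = 1) (ht : t * t = 1) (n : ℕ) :
    s * (s * t) ^ n * s⁻¹ = ((s * t) ^ n)⁻¹ := by
  rw [← conj_pow, ← inv_pow]
  congr 1
  rw [inv_eq hs ht, inv_eq_of_mul_eq_one_left hs, ← mul_assoc, hs, one_mul]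

theorem right_conj (hs : s * s = 1) (ht : t * t = 1) (n : ℕ) :
    t * (s * t) ^ n * t⁻¹ = ((s * t) ^ n)⁻¹ := by
  rw [← conj_pow, ← inv_pow]
  congr 1
  rw [inv_eq hs ht, inv_eq_of_mul_eq_one_left ht, mul_assoc, mul_assoc, ht, mul_one]

/-- `t ~ ρ^(2 j) t`, `ρ = s t` -/
theorem isConj_even (hs : s * s = 1) (ht : t * t = 1) (j : ℕ) :
    IsConj t ((s * t) ^ (2 * j) * t) := by
  rw [isConj_iff]
  refine ⟨(s * t) ^ j, ?_⟩
  have h : t * ((s * t) ^ j)⁻¹ * t⁻¹ = (s * t) ^ j := by
    have h1 := congrArg (·⁻¹) (right_conj hs ht j)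
    simp only [mul_inv_rev, inv_inv] at h1
    rw [← mul_assoc] at h1
    exact h1
  calc (s * t) ^ j * t * ((s * t) ^ j)⁻¹ = (s * t) ^ j * (t * ((s * t) ^ j)⁻¹ * t⁻¹) * t := by group
    _ = _ := by rw [h, two_mul, pow_add]

/-- `t ~ s ρ^(2 j + 1)`, `ρ = s t` -/
theorem isConj_odd (hs : s * s = 1) (ht : t * t = 1) (j : ℕ) :
    IsConj t (s * (s * t) ^ (2 * j + 1)) := by
  rw [isConj_iff]
  refine ⟨((s * t) ^ j)⁻¹, ?_⟩
  have h : s⁻¹ * ((s * t) ^ j)⁻¹ * s = (s * t) ^ j := by
    rw [← left_conj hs ht j]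
    group
  have h0 : t = s * (s * t) := by rw [← mul_assoc, hs, one_mul]
  calc ((s * t) ^ j)⁻¹ * t * ((s * t) ^ j)⁻¹⁻¹ = ((s * t) ^ j)⁻¹ * (s * (s * t)) * (s * t) ^ j := by
        rw [← h0, inv_inv]
    _ = s * (s⁻¹ * ((s * t) ^ j)⁻¹ * s) * (s * t) * (s * t) ^ j := by group
    _ = _ := by
        rw [h, pow_succ, two_mul, pow_add]
        have hc : (s * t) * (s * t) ^ j = (s * t) ^ j * (s * t) := (Commute.self_pow _ _).eq
        rw [mul_assoc s, mul_assoc s, mul_assoc ((s * t) ^ j) (s * t), hc]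
        simp only [mul_assoc]

/-- If the order of `s t` is odd, then `s ~ t`. -/
theorem isConj_of_odd (hs : s * s = 1) (ht : t * t = 1) {n : ℕ} (hn : Odd n) (h : (s * t) ^ n = 1) :
    IsConj t s := by
  obtain ⟨j, rfl⟩ := hn
  have h1 := isConj_odd hs ht j
  rwa [h, mul_one] at h1

end dihedral

variable [Finite G]

/-- Two involutions, not conjugate: the central involution `u` of the dihedral group. -/
theorem exists_central {s t : G} (hs : s * s = 1) (ht : t * t = 1) (hst : ¬ IsConj t s) :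
    ∃ k : ℕ, 1 ≤ k ∧ (s * t) ^ k ≠ 1 ∧ (s * t) ^ k * (s * t) ^ k = 1 ∧
      (s * t) ^ k * s = s * (s * t) ^ k ∧ (s * t) ^ k * t = t * (s * t) ^ k ∧
      (Even k → IsConj t ((s * t) ^ k * t)) ∧ (Odd k → IsConj t (s * (s * t) ^ k)) := by
  obtain ⟨n, hn⟩ : ∃ n, n = orderOf (s * t) := ⟨_, rfl⟩
  have hn0 : 0 < n := hn ▸ orderOf_pos _
  have hn1 : (s * t) ^ n = 1 := hn ▸ pow_orderOf_eq_one _
  rcases Nat.even_or_odd n with he | ho
  · obtain ⟨k, hk⟩ := he
    have hk1 : 1 ≤ k := by omega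
    have h1 : (s * t) ^ k ≠ 1 := by
      intro h
      have := Nat.le_of_dvd (by omega) (orderOf_dvd_of_pow_eq_one h)
      omega
    have h2 : (s * t) ^ k * (s * t) ^ k = 1 := by rw [← pow_add, ← hk, hn1]
    have h3 : ((s * t) ^ k)⁻¹ = (s * t) ^ k := inv_eq_of_mul_eq_one_left h2
    refine ⟨k, hk1, h1, h2, ?_, ?_, ?_, ?_⟩
    · have := left_conj hs ht k
      rw [h3, mul_inv_eq_iff_eq_mul] at this
      exact this.symm
    · have := right_conj hs ht k
      rw [h3, mul_inv_eq_iff_eq_mul] at this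
      exact this.symm
    · rintro ⟨j, hj⟩
      rw [hj, ← two_mul]
      exact isConj_even hs ht j
    · rintro ⟨j, rfl⟩
      exact isConj_odd hs ht j
  · exact (hst (isConj_of_odd hs ht ho hn1)).elim

section link

variable {x a : G} {L K : Subgroup G}

/-- **(PI)** -/
theorem pi (hx : x * x = 1) (ha : a * a = 1) (hxa : x * a = a * x) (hcon : ¬ IsConj a x)
    (hLa : ∀ l ∈ L, l * a = a * l) (hLK : ∀ l ∈ L, ∀ k ∈ K, l * k = k * l)
    (hK : ∀ k ∈ K, k * k = 1 → k ≠ 1 → k * x = x * k → k = a)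
    (hF : ∀ d, IsConj a d → d * x = x * d → d * a = a * d → d = a)
    (hV : ∀ d, IsConj a d → d * a = a * d → ∃ l ∈ L, (l * x * l⁻¹ * d) ^ 2 ∈ K)
    {d d' : G} (hd : IsConj a d) (hd' : IsConj a d') (hc : d * d' = d' * d) (hne : d ≠ d') :
    IsConj a (d * d') := by
  -- WLOG `d = a`
  obtain ⟨g, rfl⟩ := isConj_iff.mp hd
  obtain ⟨b, hb⟩ : ∃ b, b = g⁻¹ * d' * g := ⟨_, rfl⟩
  have hd'b : d' = g * b * g⁻¹ := by rw [hb]; group
  subst hd'b
  have hab : IsConj a b := hd'.trans (isConj_iff.mpr ⟨g⁻¹, by group⟩)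
  have hcab : b * a = a * b := by
    have h1 : g * (a * b) * g⁻¹ = g * (b * a) * g⁻¹ := by
      calc g * (a * b) * g⁻¹ = g * a * g⁻¹ * (g * b * g⁻¹) := by group
        _ = g * b * g⁻¹ * (g * a * g⁻¹) := hc
        _ = _ := by group
    exact (mul_left_cancel (mul_right_cancel h1)).symm
  have hneb : a ≠ b := fun h => hne (by rw [h])
  have hkey : IsConj a (a * b) := by
    have hb2 : b * b = 1 := by
      obtain ⟨c, rfl⟩ := isConj_iff.mp hab
      calc c * a * c⁻¹ * (c * a * c⁻¹) = c * (a * a) * c⁻¹ := by group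
        _ = 1 := by rw [ha]; group
    obtain ⟨l, hl, hsq⟩ := hV b hab hcab
    obtain ⟨y, hy⟩ : ∃ y, y = l * x * l⁻¹ := ⟨_, rfl⟩
    rw [← hy] at hsq
    have hy2 : y * y = 1 := by
      rw [hy]
      calc l * x * l⁻¹ * (l * x * l⁻¹) = l * (x * x) * l⁻¹ := by group
        _ = 1 := by rw [hx]; group
    have hxy : IsConj x y := isConj_iff.mpr ⟨l, hy.symm⟩
    have hncon : ¬ IsConj b y := fun h => hcon ((hab.trans h).trans hxy.symm)
    have hla := hLa l hl
    have hlinva : l⁻¹ * a = a * l⁻¹ := by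
      have := congrArg (fun z => l⁻¹ * z * l⁻¹) hla
      simpa [mul_assoc] using this.symm
    have hya : y * a = a * y := by
      rw [hy]
      calc l * x * l⁻¹ * a = l * x * (l⁻¹ * a) := by group
        _ = l * (x * a) * l⁻¹ := by rw [hlinva]; group
        _ = l * a * x * l⁻¹ := by rw [hxa]; group
        _ = a * (l * x * l⁻¹) := by rw [hla]; group
    obtain ⟨k, hk1, hu1, hu2, hus, hut, hev, hod⟩ := exists_central hy2 hb2 hncon
    obtain ⟨u, hu⟩ : ∃ u, u = (y * b) ^ k := ⟨_, rfl⟩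
    rw [← hu] at hu1 hu2 hus hut hev hod
    rcases Nat.even_or_odd k with he | ho
    · -- `u ∈ K ∩ C(y)`
      have huK : u ∈ K := by
        obtain ⟨j, hj⟩ := he
        rw [hu, hj, ← two_mul, pow_mul]
        exact pow_mem hsq j
      have hux : u * x = x * u := by
        have h1 := hLK l hl u huK
        have h2 : l⁻¹ * u = u * l⁻¹ := by
          have := congrArg (fun z => l⁻¹ * z * l⁻¹) h1
          simpa [mul_assoc] using this.symm
        have h3 : x = l⁻¹ * y * l := by rw [hy]; group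
        rw [h3]
        calc u * (l⁻¹ * y * l) = (u * l⁻¹) * y * l := by group
          _ = l⁻¹ * (u * y) * l := by rw [← h2]; group
          _ = l⁻¹ * y * (u * l) := by rw [hus]; group
          _ = l⁻¹ * y * l * u := by rw [← h1]; group
      have hua : u = a := hK u huK hu2 hu1 hux
      have h1 := hev he
      rw [hua] at h1
      exact hab.trans h1
    · -- `y u ∈ Δ ∩ C(y, a)`
      exfalso
      have h1 : IsConj a (y * u) := hab.trans (hod ho)
      have hua : u * a = a * u := by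
        have h2 : Commute (y * b) a := Commute.mul_left hya hcab
        rw [hu]
        exact h2.pow_left k
      obtain ⟨w, hw⟩ : ∃ w, w = l⁻¹ * (y * u) * l := ⟨_, rfl⟩
      have hwx : w = l⁻¹ * (y * u) * l := hw
      have h3 : IsConj a w := h1.trans (isConj_iff.mpr ⟨l⁻¹, by rw [hw]; group⟩)
      have h4 : w * x = x * w := by
        have h3 : x = l⁻¹ * y * l := by rw [hy]; group
        rw [h3, hw]
        calc l⁻¹ * (y * u) * l * (l⁻¹ * y * l) = l⁻¹ * y * (u * y) * l := by group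
          _ = l⁻¹ * y * (y * u) * l := by rw [hus]
          _ = _ := by group
      have h5 : w * a = a * w := by
        rw [hw]
        calc l⁻¹ * (y * u) * l * a = l⁻¹ * (y * u) * (l * a) := by group
          _ = l⁻¹ * (y * (u * a)) * l := by rw [hla]; group
          _ = l⁻¹ * ((y * a) * u) * l := by rw [hua]; group
          _ = (l⁻¹ * a) * (y * u) * l := by rw [hya]; group
          _ = _ := by rw [hlinva]; group
      have h6 : w = a := hF w h3 h4 h5
      have h7 : y * u = a := by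
        have : y * u = l * w * l⁻¹ := by rw [hw]; group
        rw [this, h6, hla]
        group
      -- `b` commutes with `u` and `a`, so with `y`, so with `x' = y`
      have h8 : y = a * u := by
        rw [← h7, mul_assoc, hu2, mul_one]
      have h9 : b * y = y * b := by
        rw [h8]
        calc b * (a * u) = (b * a) * u := by group
          _ = a * (b * u) := by rw [hcab]; group
          _ = a * (u * b) := by rw [hut]
          _ = _ := by group
      -- conjugate by `l`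
      have h10 : l⁻¹ * b * l = a := by
        apply hF
        · exact hab.trans (isConj_iff.mpr ⟨l⁻¹, by group⟩)
        · have h3 : x = l⁻¹ * y * l := by rw [hy]; group
          rw [h3]
          calc l⁻¹ * b * l * (l⁻¹ * y * l) = l⁻¹ * (b * y) * l := by group
            _ = l⁻¹ * (y * b) * l := by rw [h9]
            _ = _ := by group
        · calc l⁻¹ * b * l * a = l⁻¹ * b * (l * a) := by group
            _ = l⁻¹ * (b * a) * l := by rw [hla]; group
            _ = (l⁻¹ * a) * b * l := by rw [hcab]; group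
            _ = _ := by rw [hlinva]; group
      apply hneb
      have h11 : b = l * (l⁻¹ * b * l) * l⁻¹ := by group
      rw [h11, h10, hla]
      group
  refine hkey.trans (isConj_iff.mpr ⟨g, by group⟩)

/-- Every `z ∈ Δ` commutes with an involution `e ∈ C(x)` with `e ∈ Δ` or `x e ∈ Δ`. -/
theorem exists_link (hx : x * x = 1) (ha : a * a = 1) (hcon : ¬ IsConj a x)
    (hPI : ∀ d d', IsConj a d → IsConj a d' → d * d' = d' * d → d ≠ d' → IsConj a (d * d'))
    {z : G} (hz : IsConj a z) :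
    ∃ e : G, e * z = z * e ∧ e * x = x * e ∧ (IsConj a e ∨ IsConj a (x * e)) := by
  have hz2 : z * z = 1 := by
    obtain ⟨c, rfl⟩ := isConj_iff.mp hz
    calc c * a * c⁻¹ * (c * a * c⁻¹) = c * (a * a) * c⁻¹ := by group
      _ = 1 := by rw [ha]; group
  obtain ⟨k, hk1, hu1, hu2, hus, hut, hev, hod⟩ := exists_central hx hz2 fun h => hcon (hz.trans h)
  refine ⟨(x * z) ^ k, hut, hus, ?_⟩
  rcases Nat.even_or_odd k with he | ho
  · left
    have h1 := hz.trans (hev he)
    have h2 := hPI _ _ h1 hz (by rw [mul_assoc, ← mul_assoc z, ← hut]; group) fun h => hu1 (by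
      have := congrArg (fun y => y * z⁻¹) h
      simpa using this)
    rwa [mul_assoc, hz2, mul_one] at h2
  · exact Or.inr (hz.trans (hod ho))

/-- `Δ ≤ M` -/
theorem mem_of_link (hx : x * x = 1) (ha : a * a = 1) (hcon : ¬ IsConj a x)
    (hPI : ∀ d d', IsConj a d → IsConj a d' → d * d' = d' * d → d ≠ d' → IsConj a (d * d'))
    {M : Subgroup G} (hxM : ∀ y, y * x = x * y → y ∈ M) (haM : ∀ y, y * a = a * y → y ∈ M)
    (hfus : ∀ d, IsConj a d → d * x = x * d → ∃ c, c * x = x * c ∧ c * a * c⁻¹ = d)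
    (hxaM : ∀ d, IsConj a d → d * (x * a) = x * a * d → d ∈ M) {z : G} (hz : IsConj a z) :
    z ∈ M := by
  obtain ⟨e, hez, hex, h⟩ := exists_link hx ha hcon hPI hz
  rcases h with h | h
  · obtain ⟨c, hcx, rfl⟩ := hfus e h hex
    have hcM := hxM c hcx
    have h1 : c⁻¹ * z * c ∈ M := by
      apply haM
      calc c⁻¹ * z * c * a = c⁻¹ * (z * (c * a * c⁻¹)) * c := by group
        _ = c⁻¹ * (c * a * c⁻¹ * z) * c := by rw [hez]
        _ = _ := by group
    have h2 := mul_mem (mul_mem hcM h1) (inv_mem hcM)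
    convert h2 using 1
    group
  · have hxe : x * e * x = x * (x * e) := by rw [mul_assoc, hex]
    obtain ⟨c, hcx, hc⟩ := hfus (x * e) h hxe
    have hcM := hxM c hcx
    have he : e = x * (c * a * c⁻¹) := by rw [hc, ← mul_assoc, hx, one_mul]
    have hcx' : c⁻¹ * x = x * c⁻¹ := by
      have := congrArg (fun z => c⁻¹ * z * c⁻¹) hcx
      simpa [mul_assoc] using this.symm
    have he' : e = c * (x * a) * c⁻¹ := by
      rw [he]
      calc x * (c * a * c⁻¹) = (x * c) * a * c⁻¹ := by group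
        _ = _ := by rw [← hcx]; group
    have h1 : c⁻¹ * z * c ∈ M := by
      apply hxaM
      · exact hz.trans (isConj_iff.mpr ⟨c⁻¹, by group⟩)
      · calc c⁻¹ * z * c * (x * a) = c⁻¹ * (z * (c * (x * a) * c⁻¹)) * c := by group
          _ = c⁻¹ * (c * (x * a) * c⁻¹ * z) * c := by rw [← he', hez]
          _ = _ := by group
    have h2 := mul_mem (mul_mem hcM h1) (inv_mem hcM)
    convert h2 using 1
    group

/-- The link lemma: `a^G ⊆ M`. -/
theorem normalClosure_le (hx : x * x = 1) (ha : a * a = 1) (hxa : x * a = a * x)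
    (hcon : ¬ IsConj a x)
    (hLa : ∀ l ∈ L, l * a = a * l) (hLK : ∀ l ∈ L, ∀ k ∈ K, l * k = k * l)
    (hK : ∀ k ∈ K, k * k = 1 → k ≠ 1 → k * x = x * k → k = a)
    (hF : ∀ d, IsConj a d → d * x = x * d → d * a = a * d → d = a)
    (hV : ∀ d, IsConj a d → d * a = a * d → ∃ l ∈ L, (l * x * l⁻¹ * d) ^ 2 ∈ K)
    {M : Subgroup G} (hxM : ∀ y, y * x = x * y → y ∈ M) (haM : ∀ y, y * a = a * y → y ∈ M)
    (hfus : ∀ d, IsConj a d → d * x = x * d → ∃ c, c * x = x * c ∧ c * a * c⁻¹ = d)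
    (hxaM : ∀ d, IsConj a d → d * (x * a) = x * a * d → d ∈ M) :
    normalClosure ({a} : Set G) ≤ M := by
  rw [normalClosure, closure_le]
  intro z hz
  rw [Group.mem_conjugatesOfSet_iff] at hz
  obtain ⟨a', ha', hz⟩ := hz
  rw [Set.mem_singleton_iff] at ha'
  subst ha'
  exact mem_of_link hx ha hcon
    (fun d d' h1 h2 h3 h4 => pi hx ha hxa hcon hLa hLK hK hF hV h1 h2 h3 h4) hxM haM hfus hxaM hz

end link

end Cfsg.Agent.UGT.LTF.Link
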