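import Cfsg.Agent.UGT.LTF.Nine

/-!
# (9), (10): the end

* `sit_xa`: the situation for `x a`, if `O(C(x a)) ∩ C(a) ≠ 1`.
* `core_xa`: `O(C(x a)) ≤ N(L)`.
* `delta_xa`: the conjugates of `a` in `C(x a)` are in `N(L)`.
* `false_of_sit`: the situation does not occur.
-/

set_option autoImplicit false

open Cfsg Subgroup
open Cfsg.Agent.SignalizersComponents Cfsg.Agent.Lib
open Cfsg.Agent.SignalizersComponents.IntrinsicBasic
open Cfsg.Agent.Intrinsic.Basic Cfsg.Agent.Intrinsic.Cen Cfsg.Agent.Intrinsic.Diag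
open Cfsg.Agent.McLLyComp.Act
open Cfsg.Agent.UGT.Triple Cfsg.Agent.UGT.TriBase Cfsg.Agent.UGT.Res.Base
open Cfsg.Agent.UGT.Iface (Bar IsL2 IsL34 IsAltOdd)
open Cfsg.Agent.UGT.LTF.Defs Cfsg.Agent.UGT.LTF.Basics Cfsg.Agent.UGT.LTF.Comp
open Cfsg.Agent.UGT.LTF.Wild Cfsg.Agent.UGT.LTF.Seven Cfsg.Agent.UGT.LTF.EightA
open Cfsg.Agent.UGT.LTF.EightB Cfsg.Agent.UGT.LTF.EightC Cfsg.Agent.UGT.LTF.EightD
open Cfsg.Agent.UGT.LTF.EightE Cfsg.Agent.UGT.LTF.EightF Cfsg.Agent.UGT.LTF.EightG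
open Cfsg.Agent.UGT.LTF.Nine

namespace Cfsg.Agent.UGT.LTF.Final

universe u

variable {G : Type u} [Group G] [Finite G] {X : Subgroup G} {x a b : G} {L S : Subgroup G} {y t : G}

/-- the situation for `x a` -/
theorem sit_xa (h : Sit X x a b L S) (T : IsTriple (x * a) a L) : Sit X (x * a) a b L S := by
  have hy : IsY x a (x * a) := Or.inr rfl
  have hS : S ⊓ centralizer ({x * a} : Set G) = S ⊓ centralizer ({x} : Set G) := T_eq h hy
  have hiff := fun {s : G} (hs : s ∈ S) => y_iff h hy (aS h hs)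
  exact
    { Xn := h.Xn
      sim := h.sim
      xX := yX h hy
      two := fun g => by
        rcases h.two g with h1 | h1
        · exact Or.inl h1
        · right
          have h2 : x * a * g = x * g * (g⁻¹ * a * g⁻¹⁻¹) := by group
          rw [h2]
          exact mul_mem h1 (h.Xn.conj_mem a h.aX g⁻¹)
      cf := h.cf
      typ := h.typ
      T := T
      aX := h.aX
      l34 := h.l34
      S2 := h.S2
      SC := h.SC
      SL := h.SL
      xS := yS h hy
      syl := by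
        rw [hS]
        exact sylY h hy
      bS := h.bS
      bL := h.bL
      b2 := h.b2
      bc := h.bc
      zt := fun z hz hzx hz2 hzX hc => h.zt z hz ((hiff hz).mp hzx) hz2 hzX fun s hs hsx =>
        hc s hs ((hiff hs).mpr hsx)
      nab := h.nab
      naab := h.naab
      nbab := h.nbab
      uniq := fun k hka hf hkk hk1 hkx => h.uniq k hka hf hkk hk1 ((y_iff h hy hka).mp hkx)
      rank := fun E hE hE2 => rankY h hy hE hE2
      w8 := by
        rw [hS]
        exact h.w8 }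

/-- `O(C(x a)) ≤ N(L)` if `O(C(x a)) ∩ C(a) = 1` -/
theorem core_xa' (kf : KF34.{u}) (kf2 : KF2.{u}) (kfa : KFA.{u}) (h : Sit X x a b L S)
    (h1 : ∀ o ∈ core (centralizer ({x * a} : Set G)), a * o = o * a → o = 1) :
    core (centralizer ({x * a} : Set G)) ≤ normalizer (L : Set G) := by
  have hy : IsY x a (x * a) := Or.inr rfl
  have haa := sq_of_order h.T.inva
  have hbb := sq_of_order h.b2
  have hb1 := ne_one_of_order h.b2
  have hay : a * (x * a) = x * a * a := (y_iff h hy rfl).mpr h.T.comm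
  obtain ⟨O, hO⟩ : ∃ O, O = core (centralizer ({x * a} : Set G)) := ⟨_, rfl⟩
  have hainv : ∀ o ∈ O, a * o * a⁻¹ = o⁻¹ := by
    rw [hO]
    exact inv_of_fpf (odd_card_core _) haa (fun d hd => conj_core (mem_c hay) hd) h1
  have hinv : ∀ t, Inv a (x * a) t := fun t d hd _ => hainv d (hO ▸ hd)
  have habinv := inv_ab kf kf2 kfa h hy (hinv (a * b))
  -- `b` centralizes `O`
  have hbO : ∀ o ∈ O, o * b = b * o := by
    intro o ho
    have h2 := habinv o (hO ▸ ho)
    have h3 : b * o * b⁻¹ = o := by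
      have h4 := hainv _ (inv_mem ho)
      have hai : a⁻¹ = a := inv_eq_of_mul_eq_one_left haa
      calc b * o * b⁻¹ = a⁻¹ * (a * b * o * (a * b)⁻¹) * a := by group
        _ = a * o⁻¹ * a⁻¹ := by rw [h2, hai]
        _ = o := by rw [h4, inv_inv]
    calc o * b = (b * o * b⁻¹) * b := by rw [h3]
      _ = _ := by group
  obtain ⟨p, hp, hpb, hpx⟩ := exists_p kf h
  have hpO : p ∈ normalizer (O : Set G) := by
    rw [mem_normalizer_iff_cj]
    apply cj_eq
    rintro _ ⟨o, ho, rfl⟩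
    rw [hO] at ho ⊢
    exact eight_b kf kf2 kfa h hy (hinv b) hp hpb hpx ho (hbO o (hO ▸ ho))
  have hLO : L ≤ normalizer (O : Set G) := by
    apply gen_L kf h hp hpb hpx
    intro z hz _ hxz
    have hzO : z ∈ normalizer (O : Set G) := by
      rw [hO]
      exact le_normalizer_core _ (mem_c ((y_iff h hy (Y_comm h hz)).mpr hxz.symm))
    exact ⟨hzO, mul_mem (mul_mem hpO hzO) (inv_mem hpO)⟩
  -- `C_L(O)` is normal in `L`
  have hc := core_L h
  have F := ft kf h
  have hsimp := F.simp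
  obtain ⟨K, hK⟩ : ∃ K, K = ((centralizer (O : Set G)).subgroupOf L).map
      (QuotientGroup.mk' (oddCore ↥L)) := ⟨_, rfl⟩
  have hKn : K.Normal := by
    constructor
    intro k hk g
    rw [hK] at hk ⊢
    obtain ⟨⟨k, hkL⟩, hkO, rfl⟩ := hk
    obtain ⟨⟨g, hg⟩, rfl⟩ := QuotientGroup.mk_surjective g
    refine ⟨⟨g * k * g⁻¹, mul_mem (mul_mem hg hkL) (inv_mem hg)⟩, ?_, rfl⟩
    change g * k * g⁻¹ ∈ centralizer (O : Set G)
    rw [mem_centralizer_iff]
    intro o ho
    have h2 : g⁻¹ * o * g ∈ O := by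
      have h3 := (mem_normalizer_iff.mp (hLO (inv_mem hg)) o).mp ho
      rwa [inv_inv] at h3
    have h3 : (g⁻¹ * o * g) * k = k * (g⁻¹ * o * g) := mem_centralizer_iff.mp hkO _ h2
    calc o * (g * k * g⁻¹) = g * ((g⁻¹ * o * g) * k) * g⁻¹ := by group
      _ = g * (k * (g⁻¹ * o * g)) * g⁻¹ := by rw [h3]
      _ = _ := by group
  have hKt : K = ⊤ := by
    rcases hsimp.eq_bot_or_eq_top_of_normal K hKn with h2 | h2
    · exfalso
      have h3 : (QuotientGroup.mk (⟨b, h.bL⟩ : ↥L) : Bar L) ∈ K := by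
        rw [hK]
        refine ⟨⟨b, h.bL⟩, ?_, rfl⟩
        change b ∈ centralizer (O : Set G)
        rw [mem_centralizer_iff]
        exact fun o ho => hbO o ho
      rw [h2, mem_bot] at h3
      exact ne_bar hc h.bL hb1 h3
    · exact h2
  intro o ho
  rw [← hO] at ho
  refine (fixes_of_comm (J := L) fun l hl => ?_).1
  have h2 : (QuotientGroup.mk (⟨l, hl⟩ : ↥L) : Bar L) ∈ K := hKt ▸ mem_top _
  rw [hK] at h2
  obtain ⟨⟨m, hm⟩, hmO, hml⟩ := h2
  have h3 : m = l := mk_inj hc hm hl hml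
  rw [← h3]
  exact mem_centralizer_iff.mp hmO o ho

/-- `O(C(x a)) ≤ N(L)` -/
theorem core_xa (kf : KF34.{u}) (kf2 : KF2.{u}) (kfa : KFA.{u}) (h : Sit X x a b L S) :
    core (centralizer ({x * a} : Set G)) ≤ normalizer (L : Set G) := by
  have hy : IsY x a (x * a) := Or.inr rfl
  have hay : a * (x * a) = x * a * a := (y_iff h hy rfl).mpr h.T.comm
  by_cases h1 : ∀ o ∈ core (centralizer ({x * a} : Set G)), a * o = o * a → o = 1
  · exact core_xa' kf kf2 kfa h h1
  · push Not at h1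
    obtain ⟨o, ho, hoa, ho1⟩ := h1
    obtain ⟨J, T, -⟩ := exists_triple (y2 h hy) h.T.inva hay ho (mem_c hoa.symm)
      (by rw [core_a h, mem_bot]; exact ho1)
    have hJ : J = L := lone h T.comp (center_typ kf kf2 kfa T (core_of_comp T.comp (core_a h))
      (h.typ _ _ _ (yX h hy) h.aX T))
    subst hJ
    exact (core_le _).trans fun c hc => norm_x kf kf2 kfa (sit_xa h T) (comm_c hc)

/-- a conjugate of `a` in `C(y)` is conjugate to `a` in `C(y)` -/
theorem fusY (kf : KF34.{u}) (kf2 : KF2.{u}) (kfa : KFA.{u}) (h : Sit X x a b L S)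
    (hy : IsY x a y) {d : G} (hd : IsConj a d) (hdy : d * y = y * d) :
    ∃ c, c * y = y * c ∧ c * a * c⁻¹ = d := by
  obtain ⟨g, hg, hle⟩ := (sylY h hy).conj (isPGroup_zpowers (conj_ord h.T.inva hd))
    (zpowers_le.mpr (mem_c hdy))
  have h1 := mem_cj.mp (hle (mem_zpowers d))
  have h2 : g⁻¹ * d * g = a := by
    apply eq_a_of_S kf kf2 kfa h h1.1 (comm_c h1.2)
    refine hd.trans (isConj_iff.mpr ⟨g⁻¹, by group⟩)
  refine ⟨g, comm_c hg, ?_⟩
  rw [← h2]; group

/-- `C(y) = O(C(y)) (C(y) ∩ C(a))` -/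
theorem zsY (kf : KF34.{u}) (kf2 : KF2.{u}) (kfa : KFA.{u}) (h : Sit X x a b L S)
    (hy : IsY x a y) {c : G} (hc : c * y = y * c) : ∃ o ∈ core (centralizer ({y} : Set G)), ∃ d,
      d * a = a * d ∧ c = o * d := by
  have haa := sq_of_order h.T.inva
  have hay : a * y = y * a := (y_iff h hy rfl).mpr h.T.comm
  rcases Cfsg.Agent.UGT.SL.zstar_sub (X := centralizer ({y} : Set G)) (mem_c hay) haa
    (ne_one_of_order h.T.inva) with ⟨g, hg, h1, h2⟩ | ⟨N, hN, hodd, hn, hcom⟩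
  · have h3 : g * a * g⁻¹ * y = y * (g * a * g⁻¹) :=
      comm_c (mul_mem (mul_mem hg (mem_c hay)) (inv_mem hg))
    exact (h1 (hF kf kf2 kfa h (isConj_iff.mpr ⟨g, rfl⟩) ((y_iff h hy h2.symm).mp h3) h2.symm)).elim
  · have hNc : N ≤ core (centralizer ({y} : Set G)) := by
      refine le_core hN ?_ hodd
      intro y hy
      rw [mem_normalizer_iff]
      intro n
      refine ⟨hn y hy n, fun h3 => ?_⟩
      have h4 := hn y⁻¹ (inv_mem hy) _ h3
      have h5 : y⁻¹ * (y * n * y⁻¹) * y⁻¹⁻¹ = n := by group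
      rwa [h5] at h4
    have h3 := hcom c (mem_c hc)
    obtain ⟨o, ho, hoc⟩ := Intrinsic.Lifting.exists_commute (N := N) (v := a) (m := c) (n := 1)
      hodd (by rw [pow_one, pow_two, haa]) (by
        rw [mem_normalizer_iff]
        intro n
        have h5 : a ∈ centralizer ({y} : Set G) := mem_c hay
        refine ⟨hn a h5 n, fun h3 => ?_⟩
        have h4 := hn a⁻¹ (inv_mem h5) _ h3
        have h6 : a⁻¹ * (a * n * a⁻¹) * a⁻¹⁻¹ = n := by group
        rwa [h6] at h4) (by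
          have h5 := hn c⁻¹ (inv_mem (mem_c hc)) _ h3
          have h6 : c⁻¹ * (a * c * a⁻¹ * c⁻¹) * c⁻¹⁻¹ = c⁻¹ * (a * c * a⁻¹) := by group
          rwa [h6] at h5)
    exact ⟨c * o⁻¹ * c⁻¹, hNc (hn c (mem_c hc) _ (inv_mem ho)), c * o, hoc.symm, by group⟩

/-- **(9)** the conjugates of `a` in `C(x a)` are in `N(L)` -/
theorem delta_xa (kf : KF34.{u}) (kf2 : KF2.{u}) (kfa : KFA.{u}) (h : Sit X x a b L S) {d : G}
    (hd : IsConj a d) (hdx : d * (x * a) = x * a * d) : d ∈ normalizer (L : Set G) := by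
  have hy : IsY x a (x * a) := Or.inr rfl
  obtain ⟨c, hc, rfl⟩ := fusY kf kf2 kfa h hy hd hdx
  obtain ⟨o, ho, e, he, rfl⟩ := zsY kf kf2 kfa h hy hc
  have h1 : o * e ∈ normalizer (L : Set G) :=
    mul_mem (core_xa kf kf2 kfa h ho) (norm_L kf h he)
  exact mul_mem (mul_mem h1 (norm_L kf h rfl)) (inv_mem h1)

/-- `Δ ∩ C(a)` and polarities -/
theorem hV (kf : KF34.{u}) (h : Sit X x a b L S) {K : Subgroup G}
    (hK : ∀ k, k ∈ K ↔ k * a = a * k ∧ Fixes k L) {d : G} (hd : IsConj a d) (hda : d * a = a * d) :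
    ∃ l ∈ L, (l * x * l⁻¹ * d) ^ 2 ∈ K := by
  have haa := sq_of_order h.T.inva
  have hdd := conj_sq haa hd
  have hdL := norm_L kf h hda
  have hxL := h.T.x_mem
  have hxx := sq_of_order h.T.invx
  obtain ⟨l', hl'⟩ := (ft kf h).pol _ (act_sq hdL hdd)
  obtain ⟨⟨l, hl⟩, rfl⟩ := QuotientGroup.mk_surjective l'
  refine ⟨l, hl, (hK _).mpr ⟨?_, ?_⟩⟩
  · have h1 : l * x * l⁻¹ * d ∈ centralizer ({a} : Set G) :=
      mul_mem (mul_mem (mul_mem (mem_c (Y_comm h hl)) (mem_c h.T.comm.symm))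
        (inv_mem (mem_c (Y_comm h hl)))) (mem_c hda)
    exact comm_c (pow_mem h1 2)
  · have hlN : l ∈ normalizer (L : Set G) := le_normalizer hl
    have hyN : l * x * l⁻¹ ∈ normalizer (L : Set G) := mul_mem (mul_mem hlN hxL) (inv_mem hlN)
    rw [← act_of_mem hl, ← act_inv, ← act_mul, ← act_mul, ← act_mul, ← act_mul, act_eq_iff] at hl'
    have hyy : l * x * l⁻¹ * (l * x * l⁻¹) = 1 := by
      calc l * x * l⁻¹ * (l * x * l⁻¹) = l * (x * x) * l⁻¹ := by group
        _ = 1 := by rw [hxx]; group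
    have h2 : (l * x * l⁻¹ * d) ^ 2 = l * x * l⁻¹ * d * (d * (l * x * l⁻¹))⁻¹ := by
      have hdi : d⁻¹ = d := inv_eq_of_mul_eq_one_left hdd
      have hyi : (l * x * l⁻¹)⁻¹ = l * x * l⁻¹ := inv_eq_of_mul_eq_one_left hyy
      rw [mul_inv_rev, hdi, hyi, pow_two]
    rw [h2]
    exact hl'

/-- **(10)** the situation does not occur -/
theorem false_of_sit (kf : KF34.{u}) (kf2 : KF2.{u}) (kfa : KFA.{u}) (h : Sit X x a b L S) :
    False := by
  have haa := sq_of_order h.T.inva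
  have hxx := sq_of_order h.T.invx
  have hc := core_L h
  obtain ⟨K, hK⟩ : ∃ K : Subgroup G, ∀ k, k ∈ K ↔ k * a = a * k ∧ Fixes k L := by
    refine ⟨{ carrier := {k | k * a = a * k ∧ Fixes k L}
              mul_mem' := ?_
              one_mem' := ⟨by rw [one_mul, mul_one], fixes_one L⟩
              inv_mem' := ?_ }, fun k => Iff.rfl⟩
    · rintro u v ⟨h1, h2⟩ ⟨h3, h4⟩
      exact ⟨comm_c (mul_mem (mem_c h1) (mem_c h3)), fixes_mul h2 h4⟩
    · rintro u ⟨h1, h2⟩
      exact ⟨comm_c (inv_mem (mem_c h1)), fixes_inv h2⟩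
  have hcon : ¬ IsConj a x := fun h1 => h.xX (conj_X h h.aX h1)
  have hle := Link.normalClosure_le (L := L) (K := K) hxx haa h.T.comm.symm hcon
    (fun l hl => Y_comm h hl) (fun l hl k hk => (comm_of_fixes hc ((hK k).mp hk).2 hl).symm)
    (fun k hk hkk hk1 hkx => h.uniq k ((hK k).mp hk).1 ((hK k).mp hk).2 hkk hk1 hkx)
    (fun d hd hdx hda => hF kf kf2 kfa h hd hdx hda) (fun d hd hda => hV kf h hK hd hda)
    (M := normalizer (L : Set G)) (fun c hcx => norm_x kf kf2 kfa h hcx)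
    (fun c hca => norm_L kf h hca) (fun d hd hdx => fus kf kf2 kfa h hd hdx)
    (fun d hd hdx => delta_xa kf kf2 kfa h hd hdx)
  have hXn := h.Xn
  have hsim := h.sim
  have hncX : normalClosure ({a} : Set G) ≤ X := normalClosure_le_normal
    (Set.singleton_subset_iff.mpr h.aX)
  have hX : X ≤ normalClosure ({a} : Set G) := by
    have h1 : ((normalClosure ({a} : Set G)).subgroupOf X).Normal := inferInstance
    rcases hsim.eq_bot_or_eq_top_of_normal _ h1 with h2 | h2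
    · exfalso
      have h3 : (⟨a, h.aX⟩ : ↥X) ∈ (normalClosure ({a} : Set G)).subgroupOf X :=
        subset_normalClosure rfl
      rw [h2, mem_bot] at h3
      exact ne_one_of_order h.T.inva (congrArg Subtype.val h3)
    · exact subgroupOf_eq_top.mp h2
  have hLX : L ≤ X := le_X h h.T.comp
  have hLn : (L.subgroupOf X).Normal := by
    rw [normal_subgroupOf_iff_le_normalizer hLX]
    exact hX.trans hle
  rcases hsim.eq_bot_or_eq_top_of_normal _ hLn with h2 | h2
  · have h3 : (⟨b, bX h⟩ : ↥X) ∈ L.subgroupOf X := h.bL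
    rw [h2, mem_bot] at h3
    exact ne_one_of_order h.b2 (congrArg Subtype.val h3)
  · have h3 : X ≤ L := subgroupOf_eq_top.mp h2
    have haL : a ∈ L := h3 h.aX
    exact ne_one_of_order h.T.inva (center_L kf h a haL fun l hl => (Y_comm h hl).symm)

end Cfsg.Agent.UGT.LTF.Final
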