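import Cfsg.Agent.UGT.LTF.Defs
import Cfsg.Agent.UGT.A7.Mu
import Cfsg.Agent.UAlt.CoreAct
import Cfsg.Agent.UAlt.RootRF

/-!
# `KFA`: outer involutory automorphisms of `Aₙ`, `n` odd
-/

set_option autoImplicit false
set_option linter.unusedSectionVars false

open Cfsg Subgroup Equiv Equiv.Perm
open Cfsg.Agent.UAlt
open Cfsg.Agent.SignalizersComponents Cfsg.Agent.Lib
open Cfsg.Agent.SignalizersComponents.IntrinsicBasic
open Cfsg.Agent.Intrinsic.Basic
open Cfsg.Agent.StdAlt.Roots (IsRoot)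
open Cfsg.Agent.UGT.Iface (IsAltOdd)

namespace Cfsg.Agent.UGT.LTF.KFA

universe u

open Cfsg.Agent.UGT.LTF.Defs

section perm

variable {α : Type*} [Fintype α] [DecidableEq α]

theorem adjoin_le {G : Type*} [Group G] {E E' H : Subgroup G} {u : G}
    (h : ∀ g ∈ E', g ∈ E ∨ g * u ∈ E) (hE : E ≤ H) (hu : u ∈ H) : E' ≤ H := by
  intro g hg
  rcases h g hg with h1 | h1
  · exact hE h1
  · have := mul_mem (hE h1) (inv_mem hu)
    rwa [mul_inv_cancel_right] at this

/-- eight commuting elements -/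
theorem exists_eight {σ : Perm α} (hσ : σ * σ = 1) (h6 : 6 ≤ σ.support.card)
    (h2 : 2 ≤ (fixIn Finset.univ σ).card) : ∃ A : Subgroup (Perm α), Nat.card A = 8 ∧
      ∀ g ∈ A, g ∈ alternatingGroup α ∧ g * g = 1 ∧ g * σ = σ * g := by
  have hτ : ∀ y, σ (σ y) = y := fun y => by rw [← Perm.mul_apply, hσ]; rfl
  -- the points
  obtain ⟨f1, hf1, f2, hf2, hf⟩ := Finset.one_lt_card.mp h2
  have hf1 := (mem_fixIn.mp hf1).2
  have hf2 := (mem_fixIn.mp hf2).2
  obtain ⟨p1, hp1⟩ : σ.support.Nonempty := Finset.card_pos.mp (by omega)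
  obtain ⟨p2, hp2⟩ : ((σ.support.erase p1).erase (σ p1)).Nonempty := by
    apply Finset.card_pos.mp
    have e1 := Finset.pred_card_le_card_erase (s := σ.support) (a := p1)
    have e2 := Finset.pred_card_le_card_erase (s := σ.support.erase p1) (a := σ p1)
    omega
  obtain ⟨p3, hp3⟩ : ((((σ.support.erase p1).erase (σ p1)).erase p2).erase (σ p2)).Nonempty := by
    apply Finset.card_pos.mp
    have e1 := Finset.pred_card_le_card_erase (s := σ.support) (a := p1)
    have e2 := Finset.pred_card_le_card_erase (s := σ.support.erase p1) (a := σ p1)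
    have e3 := Finset.pred_card_le_card_erase (s := (σ.support.erase p1).erase (σ p1)) (a := p2)
    have e4 := Finset.pred_card_le_card_erase (s := ((σ.support.erase p1).erase (σ p1)).erase p2)
      (a := σ p2)
    omega
  simp only [Finset.mem_erase, mem_support] at hp1 hp2 hp3
  obtain ⟨a1, a2, a3⟩ := hp2
  obtain ⟨b1, b2, b3, b4, b5⟩ := hp3
  -- the transpositions
  have hne : ∀ {x y : α}, σ x = x → σ y ≠ y → x ≠ y := fun hx hy e => hy (e ▸ hx)
  have hs : ∀ {x y : α}, x ≠ σ y → σ x ≠ y := fun {x y} h e => h (by rw [← e, hτ])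
  have hmv : ∀ {x : α}, σ x ≠ x → σ (σ x) ≠ σ x := fun hx => by
    rw [hτ]; exact hx.symm
  obtain ⟨t0, ht0⟩ : ∃ t, t = swap f1 f2 := ⟨_, rfl⟩
  obtain ⟨t1, ht1⟩ : ∃ t, t = swap p1 (σ p1) := ⟨_, rfl⟩
  obtain ⟨t2, ht2⟩ : ∃ t, t = swap p2 (σ p2) := ⟨_, rfl⟩
  obtain ⟨t3, ht3⟩ : ∃ t, t = swap p3 (σ p3) := ⟨_, rfl⟩
  have hcomm : ∀ {x y x' y' : α}, x ≠ x' → x ≠ y' → y ≠ x' → y ≠ y' →
      swap x y * swap x' y' = swap x' y' * swap x y := by
    intro x y x' y' c1 c2 c3 c4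
    refine comm_of_fix (T := {x', y'}) (fun z hz => ?_) (fun z hz => ?_)
    · rcases Finset.mem_insert.mp hz with h | h
      · rw [h]; exact swap_apply_of_ne_of_ne c1.symm c3.symm
      · rw [Finset.mem_singleton.mp h]; exact swap_apply_of_ne_of_ne c2.symm c4.symm
    · exact swap_apply_of_ne_of_ne (fun e => hz (by rw [e]; simp)) (fun e => hz (by rw [e]; simp))
  have c01 : t0 * t1 = t1 * t0 := by
    rw [ht0, ht1]; exact hcomm (hne hf1 hp1) (hne hf1 (hmv hp1)) (hne hf2 hp1) (hne hf2 (hmv hp1))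
  have c02 : t0 * t2 = t2 * t0 := by
    rw [ht0, ht2]; exact hcomm (hne hf1 a3) (hne hf1 (hmv a3)) (hne hf2 a3) (hne hf2 (hmv a3))
  have c03 : t0 * t3 = t3 * t0 := by
    rw [ht0, ht3]; exact hcomm (hne hf1 b5) (hne hf1 (hmv b5)) (hne hf2 b5) (hne hf2 (hmv b5))
  have c12 : t1 * t2 = t2 * t1 := by
    rw [ht1, ht2]
    exact hcomm a2.symm (fun e => a1 (by rw [e, hτ])) (fun e => a1 e.symm)
      (fun e => a2 (σ.injective e).symm)
  have c13 : t1 * t3 = t3 * t1 := by
    rw [ht1, ht3]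
    exact hcomm b4.symm (fun e => b3 (by rw [e, hτ])) (fun e => b3 e.symm)
      (fun e => b4 (σ.injective e).symm)
  have c23 : t2 * t3 = t3 * t2 := by
    rw [ht2, ht3]
    exact hcomm b2.symm (fun e => b1 (by rw [e, hτ])) (fun e => b1 e.symm)
      (fun e => b2 (σ.injective e).symm)
  have q0 : t0 * t0 = 1 := by rw [ht0]; exact swap_mul_self _ _
  have q1 : t1 * t1 = 1 := by rw [ht1]; exact swap_mul_self _ _
  have q2 : t2 * t2 = 1 := by rw [ht2]; exact swap_mul_self _ _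
  have q3 : t3 * t3 = 1 := by rw [ht3]; exact swap_mul_self _ _
  have hσt : ∀ x, swap x (σ x) * σ = σ * swap x (σ x) := by
    intro x
    have h1 := Equiv.mul_swap_eq_swap_mul σ x (σ x)
    rw [hτ, swap_comm (σ x) x] at h1
    exact h1.symm
  have s0 : t0 * σ = σ * t0 := by
    have h1 := Equiv.mul_swap_eq_swap_mul σ f1 f2
    rw [hf1, hf2] at h1
    rw [ht0]; exact h1.symm
  have s1 : t1 * σ = σ * t1 := by rw [ht1]; exact hσt _
  have s2 : t2 * σ = σ * t2 := by rw [ht2]; exact hσt _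
  have s3 : t3 * σ = σ * t3 := by rw [ht3]; exact hσt _
  -- the subgroup of even elements commuting with everything
  obtain ⟨H, hH⟩ : ∃ H, H = alternatingGroup α ⊓ centralizer ({σ, t0, t1, t2, t3} : Set (Perm α)) :=
    ⟨_, rfl⟩
  have hmem : ∀ {s t : Perm α}, sign s = -1 → sign t = -1 →
      (∀ z ∈ ({σ, t0, t1, t2, t3} : Set (Perm α)), s * z = z * s) →
      (∀ z ∈ ({σ, t0, t1, t2, t3} : Set (Perm α)), t * z = z * t) → s * t ∈ H := by
    intro s t e1 e2 h1 h2
    rw [hH]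
    refine ⟨mem_alternatingGroup.mpr ?_, mem_centralizer_iff.mpr fun z hz => ?_⟩
    · rw [Perm.sign_mul, e1, e2]; rfl
    · calc z * (s * t) = (z * s) * t := by group
        _ = s * (z * t) := by rw [← h1 z hz]; group
        _ = s * t * z := by rw [← h2 z hz]; group
  have hz0 : ∀ z ∈ ({σ, t0, t1, t2, t3} : Set (Perm α)), t0 * z = z * t0 := by
    rintro z (rfl | rfl | rfl | rfl | rfl)
    · exact s0
    · rfl
    · exact c01
    · exact c02
    · exact c03
  have hz1 : ∀ z ∈ ({σ, t0, t1, t2, t3} : Set (Perm α)), t1 * z = z * t1 := by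
    rintro z (rfl | rfl | rfl | rfl | rfl)
    · exact s1
    · exact c01.symm
    · rfl
    · exact c12
    · exact c13
  have hz2 : ∀ z ∈ ({σ, t0, t1, t2, t3} : Set (Perm α)), t2 * z = z * t2 := by
    rintro z (rfl | rfl | rfl | rfl | rfl)
    · exact s2
    · exact c02.symm
    · exact c12.symm
    · rfl
    · exact c23
  have hz3 : ∀ z ∈ ({σ, t0, t1, t2, t3} : Set (Perm α)), t3 * z = z * t3 := by
    rintro z (rfl | rfl | rfl | rfl | rfl)
    · exact s3
    · exact c03.symm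
    · exact c13.symm
    · exact c23.symm
    · rfl
  have g0 : sign t0 = -1 := by rw [ht0]; exact sign_swap hf
  have g1 : sign t1 = -1 := by rw [ht1]; exact sign_swap hp1.symm
  have g2 : sign t2 = -1 := by rw [ht2]; exact sign_swap a3.symm
  have g3 : sign t3 = -1 := by rw [ht3]; exact sign_swap b5.symm
  have m12 : t1 * t2 ∈ H := hmem g1 g2 hz1 hz2
  have m23 : t2 * t3 ∈ H := hmem g2 g3 hz2 hz3
  have m01 : t0 * t1 ∈ H := hmem g0 g1 hz0 hz1
  have hH1 : ∀ h ∈ H, ∀ z ∈ ({σ, t0, t1, t2, t3} : Set (Perm α)), h * z = z * h := by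
    intro h hh z hz
    rw [hH] at hh
    exact (mem_centralizer_iff.mp hh.2 z hz).symm
  have hHt : ∀ h ∈ H, ∀ s t, (s ∈ ({σ, t0, t1, t2, t3} : Set (Perm α))) →
      (t ∈ ({σ, t0, t1, t2, t3} : Set (Perm α))) → h * (s * t) = s * t * h := by
    intro h hh s t hs ht
    calc h * (s * t) = (h * s) * t := by group
      _ = s * (h * t) := by rw [hH1 h hh s hs]; group
      _ = s * t * h := by rw [hH1 h hh t ht]; group
  have sq2 : ∀ s t : Perm α, s * s = 1 → t * t = 1 → s * t = t * s → s * t * (s * t) = 1 := by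
    intro s t hs ht hst
    calc s * t * (s * t) = s * (t * s) * t := by group
      _ = (s * s) * (t * t) := by rw [← hst]; group
      _ = 1 := by rw [hs, ht, one_mul]
  -- the values
  have v12 : (t1 * t2) p1 ≠ p1 := by
    rw [Perm.mul_apply, ht1, ht2, swap_apply_of_ne_of_ne a2.symm (fun e => a1 (by rw [e, hτ])),
      swap_apply_left]
    exact hp1
  have v12' : (t1 * t2) p3 = p3 := by
    rw [Perm.mul_apply, ht1, ht2, swap_apply_of_ne_of_ne b2 b1, swap_apply_of_ne_of_ne b4 b3]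
  have v23 : (t2 * t3) p3 ≠ p3 := by
    rw [Perm.mul_apply, ht2, ht3, swap_apply_left]
    rw [swap_apply_of_ne_of_ne (fun e => b1 (by rw [← e, hτ])) (fun e => b2 (σ.injective e))]
    exact b5
  have vf : ∀ {x : α}, σ x ≠ x → ∀ {y : α}, σ y = y → swap x (σ x) y = y := by
    intro x hx y hy
    exact swap_apply_of_ne_of_ne (hne hy hx) (hne hy (hmv hx))
  have w12 : (t1 * t2) f1 = f1 := by
    rw [Perm.mul_apply, ht1, ht2, vf a3 hf1, vf hp1 hf1]
  have w23 : (t2 * t3) f1 = f1 := by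
    rw [Perm.mul_apply, ht2, ht3, vf b5 hf1, vf a3 hf1]
  have w01 : (t0 * t1) f1 ≠ f1 := by
    rw [Perm.mul_apply, ht0, ht1, vf hp1 hf1, swap_apply_left]
    exact hf.symm
  -- the groups
  obtain ⟨E1, -, -, hE1, hE1s, hE1c⟩ := A7.Mu.exists_adjoin (E := (⊥ : Subgroup (Perm α)))
    (fun e he => by rw [mem_bot.mp he, one_mul]) (sq2 _ _ q1 q2 c12)
    (fun h => v12 (by rw [mem_bot.mp h]; rfl)) (fun e he => by rw [mem_bot.mp he, one_mul, mul_one])
  have hE1H : E1 ≤ H := adjoin_le hE1 bot_le m12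
  have stab : ∀ x : α, ∃ F : Subgroup (Perm α), ∀ g, g ∈ F ↔ g x = x := fun x =>
    ⟨MulAction.stabilizer (Perm α) x, fun g => MulAction.mem_stabilizer_iff⟩
  obtain ⟨F3, hF3⟩ := stab p3
  obtain ⟨Ff, hFf⟩ := stab f1
  have hE1F : E1 ≤ F3 := adjoin_le hE1 bot_le ((hF3 _).mpr v12')
  obtain ⟨E2, -, -, hE2, hE2s, hE2c⟩ := A7.Mu.exists_adjoin hE1s (sq2 _ _ q2 q3 c23)
    (fun h => v23 ((hF3 _).mp (hE1F h))) (fun e he => hHt e (hE1H he) _ _ (by simp) (by simp))
  have hE2H : E2 ≤ H := adjoin_le hE2 hE1H m23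
  have hE2F : E2 ≤ Ff := adjoin_le hE2 (adjoin_le hE1 bot_le ((hFf _).mpr w12)) ((hFf _).mpr w23)
  obtain ⟨E3, -, -, hE3, hE3s, hE3c⟩ := A7.Mu.exists_adjoin hE2s (sq2 _ _ q0 q1 c01)
    (fun h => w01 ((hFf _).mp (hE2F h))) (fun e he => hHt e (hE2H he) _ _ (by simp) (by simp))
  have hE3H : E3 ≤ H := adjoin_le hE3 hE2H m01
  refine ⟨E3, ?_, fun g hg => ⟨?_, hE3s g hg, hH1 g (hE3H hg) σ (by simp)⟩⟩
  · rw [hE3c, hE2c, hE1c, Subgroup.card_bot]
  · have := hE3H hg
    rw [hH] at this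
    exact this.1

end perm

/-- the labelling of the automorphisms of `Aₙ` -/
theorem exists_hom {D : Type*} [Group D] {n : ℕ} (h7 : 7 ≤ n)
    (e0 : D ≃* ↥(alternatingGroup (Fin n))) :
    ∃ (ε : D →* Perm (Fin n)) (χ : MulAut D →* Perm (Fin n)), Function.Injective ε ∧
      (∀ σ, σ ∈ alternatingGroup (Fin n) ↔ ∃ d, ε d = σ) ∧
      (∀ f d, ε (f d) = χ f * ε d * (χ f)⁻¹) ∧ (∀ d, χ (MulAut.conj d) = ε d) ∧
      Function.Injective χ := by
  have hc : (Finset.univ : Finset (Fin n)).card = n := by rw [Finset.card_univ, Fintype.card_fin]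
  obtain ⟨ψ, -, hψ⟩ := exists_altAut (S := (Finset.univ : Finset (Fin n))) (by rw [hc]; exact h7)
  let e : D ≃* ↥(alt (Finset.univ : Finset (Fin n))) :=
    e0.trans (MulEquiv.subgroupCongr alt_univ.symm)
  let ε : D →* Perm (Fin n) := (alt (Finset.univ : Finset (Fin n))).subtype.comp e.toMonoidHom
  let χ : MulAut D →* Perm (Fin n) := ψ.comp (MulAut.congr e).toMonoidHom
  have hε : Function.Injective ε := (Subgroup.subtype_injective _).comp e.injective
  have hr : ∀ σ, σ ∈ alternatingGroup (Fin n) ↔ ∃ d, ε d = σ := by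
    intro σ
    constructor
    · intro h
      rw [← alt_univ] at h
      exact ⟨e.symm ⟨σ, h⟩, congrArg Subtype.val (e.apply_symm_apply ⟨σ, h⟩)⟩
    · rintro ⟨d, rfl⟩
      exact alt_univ.le (e d).2
  have hχ : ∀ f d, ε (f d) = χ f * ε d * (χ f)⁻¹ := by
    intro f d
    have h1 := hψ (MulAut.congr e f) (e d)
    have h2 : (MulAut.congr e f) (e d) = e (f d) := by
      change e (f (e.symm (e d))) = _
      rw [MulEquiv.symm_apply_apply]
    rw [h2] at h1
    exact h1
  have htriv : ∀ g : Perm (Fin n), (∀ d, g * ε d = ε d * g) → g = 1 := by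
    intro g hg
    ext i
    congr 1
    refine apply_of_comm_alt (S := (Finset.univ : Finset (Fin n))) (by rw [hc]; omega)
      (fun σ hσ => ?_) (Finset.mem_univ i)
    rw [alt_univ] at hσ
    obtain ⟨d, rfl⟩ := (hr σ).mp hσ
    exact hg d
  have hconj : ∀ d, χ (MulAut.conj d) = ε d := by
    intro d
    have h1 : (χ (MulAut.conj d))⁻¹ * ε d = 1 := by
      apply htriv
      intro d'
      have h2 := hχ (MulAut.conj d) d'
      rw [MulAut.conj_apply, map_mul, map_mul, map_inv] at h2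
      calc (χ (MulAut.conj d))⁻¹ * ε d * ε d'
          = (χ (MulAut.conj d))⁻¹ * (ε d * ε d' * (ε d)⁻¹) * ε d := by group
        _ = ε d' * ((χ (MulAut.conj d))⁻¹ * ε d) := by rw [h2]; group
    exact (inv_mul_eq_one.mp h1)
  refine ⟨ε, χ, hε, hr, hχ, hconj, ?_⟩
  intro f g hfg
  ext d
  apply hε
  rw [hχ, hχ, hfg]

theorem center_eq {D : Type*} [Group D] {n : ℕ} (h7 : 7 ≤ n)
    (e0 : D ≃* ↥(alternatingGroup (Fin n))) {z : D} (hz : ∀ d, z * d = d * z) : z = 1 := by
  obtain ⟨ε, χ, hε, hr, hχ, hconj, hχi⟩ := exists_hom h7 e0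
  have h1 : MulAut.conj z = 1 := by
    ext d
    rw [MulAut.conj_apply, hz d, mul_inv_cancel_right]; rfl
  apply hε
  rw [← hconj, h1, map_one, map_one]

/-- an odd group normalized by the centralizer of an outer involution: the centralizer has rank at least 3 -/
theorem exists_eight_of {D : Type*} [Group D] {n : ℕ} (hn : Odd n) (h7 : 7 ≤ n)
    (e0 : D ≃* ↥(alternatingGroup (Fin n))) {ξ : MulAut D} (hξ : ξ * ξ = 1)
    (ho : ∀ l, ξ ≠ MulAut.conj l) {E : Subgroup (MulAut D)} (hE : OddC ξ E) (hE1 : E ≠ ⊥) :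
    ∃ A : Subgroup D, Nat.card A = 8 ∧ ∀ e ∈ A, e * e = 1 ∧ ξ e = e := by
  obtain ⟨ε, χ, hε, hr, hχ, hconj, hχi⟩ := exists_hom h7 e0
  have hc : (Finset.univ : Finset (Fin n)).card = n := by rw [Finset.card_univ, Fintype.card_fin]
  obtain ⟨σ, hσ⟩ : ∃ σ, σ = χ ξ := ⟨_, rfl⟩
  have hσσ : σ * σ = 1 := by rw [hσ, ← map_mul, hξ, map_one]
  have hσo : σ ∉ alternatingGroup (Fin n) := by
    intro h
    obtain ⟨d, hd⟩ := (hr σ).mp h
    refine ho d (hχi ?_)
    rw [hconj, hd, hσ]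
  have hσS : σ ∈ sym (Finset.univ : Finset (Fin n)) := by rw [sym_univ]; trivial
  -- `E` acts inside the core
  have hodd : Odd (Nat.card (E.map χ)) := by
    rw [Subgroup.card_map_of_injective hχi]; exact hE.odd
  have hcomm : ∀ d, ε d * σ = σ * ε d → ξ d = d := by
    intro d h
    apply hε
    rw [hχ, ← hσ, ← h, mul_inv_cancel_right]
  have hle : E.map χ ≤ core (alt (Finset.univ : Finset (Fin n)) ⊓
      centralizer ({σ} : Set (Perm (Fin n)))) := by
    have key : ∀ g ∈ alt (Finset.univ : Finset (Fin n)) ⊓ centralizer ({σ} : Set (Perm (Fin n))),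
        ∀ f ∈ E.map χ, g * f * g⁻¹ ∈ E.map χ := by
      rintro g ⟨hg, hgσ⟩ _ ⟨f, hf, rfl⟩
      rw [alt_univ] at hg
      obtain ⟨d, rfl⟩ := (hr g).mp hg
      refine ⟨_, hE.nor d (hcomm d (mem_centralizer_singleton_iff.mp hgσ)) f hf, ?_⟩
      rw [map_mul, map_mul, map_inv, hconj]
    refine le_core ?_ ?_ hodd
    · intro g hg
      refine ⟨?_, ?_⟩
      · rw [alt_univ]; exact Mod.even_of_odd hodd hg
      · obtain ⟨f, hf, rfl⟩ := hg
        refine mem_centralizer_singleton_iff.mpr ?_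
        rw [hσ, ← map_mul, hE.com f hf, map_mul]
    · intro g hg
      rw [mem_normalizer_iff]
      intro f
      refine ⟨key g hg f, fun h => ?_⟩
      have h1 := key g⁻¹ (inv_mem hg) _ h
      convert h1 using 1
      group
  have h3 : (fixIn (Finset.univ : Finset (Fin n)) σ).card = 3 := by
    by_contra h
    rw [core_cent hσS hσσ h, le_bot_iff, Subgroup.map_eq_bot_iff_of_injective _ hχi] at hle
    exact hE1 hle
  have hsupp : σ.support.card = n - 3 := by
    have h4 := Finset.card_filter_add_card_filter_not (s := (Finset.univ : Finset (Fin n)))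
      (p := fun y => σ y = y)
    rw [hc] at h4
    have h5 : (Finset.univ.filter fun y => ¬ σ y = y) = σ.support := by
      ext y; simp
    rw [h5] at h4
    unfold fixIn at h3
    omega
  have h9 : 9 ≤ n := by
    rcases Nat.lt_or_ge n 8 with h | h
    · exfalso
      have h4 : n = 7 := by omega
      subst h4
      exact hσo (even_of_isRoot ⟨hσσ, hsupp⟩)
    · obtain ⟨k, hk⟩ := hn
      omega
  obtain ⟨A, hA, hA'⟩ := exists_eight hσσ (by omega) (by omega)
  have hAr : ∀ g ∈ A, ∃ d, ε d = g := fun g hg => (hr g).mp (hA' g hg).1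
  refine ⟨A.comap ε, ?_, fun d hd => ⟨?_, ?_⟩⟩
  · rw [← hA]
    have h4 : (A.comap ε).map ε = A := by
      rw [Subgroup.map_comap_eq, inf_eq_right]
      intro g hg
      exact hAr g hg
    conv_rhs => rw [← h4]
    rw [Subgroup.card_map_of_injective hε]
  · apply hε
    rw [map_mul, map_one]
    exact (hA' _ hd).2.1
  · exact hcomm d (hA' _ hd).2.2

/-- **the facts on `Aₙ`** -/
theorem kfa : KFA.{u} := by
  intro D _ hD
  obtain ⟨n, hn, h7, ⟨e0⟩⟩ := hD
  exact ⟨fun z hz => center_eq h7 e0 hz, fun ξ hξ ho E hE hE1 => exists_eight_of hn h7 e0 hξ ho hE hE1⟩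

end Cfsg.Agent.UGT.LTF.KFA
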