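import Cfsg.Agent.UGT.LTF.Defs

/-!
# Core-free basics

* `comm_of_fixes`, `comm_of_ne`: `O(J) = 1`: `Fixes e J` means `e ∈ C(J)`; distinct components commute.
* `img`, `oddC`: the image of `O(C(x)) ∩ C(t)` in `Aut(J / O(J))`.
* `exists_inv`: an involution of `N` centralized by `T`, `T` a 2-group normalizing `N`.
* `Sit.lone`: **(6)** `L` is the only simple component of `C(a)`.
-/

set_option autoImplicit false

open Cfsg Subgroup
open Cfsg.Agent.SignalizersComponents Cfsg.Agent.Lib
open Cfsg.Agent.SignalizersComponents.IntrinsicBasic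
open Cfsg.Agent.SignalizersComponents.IntrinsicIntr
open Cfsg.Agent.SignalizersComponents.PLayerAut
open Cfsg.Agent.Intrinsic.Basic Cfsg.Agent.Intrinsic.Cen Cfsg.Agent.Intrinsic.Diag
open Cfsg.Agent.McLLyComp.Act
open Cfsg.Agent.UGT.Triple Cfsg.Agent.UGT.TriBase
open Cfsg.Agent.UGT.Iface (Bar IsL2 IsL34 IsAltOdd)
open Cfsg.Agent.UGT.LTF.Defs
open scoped commutatorElement

namespace Cfsg.Agent.UGT.LTF.Basics

universe u

variable {G : Type u} [Group G]

theorem comm_of_fixes {J : Subgroup G} (hc : core J = ⊥) {e j : G} (h : Fixes e J) (hj : j ∈ J) :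
    e * j = j * e := by
  have h1 := h.2 j hj
  rw [hc, mem_bot, commutatorElement_eq_one_iff_mul_comm] at h1
  exact h1

theorem fixes_of_comm {J : Subgroup G} {e : G} (h : ∀ j ∈ J, e * j = j * e) : Fixes e J := by
  refine fixes_self' fun j hj => mem_centralizer_singleton_iff.mpr (h j hj).symm

/-- trivial centre of `J` from `J / O(J)` -/
theorem center_of_bar {J : Subgroup G} (hc : core J = ⊥)
    (h : ∀ z : Bar J, (∀ d, z * d = d * z) → z = 1) :
    ∀ z ∈ J, (∀ j ∈ J, z * j = j * z) → z = 1 := by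
  intro z hz hzj
  have h1 := h (QuotientGroup.mk ⟨z, hz⟩) (by
    intro d
    obtain ⟨⟨j, hj⟩, rfl⟩ := QuotientGroup.mk_surjective d
    rw [← QuotientGroup.mk_mul, ← QuotientGroup.mk_mul]
    congr 1
    exact Subtype.ext (hzj j hj))
  rw [mk_eq_one_iff, hc, mem_bot] at h1
  exact h1

theorem mk_inj {J : Subgroup G} (hc : core J = ⊥) {y z : G} (hy : y ∈ J) (hz : z ∈ J)
    (h : (QuotientGroup.mk (⟨y, hy⟩ : ↥J) : Bar J) = QuotientGroup.mk ⟨z, hz⟩) : y = z := by
  rw [mk_eq_iff, hc, mem_bot, inv_mul_eq_one] at h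
  exact h

theorem act_fix {J : Subgroup G} (hc : core J = ⊥) {e m : G} (he : e ∈ normalizer (J : Set G))
    (hm : m ∈ J) (h : act J ⟨e, he⟩ (QuotientGroup.mk ⟨m, hm⟩) = QuotientGroup.mk ⟨m, hm⟩) :
    e * m = m * e := by
  rw [act_mk he hm] at h
  have h1 := mk_inj hc _ _ h
  rw [← mul_inv_eq_iff_eq_mul]
  exact h1

theorem act_fix' {J : Subgroup G} {e m : G} (he : e ∈ normalizer (J : Set G))
    (hm : m ∈ J) (h : e * m = m * e) :
    act J ⟨e, he⟩ (QuotientGroup.mk ⟨m, hm⟩) = QuotientGroup.mk ⟨m, hm⟩ := by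
  rw [act_mk he hm]
  congr 1
  exact Subtype.ext (show e * m * e⁻¹ = m by rw [h, mul_inv_cancel_right])

variable [Finite G]

theorem core_of_comp {H J : Subgroup G} (hJ : IsComp H J) (hc : core H = ⊥) : core J = ⊥ := by
  rw [eq_bot_iff, ← hc]
  exact hJ.core_le_core

theorem comm_of_ne {H J M : Subgroup G} (hJ : IsComp H J) (hM : IsComp H M) (hc : core H = ⊥)
    (hne : J ≠ M) {j m : G} (hj : j ∈ J) (hm : m ∈ M) : j * m = m * j :=
  (comm_of_fixes (core_of_comp hJ hc) (hJ.fixes_of_mem hM hne hm) hj).symm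

/-- `g ∈ H` permutes the components of `H` -/
theorem comp_cj {H J : Subgroup G} (hJ : IsComp H J) {g : G} (hg : g ∈ H) : IsComp H (cj g J) :=
  isComp_cj_of_mem hJ hg

/-- the image of `O(C(x)) ∩ C(t)` in `Aut(J / O(J))` -/
noncomputable def img (x t : G) (J : Subgroup G) : Subgroup (MulAut (Bar J)) :=
  ((core (centralizer ({x} : Set G)) ⊓ centralizer ({t} : Set G)).subgroupOf
    (normalizer (J : Set G))).map (act J)

omit [Finite G] in
theorem mem_img {x t : G} {J : Subgroup G} {e : MulAut (Bar J)} : e ∈ img x t J ↔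
    ∃ d, ∃ hd : d ∈ normalizer (J : Set G), d ∈ core (centralizer ({x} : Set G)) ∧
      d * t = t * d ∧ act J ⟨d, hd⟩ = e := by
  constructor
  · rintro ⟨⟨d, hd⟩, h, rfl⟩
    exact ⟨d, hd, h.1, mem_centralizer_singleton_iff.mp h.2, rfl⟩
  · rintro ⟨d, hd, h1, h2, rfl⟩
    exact ⟨⟨d, hd⟩, ⟨h1, mem_centralizer_singleton_iff.mpr h2⟩, rfl⟩

theorem img_ne {x t : G} {J : Subgroup G} (T : IsTriple x t J) : img x t J ≠ ⊥ := by
  intro h
  obtain ⟨d, hd, hdt, hf⟩ := T.bad
  have hdJ := T.mem_normalizer_of_core hd hdt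
  have h1 : act J ⟨d, hdJ⟩ ∈ img x t J := mem_img.mpr ⟨d, hdJ, hd, comm_c hdt, rfl⟩
  rw [h, mem_bot, act_eq_one_iff] at h1
  exact hf h1

theorem oddC {x t : G} {J : Subgroup G} (T : IsTriple x t J) (hc : core J = ⊥) :
    OddC (act J ⟨x, T.x_mem⟩) (img x t J) := by
  refine ⟨?_, ?_, ?_⟩
  · refine Odd.of_dvd_nat ?_ (card_map_dvd _ _)
    refine Odd.of_dvd_nat (odd_card_core (centralizer ({x} : Set G))) ?_
    have h1 := card_comap_dvd_of_injective
      (core (centralizer ({x} : Set G)) ⊓ centralizer ({t} : Set G))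
      (normalizer (J : Set G)).subtype (subtype_injective _)
    exact h1.trans (card_dvd_of_le inf_le_left)
  · intro e he
    obtain ⟨d, hd, h1, h2, rfl⟩ := mem_img.mp he
    rw [← act_mul, ← act_mul]
    apply act_congr
    exact comm_c (core_le _ h1)
  · intro l hl e he
    obtain ⟨d, hd, h1, h2, rfl⟩ := mem_img.mp he
    obtain ⟨⟨m, hm⟩, rfl⟩ := QuotientGroup.mk_surjective l
    have hxm : x * m = m * x := act_fix hc T.x_mem hm hl
    have hmt : m * t = t * m := comm_c (T.comp.le hm)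
    rw [← act_of_mem hm, ← act_mul, ← act_inv, ← act_mul]
    refine mem_img.mpr ⟨m * d * m⁻¹, _, ?_, ?_, rfl⟩
    · exact conj_core (mem_c hxm.symm) h1
    · have := mul_mem (mul_mem (mem_c hmt) (mem_c h2)) (inv_mem (mem_c hmt))
      exact comm_c this

/-- an involution of `N` centralized by the 2-group `T ≤ N_G(N)` -/
theorem exists_inv {N T : Subgroup G} (hT : IsPGroup 2 ↥T) (hn : T ≤ normalizer (N : Set G))
    (h2 : 2 ∣ Nat.card ↥N) : ∃ e ∈ N, orderOf e = 2 ∧ ∀ s ∈ T, s * e = e * s := by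
  have hp : Fact (Nat.Prime 2) := ⟨Nat.prime_two⟩
  have hNn : N ⊔ T ≤ normalizer (N : Set G) := sup_le le_normalizer hn
  obtain ⟨R, hR, hTR⟩ := exists_isSyl hT (le_sup_right : T ≤ N ⊔ T)
  have hRN : IsSyl N (R ⊓ N) := hR.inf le_sup_left hNn
  have hne : R ⊓ N ≠ ⊥ := by
    intro h
    have h1 := hRN.dvd_card (k := 1) (by rwa [pow_one])
    rw [h, pow_one, card_bot] at h1
    omega
  have hRn : R ≤ normalizer ((R ⊓ N : Subgroup G) : Set G) := by
    intro r hr
    rw [mem_normalizer_iff_cj, cj_inf, mem_normalizer_iff_cj.mp (le_normalizer hr),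
      mem_normalizer_iff_cj.mp (hNn (hR.le hr))]
  obtain ⟨e, he, ho, hc⟩ := exists_central hR.two inf_le_left hRn hne
  exact ⟨e, he.2, ho, fun s hs => hc s (hTR hs)⟩

omit [Finite G] in
theorem isPGroup_zpowers {x : G} (h : orderOf x = 2) : IsPGroup 2 ↥(zpowers x) := by
  refine IsPGroup.of_card (n := 1) ?_
  rw [Nat.card_zpowers, h, pow_one]

section sit

variable {X : Subgroup G} {x a b : G} {L S : Subgroup G}

theorem core_a (h : Sit X x a b L S) : core (centralizer ({a} : Set G)) = ⊥ :=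
  h.cf a h.aX h.T.inva

theorem core_L (h : Sit X x a b L S) : core L = ⊥ := core_of_comp h.T.comp (core_a h)

/-- **(6)** a component of `C(a)` with trivial centre is `L` -/
theorem lone (h : Sit X x a b L S) {N : Subgroup G} (hN : IsComp (centralizer ({a} : Set G)) N)
    (hs : ∀ z ∈ N, (∀ n ∈ N, z * n = n * z) → z = 1) : N = L := by
  by_contra hne
  have hc := core_a h
  have hxa : x ∈ centralizer ({a} : Set G) := mem_c h.T.comm.symm
  have hxx := sq_of_order h.T.invx
  have hxi : x⁻¹ = x := inv_eq_of_mul_eq_one_left hxx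
  have hNx := comp_cj hN hxa
  have hxL : cj x L = L := mem_normalizer_iff_cj.mp h.T.x_mem
  have hneX : cj x N ≠ L := by
    intro h1
    apply hne
    apply cj_injective x
    rw [h1, hxL]
  have hfix : ∀ k, k ∈ N ∨ k ∈ cj x N → Fixes k L := by
    rintro k (hk | hk)
    · exact h.T.comp.fixes_of_mem hN (Ne.symm hne) hk
    · exact h.T.comp.fixes_of_mem hNx (Ne.symm hneX) hk
  rcases eq_or_ne (cj x N) N with heq | hneq
  · obtain ⟨e, he, ho, hce⟩ := exists_inv (isPGroup_zpowers h.T.invx)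
      (zpowers_le.mpr (mem_normalizer_iff_cj.mpr heq)) hN.even
    have h1 : e = a := by
      refine h.uniq e (comm_c (hN.le he)) (hfix e (Or.inl he)) (sq_of_order ho)
        (ne_one_of_order ho) (hce x (mem_zpowers x)).symm
    have h2 : e = 1 := hs e he fun n hn => by
      rw [h1]
      exact (comm_c (hN.le hn)).symm
    exact ne_one_of_order ho h2
  · obtain ⟨i, hi, ho, -⟩ := exists_inv (T := ⊥) (N := N)
      (IsPGroup.of_bot) bot_le hN.even
    have hi2 := sq_of_order ho
    have hcomm : ∀ n ∈ N, ∀ m ∈ cj x N, n * m = m * n := fun n hn m hm =>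
      comm_of_ne hN hNx hc (Ne.symm hneq) hn hm
    have hix : x * i * x⁻¹ ∈ cj x N := conj_mem_cj hi
    have hci := hcomm i hi _ hix
    have h1 : i * (x * i * x⁻¹) = a := by
      refine h.uniq _ ?_ ?_ ?_ ?_ ?_
      · exact comm_c (mul_mem (hN.le hi) (hNx.le hix))
      · exact fixes_mul (hfix _ (Or.inl hi)) (hfix _ (Or.inr hix))
      · calc i * (x * i * x⁻¹) * (i * (x * i * x⁻¹)) = i * (x * i * x⁻¹ * i) * (x * i * x⁻¹) := by
              group
          _ = i * (i * (x * i * x⁻¹)) * (x * i * x⁻¹) := by rw [hci]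
          _ = (i * i) * (x * (i * i) * x⁻¹) := by group
          _ = 1 := by rw [hi2]; group
      · intro h1
        have h3 : i = x * i * x⁻¹ := by
          calc i = (x * i * x⁻¹)⁻¹ := eq_inv_of_mul_eq_one_left h1
            _ = x * i⁻¹ * x⁻¹ := by group
            _ = _ := by rw [inv_eq_of_mul_eq_one_left hi2]
        apply ne_one_of_order ho
        apply hs i hi
        intro n hn
        have h4 : i ∈ cj x N := h3 ▸ hix
        exact (hcomm n hn i h4).symm
      · rw [hxi]
        calc i * (x * i * x) * x = i * (x * i) * (x * x) := by group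
          _ = i * (x * i) := by rw [hxx, mul_one]
          _ = (x * x) * (i * (x * i)) := by rw [hxx, one_mul]
          _ = x * ((x * i * x) * i) := by group
          _ = x * ((x * i * x⁻¹) * i) := by rw [hxi]
          _ = x * (i * (x * i * x⁻¹)) := by rw [hci]
          _ = _ := by rw [hxi]
    apply ne_one_of_order ho
    apply hs i hi
    intro n hn
    have h2 : a * n = n * a := (comm_c (hN.le hn)).symm
    have h3 := hcomm n hn _ hix
    rw [← h1] at h2
    have h4 : i * n * (x * i * x⁻¹) = n * i * (x * i * x⁻¹) := by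
      calc i * n * (x * i * x⁻¹) = i * (n * (x * i * x⁻¹)) := by group
        _ = i * ((x * i * x⁻¹) * n) := by rw [h3]
        _ = i * (x * i * x⁻¹) * n := by group
        _ = n * (i * (x * i * x⁻¹)) := h2
        _ = _ := by group
    exact mul_right_cancel h4

end sit

end Cfsg.Agent.UGT.LTF.Basics
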