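import Cfsg.Agent.UGT.LTF.Seven
import Cfsg.Agent.UGT.Tri

/-!
# (8), preliminaries: `y ∈ {x, x a}`, `T = C_S(x)`

* `S_cases`: an involution of `T ∩ X` is in `⟨a, b⟩` or of field or graph type on `L`.
* `sylY`: `T` is Sylow in `C(y)`; `rankY`: `m(C(y)) ≤ 4`.
* `eigen`: a fixed-point-free involution on an odd group inverts it.
* `inf_subnormal`: Sylow subgroups and subnormal subgroups.
-/

set_option autoImplicit false

open Cfsg Subgroup
open Cfsg.Agent.SignalizersComponents Cfsg.Agent.Lib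
open Cfsg.Agent.SignalizersComponents.IntrinsicBasic
open Cfsg.Agent.SignalizersComponents.IntrinsicIntr
open Cfsg.Agent.SignalizersComponents.PLayerAut
open Cfsg.Agent.Intrinsic.Basic Cfsg.Agent.Intrinsic.Cen Cfsg.Agent.Intrinsic.Diag
open Cfsg.Agent.McLLyComp.Act
open Cfsg.Agent.UGT.Triple Cfsg.Agent.UGT.TriBase Cfsg.Agent.UGT.Res.Base
open Cfsg.Agent.UGT.Tri (isPGroup_sup_zpowers)
open Cfsg.Agent.UGT.Iface (Bar IsL2 IsL34 IsAltOdd)
open Cfsg.Agent.UGT.LTF.Defs Cfsg.Agent.UGT.LTF.Basics Cfsg.Agent.UGT.LTF.Comp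
open Cfsg.Agent.UGT.LTF.Wild Cfsg.Agent.UGT.LTF.Seven
open scoped commutatorElement

namespace Cfsg.Agent.UGT.LTF.EightA

universe u

variable {G : Type u} [Group G]

/-- `y ∈ {x, x a}` -/
def IsY (x a y : G) : Prop := y = x ∨ y = x * a

section general

/-- a subnormal subgroup meets a Sylow subgroup in a Sylow subgroup -/
theorem inf_subnormal [Finite G] {E R K : Subgroup G} (h : IsSyl E R) (hK : K ≤ E)
    (hs : (K.subgroupOf E).IsSubnormal) : IsSyl K (R ⊓ K) := by
  obtain ⟨K', hK'⟩ : ∃ K', K' = K.subgroupOf E := ⟨_, rfl⟩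
  have hKm : K = K'.map E.subtype := by
    rw [hK', subgroupOf_map_subtype, inf_of_le_left hK]
  rw [← hK'] at hs
  clear hK'
  subst hKm
  clear hK
  induction hs with
  | top =>
    rw [← MonoidHom.range_eq_map, range_subtype, inf_of_le_left h.le]
    exact h
  | step A B hAB _ hN ih =>
    have h1 : A.map E.subtype ≤ B.map E.subtype := Subgroup.map_mono hAB
    have h2 := ih.inf h1 (by
      rintro _ ⟨b, hb, rfl⟩
      rw [mem_normalizer_iff]
      have key : ∀ c ∈ B, ∀ n, n ∈ A.map E.subtype → (E.subtype c) * n * (E.subtype c)⁻¹ ∈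
          A.map E.subtype := by
        rintro c hc _ ⟨m, hm, rfl⟩
        have h3 := hN.conj_mem (⟨m, hAB hm⟩ : ↥B) hm ⟨c, hc⟩
        exact ⟨_, h3, rfl⟩
      intro n
      refine ⟨key b hb n, fun h3 => ?_⟩
      have h4 := key b⁻¹ (inv_mem hb) _ h3
      have h5 : E.subtype b⁻¹ * (E.subtype b * n * (E.subtype b)⁻¹) * (E.subtype b⁻¹)⁻¹ = n := by
        rw [map_inv]; group
      rwa [h5] at h4)
    rwa [inf_assoc, inf_of_le_right h1] at h2

/-- an involution acting fixed-point-freely on an odd group inverts it -/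
theorem inv_of_fpf [Finite G] {N : Subgroup G} (hN : Odd (Nat.card N)) {a : G} (ha : a * a = 1)
    (hn : ∀ d ∈ N, a * d * a⁻¹ ∈ N) (hf : ∀ d ∈ N, a * d = d * a → d = 1) :
    ∀ d ∈ N, a * d * a⁻¹ = d⁻¹ := by
  have hai : a⁻¹ = a := inv_eq_of_mul_eq_one_left ha
  obtain ⟨φ, hφ⟩ : ∃ φ : ↥N →* ↥N, ∀ d : ↥N, ((φ d : ↥N) : G) = a * d * a⁻¹ :=
    ⟨{ toFun := fun d => ⟨a * d * a⁻¹, hn d d.2⟩
       map_one' := Subtype.ext (by simp)
       map_mul' := fun d e => Subtype.ext (by
        change a * ((d : G) * e) * a⁻¹ = a * d * a⁻¹ * (a * e * a⁻¹)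
        group) }, fun _ => rfl⟩
  have hfix : MonoidHom.FixedPointFree φ := by
    intro d hd
    apply Subtype.ext
    apply hf d d.2
    have h1 := hφ d
    rw [hd] at h1
    calc a * (d : G) = (a * d * a⁻¹) * a := by group
      _ = d * a := by rw [← h1]
  have hinv : Function.Involutive φ := by
    intro d
    apply Subtype.ext
    rw [hφ, hφ, hai]
    calc a * (a * (d : G) * a) * a = (a * a) * d * (a * a) := by group
      _ = d := by rw [ha, one_mul, mul_one]
  have h1 := hfix.coe_eq_inv_of_involutive hinv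
  intro d hd
  have h2 := congrFun h1 ⟨d, hd⟩
  have h3 := congrArg Subtype.val h2
  rw [hφ] at h3
  exact h3

/-- an element of odd order whose square is 1 -/
theorem eq_one_of_sq_odd [Finite G] {N : Subgroup G} (hN : Odd (Nat.card N)) {d : G} (hd : d ∈ N)
    (h : d * d = 1) : d = 1 := by
  have h1 : orderOf d ∣ 2 := orderOf_dvd_of_pow_eq_one (by rw [pow_two, h])
  have h2 : orderOf d ∣ Nat.card N := by
    have := orderOf_dvd_natCard (⟨d, hd⟩ : ↥N)
    rwa [Subgroup.orderOf_mk] at this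
  have h3 : orderOf d ∣ 1 := by
    have hc : Nat.Coprime 2 (Nat.card N) := (Nat.coprime_two_left).mpr hN
    rw [← hc]
    exact Nat.dvd_gcd h1 h2
  exact orderOf_eq_one_iff.mp (Nat.dvd_one.mp h3)

end general

variable [Finite G] {X : Subgroup G} {x a b : G} {L S : Subgroup G}

/-- an element of `C_S(x) ∩ X` of order 2 is in `⟨a, b⟩` or of field or graph type on `L` -/
theorem S_cases (kf : KF34.{u}) (h : Sit X x a b L S) {c : G} (hcS : c ∈ S) (hcx : c * x = x * c)
    (hc2 : c * c = 1) (hcX : c ∈ X) : (c = 1 ∨ c = a ∨ c = b ∨ c = a * b) ∨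
      ThEL34.Wild (act L ⟨x, h.T.x_mem⟩) (act L ⟨c, h.SL hcS⟩) := by
  have hca := aS h hcS
  have hcb := h.bc c hcS
  have hxb := h.bc x h.xS
  have hxx := sq_of_order h.T.invx
  have hcL := h.SL hcS
  rcases ThEL34.tri (act L ⟨x, h.T.x_mem⟩) (act_sq hcL hc2) with ⟨l, hl⟩ | ⟨l, hl⟩ | hw
  · left
    obtain ⟨⟨m, hm⟩, rfl⟩ := QuotientGroup.mk_surjective l
    apply inner_mem kf h hcx hca hcb hc2 hm
    rw [← act_eq_iff hcL (le_normalizer hm), hl, act_of_mem hm]
  · exfalso
    obtain ⟨⟨m, hm⟩, rfl⟩ := QuotientGroup.mk_surjective l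
    have hfx : Fixes (x * c * m⁻¹) L := by
      rw [← act_eq_iff (mul_mem h.T.x_mem hcL) (le_normalizer hm), act_mul h.T.x_mem hcL, hl,
        ← mul_assoc, act_sq h.T.x_mem hxx, one_mul, act_of_mem hm]
    have h1 := inner_mem kf h (c := x * c) (by rw [mul_assoc, hcx]) (by
        calc x * c * a = x * (c * a) := by group
          _ = (x * a) * c := by rw [hca]; group
          _ = _ := by rw [← h.T.comm]; group) (by
        calc x * c * b = x * (c * b) := by group
          _ = (x * b) * c := by rw [hcb]; group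
          _ = _ := by rw [hxb]; group) (by
        calc x * c * (x * c) = x * (c * x) * c := by group
          _ = (x * x) * (c * c) := by rw [hcx]; group
          _ = 1 := by rw [hxx, hc2, one_mul]) hm hfx
    have hX : x * c ∈ X := by
      have hbX := bX h
      rcases h1 with h1 | h1 | h1 | h1 <;> rw [h1]
      · exact one_mem _
      · exact h.aX
      · exact hbX
      · exact mul_mem h.aX hbX
    apply h.xX
    have := mul_mem hX (inv_mem hcX)
    rwa [mul_inv_cancel_right] at this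
  · exact Or.inr hw

/-- a 2-element of `C(x)` centralizing `T = C_S(x)` is in `S` -/
theorem mem_S_of_comm (h : Sit X x a b L S) {e : G} (h2 : e * e = 1) (hex : e * x = x * e)
    (hc : ∀ s ∈ S, s * x = x * s → s * e = e * s) : e ∈ S := by
  have hn : e ∈ normalizer ((S ⊓ centralizer ({x} : Set G) : Subgroup G) : Set G) := by
    have h1 : ∀ s ∈ S ⊓ centralizer ({x} : Set G), e * s * e⁻¹ = s := by
      intro s hs
      rw [← hc s hs.1 (comm_c hs.2), mul_inv_cancel_right]
    rw [mem_normalizer_iff_cj]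
    ext s
    rw [mem_cj]
    constructor
    · intro hs
      have h2 := h1 _ hs
      have h3 : e * (e⁻¹ * s * e) * e⁻¹ = s := by group
      rw [h3] at h2
      rwa [← h2] at hs
    · intro hs
      have h2 := h1 s hs
      have h3 : e⁻¹ * s * e = s := by
        calc e⁻¹ * s * e = e⁻¹ * (e * s * e⁻¹) * e := by rw [h2]
          _ = s := by group
      rwa [h3]
  have h3 := h.syl.max _ (isPGroup_sup_zpowers (n := 1) h.syl.two hn (by rw [pow_one, pow_two, h2]))
    (sup_le inf_le_right (zpowers_le.mpr (mem_c hex))) le_sup_left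
  have h4 : e ∈ S ⊓ centralizer ({x} : Set G) := by
    rw [← h3]
    exact mem_sup_right (mem_zpowers e)
  exact h4.1

theorem aSm (h : Sit X x a b L S) : a ∈ S :=
  mem_S_of_comm h (sq_of_order h.T.inva) h.T.comm fun _ hs _ => aS h hs

theorem sb (h : Sit X x a b L S) {s : G} (hs : s ∈ S) : s * b = b * s := h.bc s hs

section y

variable {y : G}

theorem yS (h : Sit X x a b L S) (hy : IsY x a y) : y ∈ S := by
  rcases hy with rfl | rfl
  · exact h.xS
  · exact mul_mem h.xS (aSm h)

theorem yX (h : Sit X x a b L S) (hy : IsY x a y) : y ∉ X := by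
  rcases hy with rfl | rfl
  · exact h.xX
  · intro h1
    apply h.xX
    have := mul_mem h1 (inv_mem h.aX)
    rwa [mul_inv_cancel_right] at this

theorem yy (h : Sit X x a b L S) (hy : IsY x a y) : y * y = 1 := by
  have hxx := sq_of_order h.T.invx
  have haa := sq_of_order h.T.inva
  rcases hy with rfl | rfl
  · exact hxx
  · calc x * a * (x * a) = x * (a * x) * a := by group
      _ = (x * x) * (a * a) := by rw [h.T.comm]; group
      _ = 1 := by rw [hxx, haa, one_mul]

theorem y2 (h : Sit X x a b L S) (hy : IsY x a y) : orderOf y = 2 := by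
  apply orderOf_eq_prime
  · rw [pow_two, yy h hy]
  · rintro rfl
    exact yX h hy (one_mem _)

theorem yx (h : Sit X x a b L S) (hy : IsY x a y) : y * x = x * y := by
  rcases hy with rfl | rfl
  · rfl
  · rw [mul_assoc, h.T.comm]

/-- in `C(a)`: commuting with `y` is commuting with `x` -/
theorem y_iff (h : Sit X x a b L S) (hy : IsY x a y) {s : G} (hs : s * a = a * s) :
    s * y = y * s ↔ s * x = x * s := by
  rcases hy with rfl | rfl
  · rfl
  · constructor
    · intro h1
      have h2 : s * x * a = x * s * a := by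
        calc s * x * a = s * (x * a) := by group
          _ = x * a * s := h1
          _ = x * (a * s) := by group
          _ = _ := by rw [← hs]; group
      exact mul_right_cancel h2
    · intro h1
      calc s * (x * a) = (s * x) * a := by group
        _ = x * (s * a) := by rw [h1]; group
        _ = _ := by rw [hs]; group

/-- `T = S ∩ C(y)` -/
theorem T_eq (h : Sit X x a b L S) (hy : IsY x a y) :
    S ⊓ centralizer ({y} : Set G) = S ⊓ centralizer ({x} : Set G) := by
  ext s
  constructor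
  · rintro ⟨h1, h2⟩
    exact ⟨h1, mem_c ((y_iff h hy (aS h h1)).mp (comm_c h2))⟩
  · rintro ⟨h1, h2⟩
    exact ⟨h1, mem_c ((y_iff h hy (aS h h1)).mpr (comm_c h2))⟩

/-- `T` is Sylow in `C(y)` -/
theorem sylY (h : Sit X x a b L S) (hy : IsY x a y) :
    IsSyl (centralizer ({y} : Set G)) (S ⊓ centralizer ({x} : Set G)) := by
  have hp : Fact (Nat.Prime 2) := ⟨Nat.prime_two⟩
  have hle : S ⊓ centralizer ({x} : Set G) ≤ centralizer ({y} : Set G) := by
    rw [← T_eq h hy]; exact inf_le_right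
  refine ⟨h.syl.two, hle, fun R hR hRC hTR => ?_⟩
  by_contra hne
  obtain ⟨T, hT⟩ : ∃ T, T = S ⊓ centralizer ({x} : Set G) := ⟨_, rfl⟩
  rw [← hT] at hne hTR
  have hlt : T < R := lt_of_le_of_ne hTR (Ne.symm hne)
  obtain ⟨g, hgR, hgN, hgT, n, hn⟩ : ∃ g ∈ R, g ∈ normalizer (T : Set G) ∧ g ∉ T ∧
      ∃ n : ℕ, g ^ 2 ^ n = 1 := by
    have h1 : T.subgroupOf R < ⊤ := by
      rw [lt_top_iff_ne_top]
      intro h2
      rw [subgroupOf_eq_top] at h2
      exact absurd h2 (not_le_of_gt hlt)
    have hnil : Group.IsNilpotent ↥R := hR.isNilpotent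
    have h2 := Group.normalizerCondition_of_isNilpotent (G := ↥R) (T.subgroupOf R) h1
    obtain ⟨⟨g, hg⟩, hgN, hgT⟩ := SetLike.exists_of_lt h2
    refine ⟨g, hg, ?_, fun h3 => hgT h3, ?_⟩
    · rw [mem_normalizer_iff] at hgN ⊢
      intro t
      constructor
      · intro ht
        exact (hgN ⟨t, hTR ht⟩).mp ht
      · intro ht
        have htR : t ∈ R := by
          have := mul_mem (mul_mem (inv_mem hg) (hTR ht)) hg
          convert this using 1
          group
        exact (hgN ⟨t, htR⟩).mpr ht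
    · obtain ⟨n, hn⟩ := hR ⟨g, hg⟩
      exact ⟨n, congrArg Subtype.val hn⟩
  have hgy : g * y = y * g := comm_c (hRC hgR)
  have haT : a ∈ T := hT ▸ ⟨aSm h, mem_c h.T.comm⟩
  have hc : g * a * g⁻¹ ∈ T := (mem_normalizer_iff.mp hgN a).mp haT
  have hcT := hT ▸ hc
  have haa := sq_of_order h.T.inva
  have h1 : g * a * g⁻¹ = a := by
    apply ne_of_conj h (isConj_iff.mpr ⟨g, rfl⟩)
    apply h.zt _ hcT.1 (comm_c hcT.2)
    · exact conj_sq haa (isConj_iff.mpr ⟨g, rfl⟩)
    · exact h.Xn.conj_mem a h.aX g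
    · intro s hs hsx
      have hsT : g⁻¹ * s * g ∈ T := by
        have h2 : s ∈ T := hT ▸ ⟨hs, mem_c hsx⟩
        rw [mem_normalizer_iff_cj] at hgN
        rw [← hgN, mem_cj] at h2
        exact h2
      have h3 := aS h (hT ▸ hsT).1
      calc s * (g * a * g⁻¹) = g * (g⁻¹ * s * g * a) * g⁻¹ := by group
        _ = g * (a * (g⁻¹ * s * g)) * g⁻¹ := by rw [h3]
        _ = _ := by group
  have hga : g * a = a * g := by
    calc g * a = (g * a * g⁻¹) * g := by group
      _ = _ := by rw [h1]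
  have hgx : g * x = x * g := (y_iff h hy hga).mp hgy
  rw [hT] at hgN hgT
  have h3 := h.syl.max _ (isPGroup_sup_zpowers h.syl.two hgN hn)
    (sup_le inf_le_right (zpowers_le.mpr (mem_c hgx))) le_sup_left
  apply hgT
  rw [← h3]
  exact mem_sup_right (mem_zpowers g)

/-- `m(C(y)) ≤ 4` -/
theorem rankY (h : Sit X x a b L S) (hy : IsY x a y) {E : Subgroup G}
    (hE : E ≤ centralizer ({y} : Set G)) (h2 : ∀ e ∈ E, e * e = 1) : Nat.card ↥E ≤ 16 := by
  have hE2 : IsPGroup 2 ↥E := fun e => ⟨1, Subtype.ext (by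
    change (e : G) ^ 2 ^ 1 = 1
    rw [pow_one, pow_two]
    exact h2 e e.2)⟩
  obtain ⟨g, -, hg⟩ := (sylY h hy).conj hE2 hE
  have h3 : cj g⁻¹ E ≤ S ⊓ centralizer ({x} : Set G) := by
    have := cj_mono (g := g⁻¹) hg
    rwa [cj_inv_cj] at this
  have h4 := h.rank (cj g⁻¹ E) (h3.trans inf_le_right) (by
    intro e he
    rw [mem_cj, inv_inv] at he
    have h5 := h2 _ he
    calc e * e = g⁻¹ * (g * e * g⁻¹ * (g * e * g⁻¹)) * g := by group
      _ = 1 := by rw [h5]; group)
  rwa [card_cj] at h4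

end y

end Cfsg.Agent.UGT.LTF.EightA
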