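import Cfsg.Agent.UGT.LTF.EightA

/-!
# (8): the component of `C(t)` moved by `O(C(y)) ∩ C(t)`, `t ∈ {b, a b}`, `y ∈ {x, x a}`

* `exists_adj`: adding an involution to an elementary abelian group.
* `three_comps`: no three simple components of `C(t)`, normalized by `y`.
* `T_le`: `T = C_S(x)` normalizes `J` if `(y, t, J)` is a triple.
* `mem_aat`: a `T`-invariant component of `C(t)` contains `a` or `a t`; `uniq_comp`: there is only one.
-/

set_option autoImplicit false

open Cfsg Subgroup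
open Cfsg.Agent.SignalizersComponents Cfsg.Agent.Lib
open Cfsg.Agent.SignalizersComponents.IntrinsicBasic
open Cfsg.Agent.SignalizersComponents.IntrinsicIntr
open Cfsg.Agent.SignalizersComponents.PLayerAut
open Cfsg.Agent.Intrinsic.Basic Cfsg.Agent.Intrinsic.Cen Cfsg.Agent.Intrinsic.Diag
open Cfsg.Agent.McLLyComp.Act
open Cfsg.Agent.UGT.Triple Cfsg.Agent.UGT.TriBase Cfsg.Agent.UGT.Res.Base
open Cfsg.Agent.UGT.Iface (Bar IsL2 IsL34 IsAltOdd)
open Cfsg.Agent.UGT.LTF.Defs Cfsg.Agent.UGT.LTF.Basics Cfsg.Agent.UGT.LTF.Comp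
open Cfsg.Agent.UGT.LTF.Wild Cfsg.Agent.UGT.LTF.Seven Cfsg.Agent.UGT.LTF.EightA
open scoped commutatorElement

namespace Cfsg.Agent.UGT.LTF.EightB

universe u

variable {G : Type u} [Group G]

/-- `t ∈ {b, a b}` -/
def IsT (a b t : G) : Prop := t = b ∨ t = a * b

/-- adding an involution to an elementary abelian group -/
theorem exists_adj [Finite G] {E : Subgroup G} {u : G} (hE : ∀ e ∈ E, e * e = 1) (hu : u * u = 1)
    (hc : ∀ e ∈ E, e * u = u * e) (hne : u ∉ E) : ∃ E' : Subgroup G, E ≤ E' ∧ u ∈ E' ∧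
      (∀ e ∈ E', e * e = 1) ∧ 2 * Nat.card ↥E ≤ Nat.card ↥E' ∧
      ∀ H : Subgroup G, E ≤ H → u ∈ H → E' ≤ H := by
  have hui : u⁻¹ = u := inv_eq_of_mul_eq_one_left hu
  have hback : ∀ g : G, g = g * u * u := fun g => by rw [mul_assoc, hu, mul_one]
  obtain ⟨E', hE'⟩ : ∃ E' : Subgroup G, ∀ g, g ∈ E' ↔ g ∈ E ∨ g * u ∈ E := by
    refine ⟨{ carrier := {g | g ∈ E ∨ g * u ∈ E}
              mul_mem' := ?_
              one_mem' := Or.inl (one_mem _)
              inv_mem' := ?_ }, fun g => Iff.rfl⟩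
    · rintro g k (hg | hg) (hk | hk)
      · exact Or.inl (mul_mem hg hk)
      · right
        rw [mul_assoc]
        exact mul_mem hg hk
      · right
        have h1 : g * k * u = g * u * k := by rw [mul_assoc, hc k hk, ← mul_assoc]
        rw [h1]
        exact mul_mem hg hk
      · left
        have h2 := hc _ hk
        have h1 : g * k = g * u * (k * u) := by
          calc g * k = g * (k * u * u) := by rw [← hback]
            _ = g * (u * (k * u)) := by rw [h2]
            _ = _ := by group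
        rw [h1]
        exact mul_mem hg hk
    · rintro g (hg | hg)
      · exact Or.inl (inv_mem hg)
      · right
        have h1 : g⁻¹ * u = (g * u)⁻¹ := by
          have h2 := hc _ hg
          have h3 : u * (g * u) = (g * u) * u := h2.symm
          have h4 : u * g = g * u := by
            have : u * g * u = g * u * u := by rw [mul_assoc]; exact h3
            exact mul_right_cancel this
          rw [← h4, mul_inv_rev, hui]
        rw [h1]
        exact inv_mem hg
  have hle : E ≤ E' := fun g hg => (hE' g).mpr (Or.inl hg)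
  have huE : u ∈ E' := (hE' u).mpr (Or.inr (by rw [hu]; exact one_mem _))
  refine ⟨E', hle, huE, ?_, ?_, ?_⟩
  · intro g hg
    rcases (hE' g).mp hg with hg | hg
    · exact hE g hg
    · have h2 := hc _ hg
      calc g * g = (g * u * u) * g := by rw [← hback]
        _ = (u * (g * u)) * g := by rw [h2]
        _ = u * (g * (u * g)) := by group
        _ = u * (g * (u * (g * u * u))) := by rw [← hback]
        _ = u * ((g * u) * (g * u)) * u := by group
        _ = 1 := by rw [hE _ hg, mul_one, hu]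
  · have h1 : Nat.card ↥E ∣ Nat.card ↥E' := card_dvd_of_le hle
    obtain ⟨k, hk⟩ := h1
    have hpos : 0 < Nat.card ↥E' := Nat.card_pos
    have hposE : 0 < Nat.card ↥E := Nat.card_pos
    rcases Nat.lt_or_ge k 2 with hlt | hge
    · exfalso
      have hk1 : k = 1 := by
        rcases Nat.lt_or_ge k 1 with h2 | h2
        · have : k = 0 := by omega
          rw [this, mul_zero] at hk
          omega
        · omega
      rw [hk1, mul_one] at hk
      have h3 : E = E' := Subgroup.eq_of_le_of_card_ge hle hk.le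
      apply hne
      rw [h3]
      exact huE
    · rw [hk, mul_comm]
      exact Nat.mul_le_mul_left _ hge
  · intro H hH hu' g hg
    rcases (hE' g).mp hg with hg | hg
    · exact hH hg
    · rw [hback g]
      exact mul_mem (hH hg) hu'

variable [Finite G] {X : Subgroup G} {x a b : G} {L S : Subgroup G} {y t : G}

theorem tS (h : Sit X x a b L S) (ht : IsT a b t) : t ∈ S := by
  rcases ht with rfl | rfl
  · exact h.bS
  · exact mul_mem (aSm h) h.bS

theorem tX (h : Sit X x a b L S) (ht : IsT a b t) : t ∈ X := by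
  rcases ht with rfl | rfl
  · exact bX h
  · exact mul_mem h.aX (bX h)

theorem ts (h : Sit X x a b L S) (ht : IsT a b t) {s : G} (hs : s ∈ S) : s * t = t * s := by
  rcases ht with rfl | rfl
  · exact h.bc s hs
  · calc s * (a * b) = (s * a) * b := by group
      _ = a * (s * b) := by rw [aS h hs]; group
      _ = _ := by rw [h.bc s hs]; group

theorem t2 (h : Sit X x a b L S) (ht : IsT a b t) : orderOf t = 2 := by
  rcases ht with rfl | rfl
  · exact h.b2
  · have haa := sq_of_order h.T.inva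
    have hbb := sq_of_order h.b2
    apply orderOf_eq_prime
    · rw [pow_two]
      calc a * b * (a * b) = a * (b * a) * b := by group
        _ = (a * a) * (b * b) := by rw [aS h h.bS]; group
        _ = 1 := by rw [haa, hbb, one_mul]
    · intro h1
      have h2 : a = b := by
        calc a = a * (b * b) := by rw [hbb, mul_one]
          _ = (a * b) * b := by group
          _ = b := by rw [h1, one_mul]
      exact h.nab (h2 ▸ IsConj.refl a)

theorem tt (h : Sit X x a b L S) (ht : IsT a b t) : t * t = 1 := sq_of_order (t2 h ht)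

theorem t_ne (h : Sit X x a b L S) (ht : IsT a b t) : t ≠ 1 := ne_one_of_order (t2 h ht)

theorem ct (h : Sit X x a b L S) (ht : IsT a b t) : core (centralizer ({t} : Set G)) = ⊥ :=
  h.cf t (tX h ht) (t2 h ht)

theorem ct_J (h : Sit X x a b L S) (ht : IsT a b t) {J : Subgroup G}
    (hJ : IsComp (centralizer ({t} : Set G)) J) : core J = ⊥ := core_of_comp hJ (ct h ht)

/-- no three simple components of `C(t)` -/
theorem three_comps (h : Sit X x a b L S) (hy : IsY x a y) (ht : IsT a b t)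
    {J₁ J₂ J₃ : Subgroup G} (h1 : IsComp (centralizer ({t} : Set G)) J₁)
    (h2 : IsComp (centralizer ({t} : Set G)) J₂) (h3 : IsComp (centralizer ({t} : Set G)) J₃)
    (hy1 : y ∈ normalizer (J₁ : Set G)) (hy2 : y ∈ normalizer (J₂ : Set G))
    (hy3 : y ∈ normalizer (J₃ : Set G))
    (hc1 : ∀ z ∈ J₁, (∀ j ∈ J₁, z * j = j * z) → z = 1)
    (hc2 : ∀ z ∈ J₂, (∀ j ∈ J₂, z * j = j * z) → z = 1)
    (hc3 : ∀ z ∈ J₃, (∀ j ∈ J₃, z * j = j * z) → z = 1)
    (h12 : J₁ ≠ J₂) (h13 : J₁ ≠ J₃) (h23 : J₂ ≠ J₃) : False := by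
  have hc := ct h ht
  have hcomm := fun {A B : Subgroup G} (hA : IsComp (centralizer ({t} : Set G)) A)
    (hB : IsComp (centralizer ({t} : Set G)) B) (hne : A ≠ B) {i j : G} (hi : i ∈ A) (hj : j ∈ B) =>
      comm_of_ne hA hB hc hne hi hj
  have key : ∀ {J : Subgroup G}, IsComp (centralizer ({t} : Set G)) J →
      y ∈ normalizer (J : Set G) → ∃ e ∈ J, orderOf e = 2 ∧ y * e = e * y := by
    intro J hJ hyJ
    obtain ⟨e, he, ho, hce⟩ := exists_inv (isPGroup_zpowers (y2 h hy)) (zpowers_le.mpr hyJ) hJ.even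
    exact ⟨e, he, ho, hce y (mem_zpowers y)⟩
  obtain ⟨e₁, he1, ho1, hye1⟩ := key h1 hy1
  obtain ⟨e₂, he2, ho2, hye2⟩ := key h2 hy2
  obtain ⟨e₃, he3, ho3, hye3⟩ := key h3 hy3
  have hyt : y * t = t * y := ts h ht (yS h hy)
  -- `⟨t⟩`
  obtain ⟨E1, -, htE, hE1, hk1, hu1⟩ := exists_adj (E := ⊥) (u := t) (by
      intro e he; rw [mem_bot.mp he, one_mul]) (tt h ht) (by
      intro e he; rw [mem_bot.mp he, one_mul, mul_one]) (by
      intro h4; exact t_ne h ht (mem_bot.mp h4))
  have hcen : ∀ {J : Subgroup G}, IsComp (centralizer ({t} : Set G)) J →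
      t ∈ centralizer (J : Set G) := fun hJ => mem_centralizer_iff.mpr fun j hj => comm_c (hJ.le hj)
  have hmul : ∀ {A B : Subgroup G}, IsComp (centralizer ({t} : Set G)) A →
      IsComp (centralizer ({t} : Set G)) B → A ≠ B → ∀ {i : G}, i ∈ A →
      i ∈ centralizer (B : Set G) := fun hA hB hne i hi =>
    mem_centralizer_iff.mpr fun j hj => (hcomm hA hB hne hi hj).symm
  have hout : ∀ {J : Subgroup G} {e : G}, (∀ z ∈ J, (∀ j ∈ J, z * j = j * z) → z = 1) → e ∈ J →
      orderOf e = 2 → ∀ E : Subgroup G, E ≤ centralizer (J : Set G) → e ∉ E := by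
    intro J e hcJ he ho E hE heE
    apply ne_one_of_order ho
    apply hcJ e he
    intro j hj
    exact (mem_centralizer_iff.mp (hE heE) j hj).symm
  obtain ⟨E2, hE12, he1E, hE2, hk2, hu2⟩ := exists_adj (E := E1) (u := e₁) hE1 (sq_of_order ho1)
    (fun e he => (mem_centralizer_iff.mp (hu1 _ bot_le (hcen h1) he) e₁ he1).symm)
    (hout hc1 he1 ho1 E1 (hu1 _ bot_le (hcen h1)))
  have hE2J2 : E2 ≤ centralizer (J₂ : Set G) :=
    hu2 _ (hu1 _ bot_le (hcen h2)) (hmul h1 h2 h12 he1)
  have hE2J3 : E2 ≤ centralizer (J₃ : Set G) :=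
    hu2 _ (hu1 _ bot_le (hcen h3)) (hmul h1 h3 h13 he1)
  obtain ⟨E3, hE23, he2E, hE3, hk3, hu3⟩ := exists_adj (E := E2) (u := e₂) hE2 (sq_of_order ho2)
    (fun e he => (mem_centralizer_iff.mp (hE2J2 he) e₂ he2).symm) (hout hc2 he2 ho2 E2 hE2J2)
  have hE3J3 : E3 ≤ centralizer (J₃ : Set G) := hu3 _ hE2J3 (hmul h2 h3 h23 he2)
  obtain ⟨E4, hE34, he3E, hE4, hk4, hu4⟩ := exists_adj (E := E3) (u := e₃) hE3 (sq_of_order ho3)
    (fun e he => (mem_centralizer_iff.mp (hE3J3 he) e₃ he3).symm) (hout hc3 he3 ho3 E3 hE3J3)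
  have hE4y : E4 ≤ centralizer ({y} : Set G) := hu4 _ (hu3 _ (hu2 _ (hu1 _ bot_le
    (mem_c hyt.symm)) (mem_c hye1.symm)) (mem_c hye2.symm)) (mem_c hye3.symm)
  have hE4X : E4 ≤ X := hu4 _ (hu3 _ (hu2 _ (hu1 _ bot_le (tX h ht)) (le_X h h1 he1))
    (le_X h h2 he2)) (le_X h h3 he3)
  obtain ⟨E5, hE45, hyE, hE5, hk5, hu5⟩ := exists_adj (E := E4) (u := y) hE4 (yy h hy)
    (fun e he => comm_c (hE4y he)) (fun h4 => yX h hy (hE4X h4))
  have hE5y : E5 ≤ centralizer ({y} : Set G) := hu5 _ hE4y (mem_c rfl)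
  have hr := rankY h hy hE5y hE5
  rw [card_bot] at hk1
  omega

/-- the types: trivial centre -/
theorem cen_J (kf : KF34.{u}) (kf2 : KF2.{u}) (kfa : KFA.{u}) (h : Sit X x a b L S)
    (hy : IsY x a y) (ht : IsT a b t) {J : Subgroup G} (T : IsTriple y t J) :
    ∀ z ∈ J, (∀ j ∈ J, z * j = j * z) → z = 1 :=
  center_typ kf kf2 kfa T (ct_J h ht T.comp) (h.typ _ _ _ (yX h hy) (tX h ht) T)

omit [Finite G] in
theorem cj_triple {J : Subgroup G} (T : IsTriple y t J) {w : G} (hwy : w * y = y * w)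
    (hwt : w * t = t * w) : IsTriple y t (cj w J) := by
  have h1 := T.cj w
  have h2 : w * y * w⁻¹ = y := by rw [hwy, mul_inv_cancel_right]
  have h3 : w * t * w⁻¹ = t := by rw [hwt, mul_inv_cancel_right]
  rwa [h2, h3] at h1

/-- `T ∩ J ≠ 1` -/
theorem exists_s (h : Sit X x a b L S) (hy : IsY x a y) (ht : IsT a b t) {J : Subgroup G}
    (hJ : IsComp (centralizer ({t} : Set G)) J) (hyJ : y ∈ normalizer (J : Set G)) :
    ∃ s ∈ J, s ∈ S ∧ s * x = x * s ∧ orderOf s = 2 ∧
      ∀ w ∈ S, w * x = x * w → w ∈ normalizer (J : Set G) → w * s = s * w := by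
  obtain ⟨T, hT⟩ : ∃ T, T = S ⊓ centralizer ({x} : Set G) := ⟨_, rfl⟩
  have hTt : T ≤ centralizer ({t} : Set G) := by
    intro s hs
    exact mem_c (ts h ht (hT ▸ hs).1)
  have hsyl : IsSyl (centralizer ({t} : Set G) ⊓ centralizer ({y} : Set G)) T := by
    have h1 := sylY h hy
    rw [← hT] at h1
    exact ⟨h1.two, le_inf hTt h1.le, fun R h2 h3 h4 => h1.max R h2 (h3.trans inf_le_right) h4⟩
  have hsub : ((J ⊓ centralizer ({y} : Set G)).subgroupOf
      (centralizer ({t} : Set G) ⊓ centralizer ({y} : Set G))).IsSubnormal := by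
    have h1 : ((J.subgroupOf (centralizer ({t} : Set G))).comap (inclusion (inf_le_left :
        centralizer ({t} : Set G) ⊓ centralizer ({y} : Set G) ≤ centralizer ({t} : Set G)))).IsSubnormal :=
      hJ.2.1.comap _
    convert h1 using 1
    ext ⟨z, hz⟩
    simp only [mem_subgroupOf, mem_inf, mem_comap]
    exact ⟨fun h => h.1, fun h => ⟨h, hz.2⟩⟩
  have hs := inf_subnormal hsyl (inf_le_inf_right _ hJ.le) hsub
  obtain ⟨e, he, ho, hce⟩ := exists_inv (isPGroup_zpowers (y2 h hy)) (zpowers_le.mpr hyJ) hJ.even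
  have hey : e ∈ J ⊓ centralizer ({y} : Set G) := ⟨he, mem_c (hce y (mem_zpowers y)).symm⟩
  have h2 : 2 ∣ Nat.card ↥(J ⊓ centralizer ({y} : Set G)) := by
    have h3 := orderOf_dvd_natCard (⟨e, hey⟩ : ↥(J ⊓ centralizer ({y} : Set G)))
    rwa [Subgroup.orderOf_mk, ho] at h3
  obtain ⟨N, hN⟩ : ∃ N, N = T ⊓ (J ⊓ centralizer ({y} : Set G)) := ⟨_, rfl⟩
  rw [← hN] at hs
  have hNne : N ≠ ⊥ := by
    intro h4
    have h5 := hs.dvd_card (k := 1) (by rwa [pow_one])
    rw [h4, card_bot, pow_one] at h5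
    omega
  obtain ⟨s, hsN, hso, hsc⟩ := exists_central (T := T ⊓ normalizer (J : Set G)) (N := N)
    (hsyl.two.to_le inf_le_left) (by
      rw [hN]
      exact le_inf inf_le_left ((inf_le_right.trans inf_le_left).trans le_normalizer)) (by
      intro w hw
      have hwy : w ∈ centralizer ({y} : Set G) := by
        have h1 := sylY h hy
        rw [← hT] at h1
        exact h1.le hw.1
      rw [mem_normalizer_iff_cj, hN, cj_inf, cj_inf, mem_normalizer_iff_cj.mp (le_normalizer hw.1),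
        mem_normalizer_iff_cj.mp hw.2, mem_normalizer_iff_cj.mp (le_normalizer hwy)]) hNne
  rw [hN] at hsN
  have hsT := hT ▸ hsN.1
  refine ⟨s, hsN.2.1, hsT.1, comm_c hsT.2, hso, fun w hw hwx hwJ => hsc w ⟨hT ▸ ⟨hw, mem_c hwx⟩, hwJ⟩⟩

/-- `J ∩ Z(T) ≠ 1` implies `T ≤ N(J)` -/
theorem norm_of_cen (h : Sit X x a b L S) (ht : IsT a b t) {J : Subgroup G}
    (hJ : IsComp (centralizer ({t} : Set G)) J)
    (hc : ∀ z ∈ J, (∀ j ∈ J, z * j = j * z) → z = 1) {s w : G} (hs : s ∈ J) (hs1 : s ≠ 1)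
    (hws : w * s = s * w) (hwt : w * t = t * w) : w ∈ normalizer (J : Set G) := by
  rw [mem_normalizer_iff_cj]
  by_contra hne
  apply hs1
  apply hc s hs
  intro j hj
  have h1 : s ∈ cj w J := by
    have h2 := conj_mem_cj (g := w) hs
    rwa [hws, mul_inv_cancel_right] at h2
  exact comm_of_ne (comp_cj hJ (mem_c hwt)) hJ (ct h ht) hne h1 hj

/-- `T = C_S(x)` normalizes `J` if `(y, t, J)` is a triple -/
theorem T_le (kf : KF34.{u}) (kf2 : KF2.{u}) (kfa : KFA.{u}) (h : Sit X x a b L S)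
    (hy : IsY x a y) (ht : IsT a b t) {J : Subgroup G} (T : IsTriple y t J) {w : G} (hw : w ∈ S)
    (hwx : w * x = x * w) : w ∈ normalizer (J : Set G) := by
  have hcJ := cen_J kf kf2 kfa h hy ht T
  obtain ⟨s, hsJ, hsS, hsx, hso, hsc⟩ := exists_s h hy ht T.comp T.x_mem
  have hss := sq_of_order hso
  rcases S_cases kf h hsS hsx hss (le_X h T.comp hsJ) with h1 | hwild
  · apply norm_of_cen h ht T.comp hcJ hsJ (ne_one_of_order hso) ?_ (ts h ht hw)
    rcases h1 with rfl | rfl | rfl | rfl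
    · rw [one_mul, mul_one]
    · exact aS h hw
    · exact h.bc w hw
    · exact ts h (Or.inr rfl) hw
  · exfalso
    have hc := core_L h
    obtain ⟨W, hW⟩ : ∃ W, W = S ⊓ centralizer ({x} : Set G) ⊓ L := ⟨_, rfl⟩
    have hW8 : 8 ≤ Nat.card ↥W := hW ▸ h.w8
    obtain ⟨N, hN⟩ : ∃ N, N = W ⊓ normalizer (J : Set G) := ⟨_, rfl⟩
    have hNW : N ≤ W := hN ▸ inf_le_left
    have hN2 : Nat.card ↥N ≤ 2 := by
      have hNL : N ≤ L := hNW.trans (hW ▸ inf_le_right)
      have h2 := (ft kf h).wsmall _ hwild (by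
        rw [← act_mul, ← act_mul]
        exact act_congr _ hsx) ((N.subgroupOf L).map (QuotientGroup.mk' (oddCore ↥L))) ?_ ?_
      · have h3 : Nat.card ↥((N.subgroupOf L).map (QuotientGroup.mk' (oddCore ↥L))) =
            Nat.card ↥N := by
          have hinj : Function.Injective (QuotientGroup.mk' (oddCore ↥L)) := by
            rintro ⟨u, hu⟩ ⟨v, hv⟩ huv
            exact Subtype.ext (mk_inj hc hu hv huv)
          rw [card_map_of_injective hinj]
          exact Nat.card_congr (subgroupOfEquivOfLe hNL).toEquiv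
        rwa [h3] at h2
      · have h3 : IsPGroup 2 ↥N := h.S2.to_le (hNW.trans (hW ▸ inf_le_left.trans inf_le_left))
        exact (h3.of_injective (subgroupOfEquivOfLe hNL).toMonoidHom
          (subgroupOfEquivOfLe hNL).injective).map _
      · rintro _ ⟨⟨v, hv⟩, hvN, rfl⟩
        have hvN' : v ∈ N := hvN
        have hvW := hW ▸ hNW hvN'
        have hvJ : v ∈ normalizer (J : Set G) := (hN ▸ hvN').2
        have hvx := comm_c hvW.1.2
        exact ⟨act_fix' h.T.x_mem hv hvx.symm, act_fix' (h.SL hsS) hv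
          (hsc v hvW.1.1 hvx hvJ).symm⟩
    have hWc : ∀ v ∈ W, v * y = y * v ∧ v * t = t * v := by
      intro v hv
      rw [hW] at hv
      exact ⟨(y_iff h hy (aS h hv.1.1)).mpr (comm_c hv.1.2), ts h ht hv.1.1⟩
    have hcov : ∀ w₁ ∈ W, (∀ v ∈ W, v ∈ N ∨ w₁⁻¹ * v ∈ N) → Nat.card ↥W ≤ 4 := by
      intro w₁ hw₁ hall
      have h3 : Function.Surjective (fun p : Bool × ↥N => if p.1 then
          (⟨w₁ * p.2, mul_mem hw₁ (hNW p.2.2)⟩ : ↥W) else ⟨p.2, hNW p.2.2⟩) := by
        rintro ⟨v, hv⟩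
        rcases hall v hv with h4 | h4
        · exact ⟨(false, ⟨v, h4⟩), rfl⟩
        · refine ⟨(true, ⟨w₁⁻¹ * v, h4⟩), ?_⟩
          apply Subtype.ext
          change w₁ * (w₁⁻¹ * v) = v
          group
      have h4 := Nat.card_le_card_of_surjective _ h3
      rw [Nat.card_prod, Nat.card_eq_fintype_card (α := Bool), Fintype.card_bool] at h4
      omega
    obtain ⟨w₁, hw₁, hw₁N⟩ : ∃ w₁ ∈ W, w₁ ∉ N := by
      by_contra hcon
      push Not at hcon
      have h3 : Nat.card ↥W ≤ Nat.card ↥N := Nat.le_of_dvd Nat.card_pos (card_dvd_of_le hcon)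
      omega
    obtain ⟨w₂, hw₂, hw₂N, hw₂N'⟩ : ∃ w₂ ∈ W, w₂ ∉ N ∧ w₁⁻¹ * w₂ ∉ N := by
      by_contra hcon
      push Not at hcon
      have h3 := hcov w₁ hw₁ fun v hv => by
        by_cases h4 : v ∈ N
        · exact Or.inl h4
        · exact Or.inr (hcon v hv h4)
      omega
    have hne : ∀ v ∈ W, v ∉ N → cj v J ≠ J := by
      intro v hv hvN h3
      exact hvN (hN ▸ ⟨hv, mem_normalizer_iff_cj.mpr h3⟩)
    have T₁ := cj_triple T (hWc w₁ hw₁).1 (hWc w₁ hw₁).2
    have T₂ := cj_triple T (hWc w₂ hw₂).1 (hWc w₂ hw₂).2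
    refine three_comps h hy ht T.comp T₁.comp T₂.comp T.x_mem T₁.x_mem T₂.x_mem hcJ
      (cen_J kf kf2 kfa h hy ht T₁) (cen_J kf kf2 kfa h hy ht T₂) (hne w₁ hw₁ hw₁N).symm
      (hne w₂ hw₂ hw₂N).symm ?_
    intro h3
    apply hne _ (mul_mem (inv_mem hw₁) hw₂) hw₂N'
    rw [cj_mul, ← h3, cj_inv_cj]

/-- a `T`-invariant component of `C(t)` with trivial centre contains `a` or `a t` -/
theorem mem_aat (h : Sit X x a b L S) (hy : IsY x a y) (ht : IsT a b t) {J : Subgroup G}
    (hJ : IsComp (centralizer ({t} : Set G)) J)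
    (hc : ∀ z ∈ J, (∀ j ∈ J, z * j = j * z) → z = 1)
    (hT : ∀ w ∈ S, w * x = x * w → w ∈ normalizer (J : Set G)) : a ∈ J ∨ a * t ∈ J := by
  obtain ⟨s, hsJ, hsS, hsx, hso, hsc⟩ := exists_s h hy ht hJ (hT y (yS h hy) (yx h hy))
  have h1 := h.zt s hsS hsx (sq_of_order hso) (le_X h hJ hsJ) fun w hw hwx =>
    hsc w hw hwx (hT w hw hwx)
  have h2 : s ≠ t := by
    rintro rfl
    apply ne_one_of_order hso
    apply hc s hsJ
    intro j hj
    exact (comm_c (hJ.le hj)).symm
  have haa := sq_of_order h.T.inva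
  rcases ht with rfl | rfl
  · rcases h1 with h1 | h1 | h1 | h1
    · exact (ne_one_of_order hso h1).elim
    · exact Or.inl (h1 ▸ hsJ)
    · exact (h2 h1).elim
    · exact Or.inr (h1 ▸ hsJ)
  · rcases h1 with h1 | h1 | h1 | h1
    · exact (ne_one_of_order hso h1).elim
    · exact Or.inl (h1 ▸ hsJ)
    · right
      have h3 : a * (a * b) = b := by rw [← mul_assoc, haa, one_mul]
      rw [h3]
      exact h1 ▸ hsJ
    · exact (h2 h1).elim

/-- there is only one `T`-invariant component of `C(t)` with trivial centre -/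
theorem uniq_comp (h : Sit X x a b L S) (hy : IsY x a y) (ht : IsT a b t) {J J' : Subgroup G}
    (hJ : IsComp (centralizer ({t} : Set G)) J)
    (hc : ∀ z ∈ J, (∀ j ∈ J, z * j = j * z) → z = 1)
    (hT : ∀ w ∈ S, w * x = x * w → w ∈ normalizer (J : Set G))
    (hJ' : IsComp (centralizer ({t} : Set G)) J')
    (hc' : ∀ z ∈ J', (∀ j ∈ J', z * j = j * z) → z = 1)
    (hT' : ∀ w ∈ S, w * x = x * w → w ∈ normalizer (J' : Set G)) : J = J' := by
  by_contra hne
  have hct := ct h ht
  have haa := sq_of_order h.T.inva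
  have htt := tt h ht
  have ha1 := ne_one_of_order h.T.inva
  have hat : a * t = t * a := (ts h ht (aSm h))
  have hat1 : a * t ≠ 1 := by
    intro h1
    have h2 : t = a := by
      calc t = a * (a * t) := by rw [← mul_assoc, haa, one_mul]
        _ = a := by rw [h1, mul_one]
    rcases ht with rfl | rfl
    · exact h.nab (h2 ▸ IsConj.refl a)
    · exact h.naab (by
        rw [h2])
  have hcomm := fun {i j : G} (hi : i ∈ J) (hj : j ∈ J') => comm_of_ne hJ hJ' hct hne hi hj
  -- `t` centralizes everything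
  have hk : ∀ {K : Subgroup G}, IsComp (centralizer ({t} : Set G)) K → ∀ k ∈ K, t * k = k * t :=
    fun hK k hk => (comm_c (hK.le hk)).symm
  rcases mem_aat h hy ht hJ hc hT with h1 | h1 <;> rcases mem_aat h hy ht hJ' hc' hT' with h2 | h2
  · exact ha1 (hc a h1 fun j hj => (hcomm hj h2).symm)
  · -- `a ∈ J`, `a t ∈ J'`
    apply ha1
    apply hc a h1
    intro j hj
    have h3 := hcomm hj h2
    have h4 := hk hJ j hj
    have h5 : a * j * t = j * a * t := by
      calc a * j * t = a * t * j := by rw [mul_assoc, ← h4, ← mul_assoc]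
        _ = j * (a * t) := h3.symm
        _ = _ := by group
    exact mul_right_cancel h5
  · apply ha1
    apply hc' a h2
    intro j hj
    have h3 := hcomm h1 hj
    have h4 := hk hJ' j hj
    have h5 : a * j * t = j * a * t := by
      calc a * j * t = a * t * j := by rw [mul_assoc, ← h4, ← mul_assoc]
        _ = j * (a * t) := h3
        _ = _ := by group
    exact mul_right_cancel h5
  · exact hat1 (hc _ h1 fun j hj => (hcomm hj h2).symm)

end Cfsg.Agent.UGT.LTF.EightB
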