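import Cfsg.Agent.UGT.LTF.EightB

/-!
# (8): `y` is outer on `J`, `J` is not alternating

`a` inverts `D = O(C(y)) ∩ C(t)`.

* `outer`: `y` does not induce an inner automorphism on `J`.
* `not_alt`: `J` is not alternating.
* `faithful`: `D` acts faithfully on `J`.
-/

set_option autoImplicit false

open Cfsg Subgroup
open Cfsg.Agent.SignalizersComponents Cfsg.Agent.Lib
open Cfsg.Agent.SignalizersComponents.IntrinsicBasic
open Cfsg.Agent.SignalizersComponents.IntrinsicIntr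
open Cfsg.Agent.SignalizersComponents.PLayerAut
open Cfsg.Agent.Intrinsic.Basic Cfsg.Agent.Intrinsic.Cen Cfsg.Agent.Intrinsic.Diag
open Cfsg.Agent.McLLyComp.Act
open Cfsg.Agent.UGT.Triple Cfsg.Agent.UGT.TriBase Cfsg.Agent.UGT.Res.Base
open Cfsg.Agent.UGT.Iface (Bar IsL2 IsL34 IsAltOdd)
open Cfsg.Agent.UGT.LTF.Defs Cfsg.Agent.UGT.LTF.Basics Cfsg.Agent.UGT.LTF.Comp
open Cfsg.Agent.UGT.LTF.Wild Cfsg.Agent.UGT.LTF.Seven Cfsg.Agent.UGT.LTF.EightA
open Cfsg.Agent.UGT.LTF.EightB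
open scoped commutatorElement

namespace Cfsg.Agent.UGT.LTF.EightC

universe u

variable {G : Type u} [Group G] [Finite G] {X : Subgroup G} {x a b : G} {L S : Subgroup G} {y t : G}
  {J : Subgroup G}

/-- `a` inverts `O(C(y)) ∩ C(t)` -/
def Inv (a y t : G) : Prop :=
  ∀ d ∈ core (centralizer ({y} : Set G)), d * t = t * d → a * d * a⁻¹ = d⁻¹

/-- `a` acts as an element of `J ∩ {a, a t}` on `J` -/
theorem a_on_J (h : Sit X x a b L S) (hy : IsY x a y) (ht : IsT a b t)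
    (hJ : IsComp (centralizer ({t} : Set G)) J)
    (hc : ∀ z ∈ J, (∀ j ∈ J, z * j = j * z) → z = 1)
    (hT : ∀ w ∈ S, w * x = x * w → w ∈ normalizer (J : Set G)) :
    ∃ s ∈ J, (s = a ∨ s = a * t) ∧ ∀ j ∈ J, a * j = s * j * s⁻¹ * a := by
  rcases mem_aat h hy ht hJ hc hT with h1 | h1
  · exact ⟨a, h1, Or.inl rfl, fun j _ => by group⟩
  · refine ⟨a * t, h1, Or.inr rfl, fun j hj => ?_⟩
    have h2 : j * t = t * j := comm_c (hJ.le hj)
    have h3 : t⁻¹ = t := inv_eq_of_mul_eq_one_left (tt h ht)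
    have h4 : t * j * t⁻¹ = j := by rw [← h2, mul_inv_cancel_right]
    calc a * j = a * (t * j * t⁻¹) * (a⁻¹ * a) := by rw [h4]; group
      _ = _ := by group

theorem act_a (h : Sit X x a b L S) (ht : IsT a b t) {J : Subgroup G}
    (hJ : IsComp (centralizer ({t} : Set G)) J) {s : G} (hsJ : s ∈ J) (hs : s = a ∨ s = a * t) :
    Fixes (s * a) J := by
  have haa := sq_of_order h.T.inva
  have hta : a * t = t * a := (ts h ht (aSm h))
  apply fixes_of_comm
  intro j hj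
  rcases hs with rfl | rfl
  · rw [haa, one_mul, mul_one]
  · have h1 : a * t * a = t := by rw [hta, mul_assoc, haa, mul_one]
    rw [h1]
    exact (comm_c (hJ.le hj)).symm

/-- the elements of `J` of order 2 centralized by `T` -/
theorem cen_T (h : Sit X x a b L S) (ht : IsT a b t)
    (hJ : IsComp (centralizer ({t} : Set G)) J)
    (hc : ∀ z ∈ J, (∀ j ∈ J, z * j = j * z) → z = 1) {m : G} (hm : m ∈ J) (h2 : m * m = 1)
    (hm1 : m ≠ 1) (hT : ∀ w ∈ S, w * x = x * w → w * m = m * w) : m = a ∨ m = a * t := by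
  have hmx : m * x = x * m := (hT x h.xS rfl).symm
  have hmS : m ∈ S := mem_S_of_comm h h2 hmx hT
  have h1 := h.zt m hmS hmx h2 (le_X h hJ hm) hT
  have h3 : m ≠ t := by
    rintro rfl
    apply hm1
    apply hc m hm
    intro j hj
    exact (comm_c (hJ.le hj)).symm
  have haa := sq_of_order h.T.inva
  rcases ht with rfl | rfl
  · rcases h1 with h1 | h1 | h1 | h1
    · exact (hm1 h1).elim
    · exact Or.inl h1
    · exact (h3 h1).elim
    · exact Or.inr h1
  · rcases h1 with h1 | h1 | h1 | h1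
    · exact (hm1 h1).elim
    · exact Or.inl h1
    · right
      rw [h1, ← mul_assoc, haa, one_mul]
    · exact (h3 h1).elim

/-- `y` is outer on `J` -/
theorem outer (kf : KF34.{u}) (kf2 : KF2.{u}) (kfa : KFA.{u}) (h : Sit X x a b L S)
    (hy : IsY x a y) (ht : IsT a b t) (hinv : Inv a y t) (T : IsTriple y t J) :
    ∀ l, act J ⟨y, T.x_mem⟩ ≠ MulAut.conj l := by
  intro l hl
  have hcore := ct_J h ht T.comp
  have hc := cen_J kf kf2 kfa h hy ht T
  have hT := fun w hw hwx => T_le kf kf2 kfa h hy ht T (w := w) hw hwx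
  obtain ⟨⟨m, hm⟩, rfl⟩ := QuotientGroup.mk_surjective l
  have hf : Fixes (y * m⁻¹) J := by
    rw [← act_eq_iff T.x_mem (le_normalizer hm), hl, act_of_mem hm]
  have hk : ∀ j ∈ J, y * m⁻¹ * j = j * (y * m⁻¹) := fun j hj => comm_of_fixes hcore hf hj
  have hym : y * m = m * y := by
    have h1 := hk m hm
    calc y * m = (y * m⁻¹ * m) * m := by group
      _ = m * (y * m⁻¹) * m := by rw [h1]
      _ = _ := by group
  have hyy := yy h hy
  have hmm : m * m = 1 := by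
    apply hc _ (mul_mem hm hm)
    intro j hj
    -- `m j m⁻¹ = y j y⁻¹`
    have h1 : ∀ j ∈ J, m * j * m⁻¹ = y * j * y⁻¹ := by
      intro j hj
      have h2 := hk _ (mul_mem (mul_mem hm hj) (inv_mem hm))
      calc m * j * m⁻¹ = (m * j * m⁻¹) * (y * m⁻¹) * (y * m⁻¹)⁻¹ := by group
        _ = (y * m⁻¹) * (m * j * m⁻¹) * (y * m⁻¹)⁻¹ := by rw [h2]
        _ = _ := by group
    have h2 := h1 _ (mul_mem (mul_mem hm hj) (inv_mem hm))
    have h3 : m * m * j * (m * m)⁻¹ = j := by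
      calc m * m * j * (m * m)⁻¹ = m * (m * j * m⁻¹) * m⁻¹ := by group
        _ = y * (m * j * m⁻¹) * y⁻¹ := h2
        _ = y * (y * j * y⁻¹) * y⁻¹ := by rw [h1 j hj]
        _ = (y * y) * j * (y * y)⁻¹ := by group
        _ = j := by rw [hyy]; group
    calc m * m * j = (m * m * j * (m * m)⁻¹) * (m * m) := by group
      _ = _ := by rw [h3]
  have hm1 : m ≠ 1 := by
    rintro rfl
    rw [inv_one, mul_one] at hf
    exact T.not_fixes hf
  have hTm : ∀ w ∈ S, w * x = x * w → w * m = m * w := by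
    intro w hw hwx
    have hwJ := hT w hw hwx
    have hwy : w * y = y * w := (y_iff h hy (aS h hw)).mpr hwx
    have h1 := fixes_conj hf hwJ
    have h2 : w * (y * m⁻¹) * w⁻¹ = y * (w * m * w⁻¹)⁻¹ := by
      calc w * (y * m⁻¹) * w⁻¹ = (w * y) * m⁻¹ * w⁻¹ := by group
        _ = _ := by rw [hwy]; group
    rw [h2] at h1
    have h3 := fixes_mul (fixes_inv hf) h1
    have hwm : w * m * w⁻¹ ∈ J := conj_mem hwJ hm
    have h4 : (y * m⁻¹)⁻¹ * (y * (w * m * w⁻¹)⁻¹) = m * (w * m * w⁻¹)⁻¹ := by group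
    rw [h4] at h3
    have h5 := hc _ (mul_mem hm (inv_mem hwm)) fun j hj => comm_of_fixes hcore h3 hj
    have h6 := mul_inv_eq_one.mp h5
    calc w * m = (w * m * w⁻¹) * w := by group
      _ = _ := by rw [← h6]
  have hma := cen_T h ht T.comp hc hm hmm hm1 hTm
  have hfa : Fixes (y * a) J := by
    have h1 := act_a h ht T.comp hm hma
    have h2 := fixes_mul hf h1
    have h3 : y * m⁻¹ * (m * a) = y * a := by group
    rwa [h3] at h2
  obtain ⟨d, hd, hdt, hfd⟩ := T.bad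
  have hdJ := T.mem_normalizer_of_core hd hdt
  have hyd : d * y = y * d := comm_c (core_le _ hd)
  have h1 := hinv d hd (comm_c hdt)
  have h2 : act J ⟨d, hdJ⟩ * act J ⟨d, hdJ⟩ = 1 := by
    have h3 : y * a * d * (y * a)⁻¹ = d⁻¹ := by
      calc y * a * d * (y * a)⁻¹ = y * (a * d * a⁻¹) * y⁻¹ := by group
        _ = y * d⁻¹ * y⁻¹ := by rw [h1]
        _ = (y * d * y⁻¹)⁻¹ := by group
        _ = _ := by rw [← hyd, mul_inv_cancel_right]
    have h4 := (act_eq_one_iff (K := J) hfa.1).mpr hfa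
    have h5 : act J ⟨y * a * d * (y * a)⁻¹, mul_mem (mul_mem hfa.1 hdJ) (inv_mem hfa.1)⟩ =
        act J ⟨d, hdJ⟩ := by
      rw [act_mul (mul_mem hfa.1 hdJ) (inv_mem hfa.1), act_mul hfa.1 hdJ, act_inv hfa.1, h4,
        one_mul, inv_one, mul_one]
    have h6 : act J ⟨y * a * d * (y * a)⁻¹, mul_mem (mul_mem hfa.1 hdJ) (inv_mem hfa.1)⟩ =
        (act J ⟨d, hdJ⟩)⁻¹ := by
      rw [← act_inv hdJ]
      exact act_congr _ h3
    rw [h5] at h6
    calc act J ⟨d, hdJ⟩ * act J ⟨d, hdJ⟩ = act J ⟨d, hdJ⟩ * (act J ⟨d, hdJ⟩)⁻¹ := by rw [← h6]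
      _ = 1 := mul_inv_cancel _
  have h3 := eq_one_of_sq_odd (oddC T hcore).odd (d := act J ⟨d, hdJ⟩)
    (mem_img.mpr ⟨d, hdJ, hd, comm_c hdt, rfl⟩) h2
  rw [act_eq_one_iff] at h3
  exact hfd h3

/-- `J` is not alternating -/
theorem not_alt (kf : KF34.{u}) (kf2 : KF2.{u}) (kfa : KFA.{u}) (h : Sit X x a b L S)
    (hy : IsY x a y) (ht : IsT a b t) (hinv : Inv a y t) (T : IsTriple y t J) :
    ¬ IsAltOdd (Bar J) := by
  intro halt
  have hcore := ct_J h ht T.comp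
  have hc := cen_J kf kf2 kfa h hy ht T
  obtain ⟨A, hA8, hA⟩ := (kfa _ halt).2 _ (act_sq T.x_mem (yy h hy))
    (outer kf kf2 kfa h hy ht hinv T) _ (oddC T hcore) (img_ne T)
  obtain ⟨A', hA'⟩ : ∃ A', A' = (A.comap (QuotientGroup.mk' (oddCore ↥J))).map J.subtype := ⟨_, rfl⟩
  have hmem : ∀ e ∈ A', ∃ he : e ∈ J, (QuotientGroup.mk (⟨e, he⟩ : ↥J) : Bar J) ∈ A := by
    rintro e he
    rw [hA'] at he
    obtain ⟨⟨e, he⟩, he', rfl⟩ := he
    exact ⟨he, he'⟩
  have hcard : Nat.card ↥A' = 8 := by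
    rw [hA', card_map_of_injective J.subtype_injective]
    have hinj : Function.Injective (QuotientGroup.mk' (oddCore ↥J)) := by
      rintro ⟨u, hu⟩ ⟨v, hv⟩ huv
      exact Subtype.ext (mk_inj hcore hu hv huv)
    have h1 : (A.comap (QuotientGroup.mk' (oddCore ↥J))).map (QuotientGroup.mk' (oddCore ↥J)) = A :=
      map_comap_eq_self_of_surjective (QuotientGroup.mk'_surjective _) A
    have h2 := card_map_of_injective (f := QuotientGroup.mk' (oddCore ↥J))
      (K := A.comap (QuotientGroup.mk' (oddCore ↥J))) hinj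
    rw [← h2, h1, hA8]
  have hsq : ∀ e ∈ A', e * e = 1 := by
    intro e he
    obtain ⟨heJ, heA⟩ := hmem e he
    exact mk_inj hcore (mul_mem heJ heJ) (one_mem J) ((hA _ heA).1)
  have hey : ∀ e ∈ A', y * e = e * y := by
    intro e he
    obtain ⟨heJ, heA⟩ := hmem e he
    exact act_fix hcore T.x_mem heJ (hA _ heA).2
  have hAJ : A' ≤ J := fun e he => (hmem e he).1
  obtain ⟨E1, hAE, htE, hE1, hk1, hu1⟩ := exists_adj (E := A') (u := t) hsq (tt h ht)
    (fun e he => comm_c (T.comp.le (hAJ he))) (by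
      intro h1
      apply t_ne h ht
      apply hc t (hAJ h1)
      intro j hj
      exact (comm_c (T.comp.le hj)).symm)
  have hE1y : E1 ≤ centralizer ({y} : Set G) := hu1 _ (fun e he => mem_c (hey e he).symm)
    (mem_c (ts h ht (yS h hy)).symm)
  have hE1X : E1 ≤ X := hu1 _ (hAJ.trans (le_X h T.comp)) (tX h ht)
  obtain ⟨E2, -, -, hE2, hk2, hu2⟩ := exists_adj (E := E1) (u := y) hE1 (yy h hy)
    (fun e he => comm_c (hE1y he)) (fun h1 => yX h hy (hE1X h1))
  have hr := rankY h hy (hu2 _ hE1y (mem_c rfl)) hE2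
  omega

/-- `D` acts faithfully on `J` -/
theorem faithful (kf : KF34.{u}) (kf2 : KF2.{u}) (kfa : KFA.{u}) (h : Sit X x a b L S)
    (hy : IsY x a y) (ht : IsT a b t) (T : IsTriple y t J) {d : G}
    (hd : d ∈ core (centralizer ({y} : Set G))) (hdt : d * t = t * d) (hf : Fixes d J) : d = 1 := by
  by_contra hne
  obtain ⟨J', T', hf'⟩ := exists_triple (y2 h hy) (t2 h ht) (ts h ht (yS h hy)).symm hd (mem_c hdt)
    (by rw [ct h ht, mem_bot]; exact hne)
  have h1 := uniq_comp h hy ht T.comp (cen_J kf kf2 kfa h hy ht T)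
    (fun w hw hwx => T_le kf kf2 kfa h hy ht T hw hwx) T'.comp (cen_J kf kf2 kfa h hy ht T')
    (fun w hw hwx => T_le kf kf2 kfa h hy ht T' hw hwx)
  subst h1
  exact hf' hf

/-- the types -/
theorem types (kf : KF34.{u}) (kf2 : KF2.{u}) (kfa : KFA.{u}) (h : Sit X x a b L S)
    (hy : IsY x a y) (ht : IsT a b t) (hinv : Inv a y t) (T : IsTriple y t J) :
    (IsL2 (Bar J) ∧ F2 (act J ⟨y, T.x_mem⟩)) ∨ (IsL34 (Bar J) ∧ FT (act J ⟨y, T.x_mem⟩)) := by
  have hcore := ct_J h ht T.comp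
  rcases h.typ _ _ _ (yX h hy) (tX h ht) T with h1 | h1 | h1
  · exact Or.inl ⟨h1, (kf2 _ h1).2 _ (act_sq T.x_mem (yy h hy)) (outer kf kf2 kfa h hy ht hinv T)⟩
  · exact (not_alt kf kf2 kfa h hy ht hinv T h1).elim
  · exact Or.inr ⟨h1, ft_of_triple kf T hcore h1⟩

end Cfsg.Agent.UGT.LTF.EightC
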