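import Cfsg.Agent.UGT.LTF.EightC

/-!
# (8): `O(C(y)) ∩ C(a b) = 1`

* `cyclic_D`: `D` is cyclic if `J = L₂(q)`.
* `small_D`: `D` is elementary abelian of order at most 9 if `J = L₃(4)`.
* `exists_r`: `a ∈ J`: an element `r ∈ C(L) ∩ C(x)`, `r² = a`.
* `b_notin`: `b ∉ J`.
* `eight_ab`: `O(C(y)) ∩ C(a b) = 1`.
-/

set_option autoImplicit false

open Cfsg Subgroup
open Cfsg.Agent.SignalizersComponents Cfsg.Agent.Lib
open Cfsg.Agent.SignalizersComponents.IntrinsicBasic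
open Cfsg.Agent.SignalizersComponents.IntrinsicIntr
open Cfsg.Agent.SignalizersComponents.PLayerAut
open Cfsg.Agent.Intrinsic.Basic Cfsg.Agent.Intrinsic.Cen Cfsg.Agent.Intrinsic.Diag
open Cfsg.Agent.McLLyComp.Act
open Cfsg.Agent.UGT.Triple Cfsg.Agent.UGT.TriBase Cfsg.Agent.UGT.Res.Base
open Cfsg.Agent.UGT.Iface (Bar IsL2 IsL34 IsAltOdd)
open Cfsg.Agent.UGT.LTF.Defs Cfsg.Agent.UGT.LTF.Basics Cfsg.Agent.UGT.LTF.Comp
open Cfsg.Agent.UGT.LTF.Wild Cfsg.Agent.UGT.LTF.Seven Cfsg.Agent.UGT.LTF.EightA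
open Cfsg.Agent.UGT.LTF.EightB Cfsg.Agent.UGT.LTF.EightC
open scoped commutatorElement

namespace Cfsg.Agent.UGT.LTF.EightD

universe u

section lifts

variable {G : Type u} [Group G] {J : Subgroup G}

theorem mk_comm (hc : core J = ⊥) {u v : G} (hu : u ∈ J) (hv : v ∈ J)
    (h : (QuotientGroup.mk (⟨u, hu⟩ : ↥J) : Bar J) * QuotientGroup.mk ⟨v, hv⟩ =
      QuotientGroup.mk ⟨v, hv⟩ * QuotientGroup.mk ⟨u, hu⟩) : u * v = v * u :=
  mk_inj hc (mul_mem hu hv) (mul_mem hv hu) h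

theorem mk_comm' {u v : G} (hu : u ∈ J) (hv : v ∈ J) (h : u * v = v * u) :
    (QuotientGroup.mk (⟨u, hu⟩ : ↥J) : Bar J) * QuotientGroup.mk ⟨v, hv⟩ =
      QuotientGroup.mk ⟨v, hv⟩ * QuotientGroup.mk ⟨u, hu⟩ := by
  have h1 : (⟨u, hu⟩ : ↥J) * ⟨v, hv⟩ = ⟨v, hv⟩ * ⟨u, hu⟩ := Subtype.ext h
  rw [← QuotientGroup.mk_mul, ← QuotientGroup.mk_mul, h1]

end lifts

variable {G : Type u} [Group G] [Finite G] {X : Subgroup G} {x a b : G} {L S : Subgroup G} {y t : G}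
  {J : Subgroup G}

/-- `D = O(C(y)) ∩ C(t)` -/
abbrev DD (y t : G) : Subgroup G := core (centralizer ({y} : Set G)) ⊓ centralizer ({t} : Set G)

omit [Finite G] in
theorem conj_DD {w d : G} (hwy : w * y = y * w) (hwt : w * t = t * w) (hd : d ∈ DD y t) :
    w * d * w⁻¹ ∈ DD y t :=
  ⟨conj_core (mem_c hwy) hd.1, (centralizer ({t} : Set G)).mul_mem
    ((centralizer ({t} : Set G)).mul_mem (mem_c hwt) hd.2)
    ((centralizer ({t} : Set G)).inv_mem (mem_c hwt))⟩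

theorem odd_DD (y t : G) : Odd (Nat.card ↥(DD y t)) :=
  Odd.of_dvd_nat (odd_card_core (centralizer ({y} : Set G))) (card_dvd_of_le inf_le_left)

theorem DD_le (T : IsTriple y t J) : DD y t ≤ normalizer (J : Set G) := fun _ hd =>
  T.mem_normalizer_of_core hd.1 hd.2

/-- the embedding of `D` in `Aut(J)` -/
theorem exists_emb (kf : KF34.{u}) (kf2 : KF2.{u}) (kfa : KFA.{u}) (h : Sit X x a b L S)
    (hy : IsY x a y) (ht : IsT a b t) (T : IsTriple y t J) :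
    ∃ f : ↥(DD y t) →* MulAut (Bar J), Function.Injective f ∧
      ∀ d : ↥(DD y t), f d = act J ⟨d, DD_le T d.2⟩ := by
  refine ⟨{ toFun := fun d => act J ⟨d, DD_le T d.2⟩
            map_one' := ?_
            map_mul' := ?_ }, ?_, fun d => rfl⟩
  · change act J ⟨((1 : ↥(DD y t)) : G), _⟩ = 1
    rw [act_eq_one_iff]
    exact fixes_one J
  · intro d e
    rw [← act_mul]
    exact act_congr _ rfl
  · rw [injective_iff_map_eq_one]
    intro d hd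
    change act J ⟨(d : G), _⟩ = 1 at hd
    rw [act_eq_one_iff] at hd
    exact Subtype.ext (faithful kf kf2 kfa h hy ht T d.2.1 (comm_c d.2.2) hd)

/-- the elements of `D` are inner on `J`, `J = L₂(q)` -/
theorem inner_D (h : Sit X x a b L S) (hinv : Inv a y t) (T : IsTriple y t J)
    (haJ : a ∈ normalizer (J : Set G)) (F : F2 (act J ⟨y, T.x_mem⟩)) {d : G} (hd : d ∈ DD y t) :
    ∃ l, act J ⟨d, DD_le T hd⟩ = MulAut.conj l := by
  apply F.out (act J ⟨a, haJ⟩)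
  · obtain ⟨n, hn⟩ : ∃ n, n = Nat.card ↥(DD y t) := ⟨_, rfl⟩
    have hodd : Odd n := hn ▸ odd_DD y t
    have h1 : d ^ n = 1 := by
      have h2 : (⟨d, hd⟩ : ↥(DD y t)) ^ n = 1 := hn ▸ pow_card_eq_one'
      exact congrArg Subtype.val h2
    have h2 : act J ⟨d, DD_le T hd⟩ ^ n = 1 := by
      rw [← map_pow]
      have h3 : (⟨d, DD_le T hd⟩ : normalizer (J : Set G)) ^ n = 1 := Subtype.ext h1
      rw [h3, map_one]
    exact Odd.of_dvd_nat hodd (orderOf_dvd_of_pow_eq_one h2)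
  · rw [← act_mul haJ, ← act_inv haJ, ← act_mul (mul_mem haJ (DD_le T hd)), ← act_inv (DD_le T hd)]
    exact act_congr _ (hinv d hd.1 (comm_c hd.2))

/-- the preimage `E` in `J` of the image of `D` -/
noncomputable def EE (y t : G) (J : Subgroup G) : Subgroup (Bar J) := (img y t J).comap MulAut.conj

theorem conj_inj (hc : ∀ z : Bar J, (∀ d, z * d = d * z) → z = 1) :
    Function.Injective (MulAut.conj : Bar J →* MulAut (Bar J)) := by
  rw [injective_iff_map_eq_one]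
  intro z hz
  apply hc
  intro d
  have h1 := DFunLike.congr_fun hz d
  rw [MulAut.conj_apply, MulAut.one_apply, mul_inv_eq_iff_eq_mul] at h1
  exact h1

theorem EE_odd (hc : ∀ z : Bar J, (∀ d, z * d = d * z) → z = 1) (T : IsTriple y t J)
    (hcore : core J = ⊥) : Odd (Nat.card ↥(EE y t J)) :=
  Odd.of_dvd_nat (oddC T hcore).odd (card_comap_dvd_of_injective _ _ (conj_inj hc))

theorem EE_fix (hc : ∀ z : Bar J, (∀ d, z * d = d * z) → z = 1) (T : IsTriple y t J)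
    (hcore : core J = ⊥) : ∀ e ∈ EE y t J, act J ⟨y, T.x_mem⟩ e = e := by
  intro e he
  have h1 := (oddC T hcore).com _ he
  apply conj_inj hc
  rw [← ThEL34.conj_conj, ← h1, mul_inv_cancel_right]

theorem EE_nor (T : IsTriple y t J) (hcore : core J = ⊥) : ∀ l, act J ⟨y, T.x_mem⟩ l = l →
    ∀ e ∈ EE y t J, l * e * l⁻¹ ∈ EE y t J := by
  intro l hl e he
  have h1 := (oddC T hcore).nor l hl _ he
  change MulAut.conj (l * e * l⁻¹) ∈ img y t J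
  rwa [map_mul, map_mul, map_inv]

/-- `D` is cyclic if `J = L₂(q)` -/
theorem cyclic_D (kf : KF34.{u}) (kf2 : KF2.{u}) (kfa : KFA.{u}) (h : Sit X x a b L S)
    (hy : IsY x a y) (ht : IsT a b t) (hinv : Inv a y t) (T : IsTriple y t J)
    (h2 : IsL2 (Bar J)) (F : F2 (act J ⟨y, T.x_mem⟩)) : IsCyclic ↥(DD y t) := by
  have hcore := ct_J h ht T.comp
  have hc := (kf2 _ h2).1
  have haJ := T_le kf kf2 kfa h hy ht T (aSm h) h.T.comm
  have h3 := F.cyc _ (EE_odd hc T hcore) (EE_fix hc T hcore) (EE_nor T hcore)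
  obtain ⟨f, hf, hfd⟩ := exists_emb kf kf2 kfa h hy ht T
  have h4 : ∀ d : ↥(DD y t), f d ∈ (EE y t J).map MulAut.conj := by
    intro d
    obtain ⟨l, hl⟩ := inner_D h hinv T haJ F d.2
    refine ⟨l, ?_, ?_⟩
    · change MulAut.conj l ∈ img y t J
      rw [← hl]
      exact mem_img.mpr ⟨d, _, d.2.1, comm_c d.2.2, rfl⟩
    · rw [hfd, hl]
  have h5 : IsCyclic ↥((EE y t J).map MulAut.conj) :=
    isCyclic_of_surjective _ ((MulAut.conj).subgroupMap_surjective (EE y t J))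
  exact isCyclic_of_injective (f.codRestrict _ h4) fun d e hde => hf (congrArg Subtype.val hde)

/-- `D` is abelian of exponent 3 and order at most 9 if `J = L₃(4)` -/
theorem small_D (kf : KF34.{u}) (kf2 : KF2.{u}) (kfa : KFA.{u}) (h : Sit X x a b L S)
    (hy : IsY x a y) (ht : IsT a b t) (T : IsTriple y t J) (F : FT (act J ⟨y, T.x_mem⟩)) :
    (∀ d ∈ DD y t, d ^ 3 = 1) ∧ (∀ d ∈ DD y t, ∀ e ∈ DD y t, d * e = e * d) ∧
      Nat.card ↥(DD y t) ≤ 9 := by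
  have hcore := ct_J h ht T.comp
  obtain ⟨f, hf, hfd⟩ := exists_emb kf kf2 kfa h hy ht T
  have key : ∀ d : ↥(DD y t), ∃ z, f d = MulAut.conj z ∧ z ^ 3 = 1 ∧ act J ⟨y, T.x_mem⟩ z = z :=
    fun d => F.core _ (oddC T hcore) _ (hfd d ▸ mem_img.mpr ⟨d, _, d.2.1, comm_c d.2.2, rfl⟩)
  refine ⟨?_, ?_, ?_⟩
  · intro d hd
    obtain ⟨z, hz, hz3, -⟩ := key ⟨d, hd⟩
    have h1 : (⟨d, hd⟩ : ↥(DD y t)) ^ 3 = 1 := by
      apply hf
      rw [map_pow, hz, ← map_pow, hz3, map_one, map_one]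
    exact congrArg Subtype.val h1
  · intro d hd e he
    obtain ⟨z, hz, hz3, hzx⟩ := key ⟨d, hd⟩
    obtain ⟨w, hw, hw3, hwx⟩ := key ⟨e, he⟩
    have h1 : (⟨d, hd⟩ : ↥(DD y t)) * ⟨e, he⟩ = ⟨e, he⟩ * ⟨d, hd⟩ := by
      apply hf
      rw [map_mul, map_mul, hz, hw, ← map_mul, ← map_mul, F.ycomm z w hz3 hzx hw3 hwx]
    exact congrArg Subtype.val h1
  · obtain ⟨Y, hY9, hY⟩ := F.nine
    have h1 : ∀ d, f d ∈ Y.map MulAut.conj := by
      intro d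
      obtain ⟨z, hz, hz3, hzx⟩ := key d
      exact ⟨z, (hY z).mpr ⟨hz3, hzx⟩, hz.symm⟩
    have h2 : Nat.card ↥(DD y t) ≤ Nat.card ↥(Y.map (MulAut.conj : Bar J →* MulAut (Bar J))) :=
      Nat.card_le_card_of_injective (f.codRestrict _ h1) fun d e hde => hf (congrArg Subtype.val hde)
    have h3 := Nat.le_of_dvd Nat.card_pos (card_map_dvd Y (MulAut.conj : Bar J →* MulAut (Bar J)))
    omega

/-- `Q₈` in `C_L(x)` -/
theorem exists_q8 (kf : KF34.{u}) (h : Sit X x a b L S) : ∃ w₁ w₂ : G, w₁ ∈ L ∧ w₂ ∈ L ∧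
    w₁ * x = x * w₁ ∧ w₂ * x = x * w₂ ∧ w₁ * w₁ = b ∧ w₂ * w₂ = b ∧ w₂ * w₁ * w₂⁻¹ = w₁⁻¹ := by
  have hc := core_L h
  have hbx : b * x = x * b := (h.bc x h.xS).symm
  obtain ⟨w₁', w₂', h1, h2, h3, h4, h5⟩ := (ft kf h).q8 _ (sq_bar h.bL (sq_of_order h.b2))
    (ne_bar hc h.bL (ne_one_of_order h.b2)) (act_fix' h.T.x_mem h.bL hbx.symm)
  obtain ⟨⟨w₁, hw₁⟩, rfl⟩ := QuotientGroup.mk_surjective w₁'
  obtain ⟨⟨w₂, hw₂⟩, rfl⟩ := QuotientGroup.mk_surjective w₂'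
  refine ⟨w₁, w₂, hw₁, hw₂, (act_fix hc h.T.x_mem hw₁ h1).symm,
    (act_fix hc h.T.x_mem hw₂ h2).symm, mk_inj hc (mul_mem hw₁ hw₁) h.bL h3,
    mk_inj hc (mul_mem hw₂ hw₂) h.bL h4,
    mk_inj hc (mul_mem (mul_mem hw₂ hw₁) (inv_mem hw₂)) (inv_mem hw₁) h5⟩

/-- the end of the argument: `g ∈ D` on which `w₁`, `w₂` commute -/
theorem kill (h : Sit X x a b L S) (hinv : Inv a y (a * b)) {w₁ w₂ g : G}
    (h1 : w₁ * w₁ = b) (h3 : w₂ * w₁ * w₂⁻¹ = w₁⁻¹)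
    (hw1y : w₁ * y = y * w₁) (hw2y : w₂ * y = y * w₂) (hw1t : w₁ * (a * b) = a * b * w₁)
    (hw2t : w₂ * (a * b) = a * b * w₂) (hg : g ∈ DD y (a * b))
    (hcom : w₂ * (w₁ * g * w₁⁻¹) * w₂⁻¹ = w₁ * (w₂ * g * w₂⁻¹) * w₁⁻¹) : g = 1 := by
  have hbb := sq_of_order h.b2
  have hbi : b⁻¹ = b := inv_eq_of_mul_eq_one_left hbb
  have hb : w₂ * w₁ = b * (w₁ * w₂) := by
    calc w₂ * w₁ = (w₂ * w₁ * w₂⁻¹) * w₂ := by group
      _ = w₁⁻¹ * w₂ := by rw [h3]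
      _ = (w₁ * w₁)⁻¹ * (w₁ * w₂) := by group
      _ = _ := by rw [h1, hbi]
  obtain ⟨g', hg'⟩ : ∃ g', g' = w₁ * (w₂ * g * w₂⁻¹) * w₁⁻¹ := ⟨_, rfl⟩
  have hg'D : g' ∈ DD y (a * b) := hg' ▸ conj_DD hw1y hw1t (conj_DD hw2y hw2t hg)
  have hbg : b * g' * b⁻¹ = g' := by
    have h4 : w₂ * (w₁ * g * w₁⁻¹) * w₂⁻¹ = b * g' * b⁻¹ := by
      calc w₂ * (w₁ * g * w₁⁻¹) * w₂⁻¹ = (w₂ * w₁) * g * (w₂ * w₁)⁻¹ := by group
        _ = b * (w₁ * (w₂ * g * w₂⁻¹) * w₁⁻¹) * b⁻¹ := by rw [hb]; group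
        _ = _ := by rw [← hg']
    rw [← h4, hcom, ← hg']
  have hinv' : b * g' * b⁻¹ = g'⁻¹ := by
    have h4 := hinv g' hg'D.1 (comm_c hg'D.2)
    have h5 : g' * (a * b) = a * b * g' := comm_c hg'D.2
    have hai : a⁻¹ = a := inv_eq_of_mul_eq_one_left (sq_of_order h.T.inva)
    calc b * g' * b⁻¹ = a⁻¹ * (a * b * g') * b⁻¹ := by group
      _ = a⁻¹ * (g' * (a * b)) * b⁻¹ := by rw [h5]
      _ = a * g' * a⁻¹ := by rw [hai]; group
      _ = _ := h4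
  have h5 : g' * g' = 1 := by
    rw [hbg] at hinv'
    calc g' * g' = g' * g'⁻¹ := by rw [← hinv']
      _ = 1 := mul_inv_cancel _
  have h6 := eq_one_of_sq_odd (odd_DD y (a * b)) hg'D h5
  calc g = w₂⁻¹ * (w₁⁻¹ * g' * w₁) * w₂ := by rw [hg']; group
    _ = 1 := by rw [h6]; group

end Cfsg.Agent.UGT.LTF.EightD
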