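import Cfsg.Agent.UGT.LTF.EightD

/-!
# (8): `O(C(y)) ∩ C(a b) = 1`, `J = L₃(4)`

* `b_notin`: `b ∉ J`.
* `exists_r`: if `a ∈ J`, then `r² = a` for some `r ∈ C(L) ∩ C(x)`.
* `span`: `D = ⟨g, g^r⟩`.
* `eight_ab`: `O(C(y)) ∩ C(a b) = 1`.
-/

set_option autoImplicit false

open Cfsg Subgroup
open Cfsg.Agent.SignalizersComponents Cfsg.Agent.Lib
open Cfsg.Agent.SignalizersComponents.IntrinsicBasic
open Cfsg.Agent.SignalizersComponents.IntrinsicIntr
open Cfsg.Agent.SignalizersComponents.PLayerAut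
open Cfsg.Agent.Intrinsic.Basic Cfsg.Agent.Intrinsic.Cen Cfsg.Agent.Intrinsic.Diag
open Cfsg.Agent.McLLyComp.Act
open Cfsg.Agent.UGT.Triple Cfsg.Agent.UGT.TriBase Cfsg.Agent.UGT.Res.Base
open Cfsg.Agent.UGT.Iface (Bar IsL2 IsL34 IsAltOdd)
open Cfsg.Agent.UGT.LTF.Defs Cfsg.Agent.UGT.LTF.Basics Cfsg.Agent.UGT.LTF.Comp
open Cfsg.Agent.UGT.LTF.Wild Cfsg.Agent.UGT.LTF.Seven Cfsg.Agent.UGT.LTF.EightA
open Cfsg.Agent.UGT.LTF.EightB Cfsg.Agent.UGT.LTF.EightC Cfsg.Agent.UGT.LTF.EightD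
open scoped commutatorElement

namespace Cfsg.Agent.UGT.LTF.EightE

universe u

variable {G : Type u} [Group G] [Finite G] {X : Subgroup G} {x a b : G} {L S : Subgroup G} {y : G}
  {J : Subgroup G}

/-- facts of `FT` on a subgroup `L` -/
theorem p4sq {ξ : MulAut (Bar L)} (F : FT ξ) (hc : core L = ⊥) {s p : G} (hs : s ∈ L)
    (hss : s * s = 1) (hs1 : s ≠ 1) (hp : p ∈ L) (hps : p * s = s * p)
    (hcen : ∀ r ∈ L, r * s = s * r → r * p = p * r) : p * p = 1 := by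
  have h1 := F.p4' _ (sq_bar hs hss) (ne_bar hc hs hs1) (QuotientGroup.mk ⟨p, hp⟩)
    (mk_comm' hp hs hps) (by
      intro r hr
      obtain ⟨⟨r, hrL⟩, rfl⟩ := QuotientGroup.mk_surjective r
      exact mk_comm' hrL hp (hcen r hrL (mk_comm hc hrL hs hr)))
  exact mk_inj hc (mul_mem hp hp) (one_mem L) h1

/-- `[w, C_L(s)]` is not in `⟨s⟩`, `w ∈ C_L(s)` non-central -/
theorem fourL {ξ : MulAut (Bar L)} (F : FT ξ) (hc : core L = ⊥) {s w : G} (hs : s ∈ L)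
    (hss : s * s = 1) (hs1 : s ≠ 1) (hw : w ∈ L) (hws : w * s = s * w)
    (hn : ∃ p ∈ L, p * s = s * p ∧ w * p ≠ p * w) :
    ∃ p ∈ L, p * s = s * p ∧ w * p * w⁻¹ * p⁻¹ ≠ 1 ∧ w * p * w⁻¹ * p⁻¹ ≠ s := by
  obtain ⟨p, hp, hps, hne⟩ := hn
  obtain ⟨q', hq, h1, h2⟩ := F.four _ (sq_bar hs hss) (ne_bar hc hs hs1) (QuotientGroup.mk ⟨w, hw⟩)
    (mk_comm' hw hs hws) ⟨QuotientGroup.mk ⟨p, hp⟩, mk_comm' hp hs hps, fun h3 => hne
      (mk_comm hc hw hp h3)⟩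
  obtain ⟨⟨q, hqL⟩, rfl⟩ := QuotientGroup.mk_surjective q'
  refine ⟨q, hqL, mk_comm hc hqL hs hq, fun h3 => h1 ?_, fun h3 => h2 ?_⟩
  · have h4 : (⟨w, hw⟩ : ↥L) * ⟨q, hqL⟩ * ⟨w, hw⟩⁻¹ * ⟨q, hqL⟩⁻¹ = 1 := Subtype.ext h3
    exact congrArg (QuotientGroup.mk' (oddCore ↥L)) h4
  · have h4 : (⟨w, hw⟩ : ↥L) * ⟨q, hqL⟩ * ⟨w, hw⟩⁻¹ * ⟨q, hqL⟩⁻¹ = ⟨s, hs⟩ := Subtype.ext h3
    exact congrArg (QuotientGroup.mk' (oddCore ↥L)) h4

/-- an element `w ∈ N(L)` centralizing `C_L(s)` modulo `⟨s⟩` -/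
theorem centL {ξ : MulAut (Bar L)} (F : FT ξ) (hc : core L = ⊥) {s w : G} (hs : s ∈ L)
    (hss : s * s = 1) (hs1 : s ≠ 1) (hw : w ∈ normalizer (L : Set G))
    (hcen : ∀ p ∈ L, p * s = s * p → w * p * w⁻¹ * p⁻¹ = 1 ∨ w * p * w⁻¹ * p⁻¹ = s) :
    ∃ z ∈ L, Fixes (w * z⁻¹) L ∧ (∀ p ∈ L, p * s = s * p → z * p = p * z) := by
  obtain ⟨z', hz', hzc⟩ := F.cent _ (sq_bar hs hss) (ne_bar hc hs hs1) (act L ⟨w, hw⟩) (by
    intro p hp
    obtain ⟨⟨p, hpL⟩, rfl⟩ := QuotientGroup.mk_surjective p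
    rw [act_mk hw hpL]
    rcases hcen p hpL (mk_comm hc hpL hs hp) with h1 | h1
    · left
      have h2 : (⟨w * p * w⁻¹, conj_mem hw hpL⟩ : ↥L) * ⟨p, hpL⟩⁻¹ = 1 := Subtype.ext h1
      exact congrArg (QuotientGroup.mk' (oddCore ↥L)) h2
    · right
      have h2 : (⟨w * p * w⁻¹, conj_mem hw hpL⟩ : ↥L) * ⟨p, hpL⟩⁻¹ = ⟨s, hs⟩ := Subtype.ext h1
      exact congrArg (QuotientGroup.mk' (oddCore ↥L)) h2)
  obtain ⟨⟨z, hz⟩, rfl⟩ := QuotientGroup.mk_surjective z'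
  refine ⟨z, hz, ?_, fun p hp hps => mk_comm hc hz hp (hzc _ (mk_comm' hp hs hps))⟩
  rw [← act_eq_iff hw (le_normalizer hz), hz', act_of_mem hz]

theorem clsL {ξ : MulAut (Bar L)} (F : FT ξ) (hc : core L = ⊥) {s z : G} (hs : s ∈ L)
    (hss : s * s = 1) (hs1 : s ≠ 1) (hz : z ∈ L) (hzz : z * z = 1) (hz1 : z ≠ 1) :
    ∃ g ∈ L, g * z * g⁻¹ = s := by
  obtain ⟨g', hg⟩ := F.cls _ _ (sq_bar hz hzz) (ne_bar hc hz hz1) (sq_bar hs hss)
    (ne_bar hc hs hs1)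
  obtain ⟨⟨g, hgL⟩, rfl⟩ := QuotientGroup.mk_surjective g'
  exact ⟨g, hgL, mk_inj hc (mul_mem (mul_mem hgL hz) (inv_mem hgL)) hs hg⟩

/-- an element `w ∈ C_J(y)` with `w² = s` -/
theorem exists_w (hc : core J = ⊥) {yJ : y ∈ normalizer (J : Set G)} (F : FT (act J ⟨y, yJ⟩)) {s : G}
    (hs : s ∈ J) (hss : s * s = 1) (hs1 : s ≠ 1) (hys : y * s = s * y) :
    ∃ w ∈ J, w * y = y * w ∧ w * w = s := by
  obtain ⟨w', -, h1, -, h2, -, -⟩ := F.q8 _ (sq_bar hs hss) (ne_bar hc hs hs1) (act_fix' yJ hs hys)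
  obtain ⟨⟨w, hw⟩, rfl⟩ := QuotientGroup.mk_surjective w'
  exact ⟨w, hw, (act_fix hc yJ hw h1).symm, mk_inj hc (mul_mem hw hw) hs h2⟩

omit [Finite G] in
theorem sq_comm {w s : G} (h : w * w = s) : w * s = s * w := by
  rw [← h]; group

omit [Finite G] in
/-- in `C(a b)`: commuting with `b` is commuting with `a` -/
theorem ab_iff {w : G} (h : w * (a * b) = a * b * w) (hb : w * b = b * w) : w * a = a * w := by
  have h1 : w * a * b = a * w * b := by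
    calc w * a * b = w * (a * b) := by group
      _ = a * b * w := h
      _ = a * (b * w) := by group
      _ = _ := by rw [← hb]; group
  exact mul_right_cancel h1

omit [Finite G] in
theorem ab_iff' {w : G} (hab : a * b = b * a) (h : w * (a * b) = a * b * w) (ha : w * a = a * w) :
    w * b = b * w := by
  rw [hab] at h
  exact ab_iff h ha

/-- `b ∉ J` -/
theorem b_notin (kf : KF34.{u}) (kf2 : KF2.{u}) (kfa : KFA.{u}) (h : Sit X x a b L S)
    (hy : IsY x a y) (T : IsTriple y (a * b) J) (F : FT (act J ⟨y, T.x_mem⟩)) : b ∉ J := by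
  intro hbJ
  have ht : IsT a b (a * b) := Or.inr rfl
  have hcJ := ct_J h ht T.comp
  have hcL := core_L h
  have hcenJ := cen_J kf kf2 kfa h hy ht T
  have hbb := sq_of_order h.b2
  have hb1 := ne_one_of_order h.b2
  have haa := sq_of_order h.T.inva
  have hab : a * b = b * a := (aS h h.bS).symm
  obtain ⟨w, hwJ, hwy, hww⟩ := exists_w hcJ F hbJ hbb hb1 (h.bc y (yS h hy))
  have hwb := sq_comm hww
  have hJt : ∀ j ∈ J, j * (a * b) = a * b * j := fun j hj => comm_c (T.comp.le hj)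
  have hwa : w * a = a * w := ab_iff (hJt w hwJ) hwb
  have hwL := norm_L kf h hwa
  have FL := ft kf h
  -- `P = C_L(b)` normalizes `J`
  have hP : ∀ p ∈ L, p * b = b * p → p ∈ normalizer (J : Set G) := by
    intro p hp hpb
    have hpa := Y_comm h hp
    apply norm_of_cen h ht T.comp hcenJ hbJ hb1 hpb
    calc p * (a * b) = (p * a) * b := by group
      _ = a * (p * b) := by rw [hpa]; group
      _ = _ := by rw [hpb]; group
  have hk : ∀ k ∈ L, k ∈ J → k * b = b * k → ∀ p ∈ L, p * b = b * p →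
      k * p * k⁻¹ * p⁻¹ ∈ L ∧ k * p * k⁻¹ * p⁻¹ ∈ J ∧
        k * p * k⁻¹ * p⁻¹ * b = b * (k * p * k⁻¹ * p⁻¹) := by
    intro k hkL hkJ hkb p hp hpb
    refine ⟨mul_mem (mul_mem (mul_mem hkL hp) (inv_mem hkL)) (inv_mem hp), ?_, ?_⟩
    · have h1 : k * p * k⁻¹ * p⁻¹ = k * (p * k⁻¹ * p⁻¹) := by group
      rw [h1]
      exact mul_mem hkJ (conj_mem (hP p hp hpb) (inv_mem hkJ))
    · have h1 := mem_c (y := k) hkb
      have h2 := mem_c (y := p) hpb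
      exact comm_c (mul_mem (mul_mem (mul_mem h1 h2) (inv_mem h1)) (inv_mem h2))
  -- some `[w, p] ∉ {1, b}`
  obtain ⟨p, hpL, hpb, hk1, hkb⟩ : ∃ p ∈ L, p * b = b * p ∧ w * p * w⁻¹ * p⁻¹ ≠ 1 ∧
      w * p * w⁻¹ * p⁻¹ ≠ b := by
    by_contra hcon
    push Not at hcon
    obtain ⟨z, hz, hfz, hzc⟩ := centL FL hcL h.bL hbb hb1 hwL fun p hp hpb => by
      by_cases h1 : w * p * w⁻¹ * p⁻¹ = 1
      · exact Or.inl h1
      · exact Or.inr (hcon p hp hpb h1)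
    have hzb : z * b = b * z := hzc b h.bL rfl
    have hzz : z * z = 1 := p4sq FL hcL h.bL hbb hb1 hz hzb fun r hr hrb => (hzc r hr hrb).symm
    -- `w² = b` acts trivially
    have hfb : Fixes b L := by
      have h1 := fixes_mul hfz (fixes_conj hfz (le_normalizer hz))
      have h2 : w * z⁻¹ * (z * (w * z⁻¹) * z⁻¹) = b := by
        calc w * z⁻¹ * (z * (w * z⁻¹) * z⁻¹) = (w * w) * (z * z)⁻¹ := by group
          _ = b := by rw [hww, hzz, inv_one, mul_one]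
      rwa [h2] at h1
    exact hb1 (center_L kf h b h.bL fun l hl => comm_of_fixes hcL hfb hl)
  obtain ⟨k, hkdef⟩ : ∃ k, k = w * p * w⁻¹ * p⁻¹ := ⟨_, rfl⟩
  rw [← hkdef] at hk1 hkb
  have hkL : k ∈ L := by
    rw [hkdef]
    exact mul_mem (conj_mem hwL hpL) (inv_mem hpL)
  have hkJ : k ∈ J := by
    have h1 : k = w * (p * w⁻¹ * p⁻¹) := by rw [hkdef]; group
    rw [h1]
    exact mul_mem hwJ (conj_mem (hP p hpL hpb) (inv_mem hwJ))
  have hkb' : k * b = b * k := by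
    have h1 := mem_c (y := w) hwb
    have h2 := mem_c (y := p) hpb
    rw [hkdef]
    exact comm_c (mul_mem (mul_mem (mul_mem h1 h2) (inv_mem h1)) (inv_mem h2))
  obtain ⟨z, hzL, hzJ, hzz, hz1, hzb, hzb'⟩ : ∃ z ∈ L, z ∈ J ∧ z * z = 1 ∧ z ≠ 1 ∧ z ≠ b ∧
      z * b = b * z := by
    by_cases hcen : ∀ r ∈ L, r * b = b * r → r * k = k * r
    · exact ⟨k, hkL, hkJ, p4sq FL hcL h.bL hbb hb1 hkL hkb' hcen, hk1, hkb, hkb'⟩
    · push Not at hcen
      obtain ⟨r, hr, hrb, hne⟩ := hcen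
      obtain ⟨q, hq, hqb, h1, h2⟩ := fourL FL hcL h.bL hbb hb1 hkL hkb' ⟨r, hr, hrb, Ne.symm hne⟩
      obtain ⟨h3, h4, h5⟩ := hk k hkL hkJ hkb' q hq hqb
      refine ⟨_, h3, h4, ?_, h1, h2, h5⟩
      apply p4sq FL hcL h.bL hbb hb1 h3 h5
      intro r hr hrb
      have h6 := FL.p4 _ (sq_bar h.bL hbb) (ne_bar hcL h.bL hb1) (QuotientGroup.mk ⟨k, hkL⟩)
        (QuotientGroup.mk ⟨q, hq⟩) (QuotientGroup.mk ⟨r, hr⟩) (mk_comm' hkL h.bL hkb')
        (mk_comm' hq h.bL hqb) (mk_comm' hr h.bL hrb)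
      exact (mk_comm hcL h3 hr h6).symm
  -- `(a b) z ~ a`
  obtain ⟨g, hg, hgz⟩ := clsL F hcJ hbJ hbb hb1 hzJ hzz hz1
  have h1 : IsConj (a * b * z) a := by
    rw [isConj_iff]
    refine ⟨g, ?_⟩
    have h2 := hJt g hg
    calc g * (a * b * z) * g⁻¹ = (g * (a * b)) * z * g⁻¹ := by group
      _ = a * b * (g * z * g⁻¹) := by rw [h2]; group
      _ = a := by rw [hgz, mul_assoc, hbb, mul_one]
  -- `a (b z) ~ a b`
  have hbz : b * z ∈ L := mul_mem h.bL hzL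
  have hbzz : b * z * (b * z) = 1 := by
    calc b * z * (b * z) = b * (z * b) * z := by group
      _ = (b * b) * (z * z) := by rw [hzb']; group
      _ = 1 := by rw [hbb, hzz, one_mul]
  have hbz1 : b * z ≠ 1 := by
    intro h2
    apply hzb
    calc z = b * (b * z) := by rw [← mul_assoc, hbb, one_mul]
      _ = b := by rw [h2, mul_one]
  obtain ⟨g', hg', hgz'⟩ := clsL FL hcL h.bL hbb hb1 hbz hbzz hbz1
  have h2 : IsConj (a * b * z) (a * b) := by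
    rw [isConj_iff]
    refine ⟨g', ?_⟩
    have h3 := Y_comm h hg'
    calc g' * (a * b * z) * g'⁻¹ = (g' * a) * (b * z) * g'⁻¹ := by group
      _ = a * (g' * (b * z) * g'⁻¹) := by rw [h3]; group
      _ = _ := by rw [hgz']
  exact h.naab (h1.symm.trans h2)

/-- `a ∈ J`: an element `r ∈ C(L) ∩ C(x)`, `r² = a` -/
theorem exists_r (kf : KF34.{u}) (kf2 : KF2.{u}) (kfa : KFA.{u}) (h : Sit X x a b L S)
    (hy : IsY x a y) (T : IsTriple y (a * b) J) (F : FT (act J ⟨y, T.x_mem⟩)) (haJ : a ∈ J) :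
    ∃ r, Fixes r L ∧ r * x = x * r ∧ r * r = a ∧ r * b = b * r := by
  have ht : IsT a b (a * b) := Or.inr rfl
  have hcJ := ct_J h ht T.comp
  have hcL := core_L h
  have hcenJ := cen_J kf kf2 kfa h hy ht T
  have hbb := sq_of_order h.b2
  have hb1 := ne_one_of_order h.b2
  have haa := sq_of_order h.T.inva
  have ha1 := ne_one_of_order h.T.inva
  have hab : a * b = b * a := (aS h h.bS).symm
  have hya : y * a = a * y := aS h (yS h hy)
  obtain ⟨w, hwJ, hwy, hww⟩ := exists_w hcJ F haJ haa ha1 hya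
  have hwa := sq_comm hww
  have hJt : ∀ j ∈ J, j * (a * b) = a * b * j := fun j hj => comm_c (T.comp.le hj)
  have hwb : w * b = b * w := ab_iff' hab (hJt w hwJ) hwa
  have hwL := norm_L kf h hwa
  have hwx : w * x = x * w := (y_iff h hy hwa).mp hwy
  have FL := ft kf h
  -- `I = C_{L ∩ J}(b) = 1`
  obtain ⟨I, hI⟩ : ∃ I, I = L ⊓ J ⊓ centralizer ({b} : Set G) := ⟨_, rfl⟩
  have hI2 : IsPGroup 2 ↥I := by
    rintro ⟨k, hk⟩
    have hk' := hI ▸ hk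
    obtain ⟨n, hn⟩ := FL.c2 _ (sq_bar h.bL hbb) (ne_bar hcL h.bL hb1)
      (QuotientGroup.mk ⟨k, hk'.1.1⟩) (mk_comm' hk'.1.1 h.bL (comm_c hk'.2))
    refine ⟨n, Subtype.ext ?_⟩
    change k ^ 2 ^ n = 1
    exact mk_inj hcL (pow_mem hk'.1.1 _) (one_mem L) hn
  have hbot : I = ⊥ := by
    by_contra hne
    have hyI : zpowers y ≤ normalizer (I : Set G) := by
      rw [zpowers_le, mem_normalizer_iff_cj, hI, cj_inf, cj_inf,
        mem_normalizer_iff_cj.mp (h.SL (yS h hy)), mem_normalizer_iff_cj.mp T.x_mem,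
        mem_normalizer_iff_cj.mp (le_normalizer (mem_c (h.bc y (yS h hy))))]
    have h2 : 2 ∣ Nat.card ↥I := by
      have hp : Fact (Nat.Prime 2) := ⟨Nat.prime_two⟩
      rcases hI2.card_eq_or_dvd with h3 | h3
      · exact (hne (card_eq_one.mp h3)).elim
      · exact h3
    obtain ⟨e, he, heo, hec⟩ := exists_inv (isPGroup_zpowers (y2 h hy)) hyI h2
    have he' := hI ▸ he
    have hee := sq_of_order heo
    have heL : e ∈ L := he'.1.1
    have hex : e * x = x * e := (y_iff h hy (Y_comm h heL)).mp (hec y (mem_zpowers y)).symm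
    have heb : e = b := by
      have h3 := FL.comm _ _ (sq_bar heL hee) (sq_bar h.bL hbb) (ne_bar hcL heL (ne_one_of_order heo))
        (ne_bar hcL h.bL hb1) (act_fix' h.T.x_mem heL hex.symm)
        (act_fix' h.T.x_mem h.bL (h.bc x h.xS)) (mk_comm' heL h.bL (comm_c he'.2))
      exact mk_inj hcL heL h.bL h3
    have hbJ : b ∈ J := heb ▸ he'.1.2
    apply t_ne h ht
    apply hcenJ _ (mul_mem haJ hbJ)
    intro j hj
    exact (hJt j hj).symm
  have hwp : ∀ p ∈ L, p * b = b * p → w * p * w⁻¹ * p⁻¹ = 1 := by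
    intro p hp hpb
    have hpa := Y_comm h hp
    have hpJ : p ∈ normalizer (J : Set G) := by
      apply norm_of_cen h ht T.comp hcenJ haJ ha1 hpa
      calc p * (a * b) = (p * a) * b := by group
        _ = a * (p * b) := by rw [hpa]; group
        _ = _ := by rw [hpb]; group
    have m1 : w * p * w⁻¹ * p⁻¹ ∈ L := mul_mem (conj_mem hwL hp) (inv_mem hp)
    have m2 : w * p * w⁻¹ * p⁻¹ ∈ J := by
      have h1 : w * p * w⁻¹ * p⁻¹ = w * (p * w⁻¹ * p⁻¹) := by group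
      rw [h1]
      exact mul_mem hwJ (conj_mem hpJ (inv_mem hwJ))
    have m3 : w * p * w⁻¹ * p⁻¹ ∈ centralizer ({b} : Set G) := by
      have h1 := mem_c (y := w) hwb
      have h2 := mem_c (y := p) hpb
      exact mul_mem (mul_mem (mul_mem h1 h2) (inv_mem h1)) (inv_mem h2)
    have h1 : w * p * w⁻¹ * p⁻¹ ∈ I := by
      rw [hI]
      exact ⟨⟨m1, m2⟩, m3⟩
    rw [hbot, mem_bot] at h1
    exact h1
  obtain ⟨z, hz, hfz, hzc⟩ := centL FL hcL h.bL hbb hb1 hwL fun p hp hpb => Or.inl (hwp p hp hpb)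
  have hzb : z * b = b * z := hzc b h.bL rfl
  have hzz : z * z = 1 := p4sq FL hcL h.bL hbb hb1 hz hzb fun r hr hrb => (hzc r hr hrb).symm
  obtain ⟨r, hr⟩ : ∃ r, r = w * z⁻¹ := ⟨_, rfl⟩
  rw [← hr] at hfz
  have hrL : ∀ l ∈ L, r * l = l * r := fun l hl => comm_of_fixes hcL hfz hl
  have hwr : w = r * z := by rw [hr]; group
  have hxz : x * z * x⁻¹ = z := by
    have hxL := h.T.x_mem
    have hzx : x * z * x⁻¹ ∈ L := conj_mem hxL hz
    have hfx := fixes_conj hfz hxL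
    have h1 := fixes_mul (fixes_inv hfz) hfx
    have h2 : r⁻¹ * (x * r * x⁻¹) = z * (x * z * x⁻¹)⁻¹ := by
      calc r⁻¹ * (x * r * x⁻¹) = z * w⁻¹ * (x * (w * z⁻¹) * x⁻¹) := by rw [hr]; group
        _ = z * w⁻¹ * ((x * w) * z⁻¹ * x⁻¹) := by group
        _ = z * w⁻¹ * ((w * x) * z⁻¹ * x⁻¹) := by rw [hwx]
        _ = _ := by group
    rw [h2] at h1
    have h3 := center_L kf h _ (mul_mem hz (inv_mem hzx)) fun j hj => comm_of_fixes hcL h1 hj
    exact (mul_inv_eq_one.mp h3).symm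
  have hzx : z * x = x * z := by
    calc z * x = (x * z * x⁻¹) * x := by rw [hxz]
      _ = _ := by group
  refine ⟨r, hfz, ?_, ?_, hrL b h.bL⟩
  · rw [hr]
    exact comm_c (mul_mem (mem_c hwx) (inv_mem (mem_c hzx)))
  · have h1 := hrL z hz
    calc r * r = (r * z) * (r * z) * (z * z)⁻¹ := by
          calc r * r = r * (r * z) * z⁻¹ := by group
            _ = r * (z * r) * z⁻¹ := by rw [h1]
            _ = (r * z) * (r * z) * (z * z)⁻¹ := by group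
      _ = a := by rw [← hwr, hww, hzz, inv_one, mul_one]

end Cfsg.Agent.UGT.LTF.EightE
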