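import Cfsg.Agent.UGT.LTF.EightE

/-!
# (8): `O(C(y)) ∩ C(a b) = 1`, the end

* `span`: `D = ⟨g, g^r⟩`.
* `eight_ab`: `O(C(y)) ∩ C(a b) = 1`.
-/

set_option autoImplicit false

open Cfsg Subgroup
open Cfsg.Agent.SignalizersComponents Cfsg.Agent.Lib
open Cfsg.Agent.SignalizersComponents.IntrinsicBasic
open Cfsg.Agent.Intrinsic.Basic Cfsg.Agent.Intrinsic.Cen Cfsg.Agent.Intrinsic.Diag
open Cfsg.Agent.McLLyComp.Act
open Cfsg.Agent.UGT.Triple Cfsg.Agent.UGT.TriBase Cfsg.Agent.UGT.Res.Base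
open Cfsg.Agent.UGT.Iface (Bar IsL2 IsL34 IsAltOdd)
open Cfsg.Agent.UGT.LTF.Defs Cfsg.Agent.UGT.LTF.Basics Cfsg.Agent.UGT.LTF.Comp
open Cfsg.Agent.UGT.LTF.Wild Cfsg.Agent.UGT.LTF.Seven Cfsg.Agent.UGT.LTF.EightA
open Cfsg.Agent.UGT.LTF.EightB Cfsg.Agent.UGT.LTF.EightC Cfsg.Agent.UGT.LTF.EightD
open Cfsg.Agent.UGT.LTF.EightE

namespace Cfsg.Agent.UGT.LTF.EightF

universe u

section plane

variable {G : Type*} [Group G]

theorem phi_mul {g k : G} (h : Commute g k) (i j i' j' : ℤ) :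
    g ^ i * k ^ j * (g ^ i' * k ^ j') = g ^ (i + i') * k ^ (j + j') := by
  rw [zpow_add, zpow_add]
  have h1 : k ^ j * g ^ i' = g ^ i' * k ^ j := (h.symm.zpow_zpow j i').eq
  calc g ^ i * k ^ j * (g ^ i' * k ^ j') = g ^ i * (k ^ j * g ^ i') * k ^ j' := by
        simp only [mul_assoc]
    _ = _ := by rw [h1]; simp only [mul_assoc]

theorem phi_pow {g k : G} (h : Commute g k) (i j n : ℤ) :
    (g ^ i * k ^ j) ^ n = g ^ (i * n) * k ^ (j * n) := by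
  rw [(h.zpow_zpow i j).mul_zpow, zpow_mul, zpow_mul]

/-- conjugation by `r`, `g^r = k`, `k^r = g⁻¹` -/
theorem phi_r {g k r : G} (h : Commute g k) (h1 : r * g * r⁻¹ = k) (h2 : r * k * r⁻¹ = g⁻¹)
    (i j : ℤ) : r * (g ^ i * k ^ j) * r⁻¹ = g ^ (-j) * k ^ i := by
  have h3 : r * (g ^ i * k ^ j) * r⁻¹ = (r * g * r⁻¹) ^ i * (r * k * r⁻¹) ^ j := by
    rw [conj_zpow, conj_zpow]; group
  rw [h3, h1, h2, inv_zpow', (h.symm.zpow_zpow i (-j)).eq]

/-- two elements commuting with `r` commute on the plane `⟨g, g^r⟩` -/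
theorem plane {g k r w₁ w₂ : G} (h : Commute g k) (h1 : r * g * r⁻¹ = k) (h2 : r * k * r⁻¹ = g⁻¹)
    (hw1 : r * w₁ = w₁ * r) (hw2 : r * w₂ = w₂ * r) {i j m n : ℤ}
    (e1 : w₁ * g * w₁⁻¹ = g ^ i * k ^ j) (e2 : w₂ * g * w₂⁻¹ = g ^ m * k ^ n) :
    w₂ * (w₁ * g * w₁⁻¹) * w₂⁻¹ = w₁ * (w₂ * g * w₂⁻¹) * w₁⁻¹ := by
  have key : ∀ {w : G} {m n : ℤ}, r * w = w * r → w * g * w⁻¹ = g ^ m * k ^ n → ∀ i j : ℤ,
      w * (g ^ i * k ^ j) * w⁻¹ = g ^ (m * i + -n * j) * k ^ (n * i + m * j) := by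
    intro w m n hw e i j
    have h3 : w * k * w⁻¹ = g ^ (-n) * k ^ m := by
      have hr : w⁻¹ * r = r * w⁻¹ := by
        calc w⁻¹ * r = w⁻¹ * (r * w) * w⁻¹ := by group
          _ = w⁻¹ * (w * r) * w⁻¹ := by rw [hw]
          _ = _ := by group
      have hr' : r⁻¹ * w⁻¹ = w⁻¹ * r⁻¹ := by
        rw [← mul_inv_rev, ← mul_inv_rev, hw]
      calc w * k * w⁻¹ = w * (r * g * r⁻¹) * w⁻¹ := by rw [h1]
        _ = (w * r) * g * (r⁻¹ * w⁻¹) := by group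
        _ = (r * w) * g * (w⁻¹ * r⁻¹) := by rw [hw, hr']
        _ = r * (w * g * w⁻¹) * r⁻¹ := by group
        _ = r * (g ^ m * k ^ n) * r⁻¹ := by rw [e]
        _ = _ := phi_r h h1 h2 m n
    have h4 : w * (g ^ i * k ^ j) * w⁻¹ = (w * g * w⁻¹) ^ i * (w * k * w⁻¹) ^ j := by
      rw [conj_zpow, conj_zpow]; group
    rw [h4, e, h3, phi_pow h, phi_pow h, phi_mul h]
  rw [e1, e2, key hw2 e2, key hw1 e1]
  congr 2 <;> ring

/-- `D = ⟨g, g^r⟩` -/
theorem span [Finite G] {D : Subgroup G} (h3 : ∀ d ∈ D, d ^ 3 = 1) (hD : Nat.card ↥D ≤ 9) {g k r : G}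
    (hg : g ∈ D) (hk : k ∈ D) (hg1 : g ≠ 1) (h : Commute g k) (h1 : r * g * r⁻¹ = k)
    (h2 : r * k * r⁻¹ = g⁻¹) : ∀ d ∈ D, ∃ i j : ℤ, d = g ^ i * k ^ j := by
  obtain ⟨C, hC⟩ : ∃ C : Subgroup G, ∀ d, d ∈ C ↔ ∃ i j : ℤ, d = g ^ i * k ^ j := by
    refine ⟨{ carrier := {d | ∃ i j : ℤ, d = g ^ i * k ^ j}
              mul_mem' := ?_
              one_mem' := ⟨0, 0, by simp⟩
              inv_mem' := ?_ }, fun d => Iff.rfl⟩
    · rintro _ _ ⟨i, j, rfl⟩ ⟨i', j', rfl⟩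
      exact ⟨_, _, phi_mul h i j i' j'⟩
    · rintro _ ⟨i, j, rfl⟩
      refine ⟨i * -1, j * -1, ?_⟩
      rw [← phi_pow h, zpow_neg, zpow_one]
  have hCD : C ≤ D := by
    intro d hd
    obtain ⟨i, j, rfl⟩ := (hC d).mp hd
    exact mul_mem (zpow_mem hg i) (zpow_mem hk j)
  have ho : orderOf g = 3 := by
    have hp : Fact (Nat.Prime 3) := ⟨Nat.prime_three⟩
    exact orderOf_eq_prime (h3 g hg) hg1
  have hgC : zpowers g ≤ C := by
    rw [zpowers_le]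
    exact (hC g).mpr ⟨1, 0, by simp⟩
  have hkC : k ∈ C := (hC k).mpr ⟨0, 1, by simp⟩
  have hkg : k ∉ zpowers g := by
    intro hkg
    obtain ⟨i, hi⟩ := mem_zpowers_iff.mp hkg
    have h4 : g ^ (i * i + 1) = 1 := by
      have h5 : r * k * r⁻¹ = g ^ (i * i) := by
        calc r * k * r⁻¹ = r * g ^ i * r⁻¹ := by rw [hi]
          _ = (r * g * r⁻¹) ^ i := by rw [conj_zpow]
          _ = (g ^ i) ^ i := by rw [h1, hi]
          _ = _ := by rw [zpow_mul]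
      rw [zpow_add, ← h5, h2, zpow_one, inv_mul_cancel]
    rw [← orderOf_dvd_iff_zpow_eq_one, ho] at h4
    have h5 : (i * i + 1) % 3 = 0 := Int.emod_eq_zero_of_dvd (by exact_mod_cast h4)
    have h6 : i % 3 = 0 ∨ i % 3 = 1 ∨ i % 3 = 2 := by omega
    rcases h6 with h6 | h6 | h6 <;> rw [Int.add_emod, Int.mul_emod, h6] at h5 <;> norm_num at h5
  have hcz : Nat.card ↥(zpowers g) = 3 := by rw [Nat.card_zpowers, ho]
  have hcC : 6 ≤ Nat.card ↥C := by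
    obtain ⟨n, hn⟩ := card_dvd_of_le hgC
    rw [hcz] at hn
    have hpos : 0 < Nat.card ↥C := Nat.card_pos
    have hn1 : n ≠ 1 := by
      rintro rfl
      apply hkg
      have h5 : zpowers g = C := Subgroup.eq_of_le_of_card_ge hgC (by rw [hcz]; omega)
      rw [h5]
      exact hkC
    have hn0 : n ≠ 0 := by
      rintro rfl
      omega
    omega
  have hCeq : C = D := by
    apply Subgroup.eq_of_le_of_card_ge hCD
    obtain ⟨n, hn⟩ := card_dvd_of_le hCD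
    have hpos : 0 < Nat.card ↥D := Nat.card_pos
    have hn1 : n < 2 := by
      by_contra hge
      have h5 : Nat.card ↥C * 2 ≤ Nat.card ↥C * n := Nat.mul_le_mul_left _ (by omega)
      omega
    have hn0 : n ≠ 0 := by
      rintro rfl
      omega
    have : n = 1 := by omega
    rw [hn, this, mul_one]
  intro d hd
  rw [← hCeq] at hd
  exact (hC d).mp hd

end plane

variable {G : Type u} [Group G] [Finite G] {X : Subgroup G} {x a b : G} {L S : Subgroup G} {y : G}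

/-- **(8)** `O(C(y)) ∩ C(a b) = 1` -/
theorem eight_ab (kf : KF34.{u}) (kf2 : KF2.{u}) (kfa : KFA.{u}) (h : Sit X x a b L S)
    (hy : IsY x a y) (hinv : Inv a y (a * b)) {d : G} (hd : d ∈ core (centralizer ({y} : Set G)))
    (hdt : d * (a * b) = a * b * d) : d = 1 := by
  by_contra hne
  have ht : IsT a b (a * b) := Or.inr rfl
  have haa := sq_of_order h.T.inva
  have hab : a * b = b * a := (aS h h.bS).symm
  obtain ⟨J, T, -⟩ := exists_triple (y2 h hy) (t2 h ht) (ts h ht (yS h hy)).symm hd (mem_c hdt)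
    (by rw [ct h ht, mem_bot]; exact hne)
  obtain ⟨w₁, w₂, hw1L, hw2L, hw1x, hw2x, h1, h2, h3⟩ := exists_q8 kf h
  have hwa1 := Y_comm h hw1L
  have hwa2 := Y_comm h hw2L
  have hw1b := sq_comm h1
  have hw2b := sq_comm h2
  have hwt : ∀ {w : G}, w * a = a * w → w * b = b * w → w * (a * b) = a * b * w := by
    intro w h4 h5
    calc w * (a * b) = (w * a) * b := by group
      _ = a * (w * b) := by rw [h4]; group
      _ = _ := by rw [h5]; group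
  have hw1t := hwt hwa1 hw1b
  have hw2t := hwt hwa2 hw2b
  have hw1y := (y_iff h hy hwa1).mpr hw1x
  have hw2y := (y_iff h hy hwa2).mpr hw2x
  have hdD : d ∈ DD y (a * b) := ⟨hd, mem_c hdt⟩
  rcases types kf kf2 kfa h hy ht hinv T with ⟨hl2, F⟩ | ⟨-, F⟩
  · -- `D` is cyclic
    have hcyc := cyclic_D kf kf2 kfa h hy ht hinv T hl2 F
    obtain ⟨⟨g, hg⟩, hgen⟩ := hcyc.exists_generator
    have hgen' : ∀ e ∈ DD y (a * b), ∃ n : ℤ, e = g ^ n := by
      intro e he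
      obtain ⟨n, hn⟩ := mem_zpowers_iff.mp (hgen ⟨e, he⟩)
      exact ⟨n, (congrArg Subtype.val hn).symm⟩
    obtain ⟨i, hi⟩ := hgen' _ (conj_DD hw1y hw1t hg)
    obtain ⟨j, hj⟩ := hgen' _ (conj_DD hw2y hw2t hg)
    have hg1 : g = 1 := by
      apply kill h hinv h1 h3 hw1y hw2y hw1t hw2t hg
      rw [hi, hj, ← conj_zpow, ← conj_zpow, hi, hj, ← zpow_mul, ← zpow_mul, mul_comm]
    obtain ⟨n, hn⟩ := hgen' d hdD
    rw [hg1, one_zpow] at hn
    exact hne hn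
  · -- `J = L₃(4)`
    obtain ⟨hD3, hDc, hD9⟩ := small_D kf kf2 kfa h hy ht T F
    have hcJ := cen_J kf kf2 kfa h hy ht T
    have hbJ := b_notin kf kf2 kfa h hy T F
    have haJ : a ∈ J := by
      rcases mem_aat h hy ht T.comp hcJ (fun w hw hwx => T_le kf kf2 kfa h hy ht T hw hwx) with h4 | h4
      · exact h4
      · rw [← mul_assoc, haa, one_mul] at h4
        exact (hbJ h4).elim
    obtain ⟨r, hrf, hrx, hrr, hrb⟩ := exists_r kf kf2 kfa h hy T F haJ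
    have hra : r * a = a * r := sq_comm hrr
    have hry := (y_iff h hy hra).mpr hrx
    have hrt := hwt hra hrb
    have hcL := core_L h
    have hrw1 : r * w₁ = w₁ * r := comm_of_fixes hcL hrf hw1L
    have hrw2 : r * w₂ = w₂ * r := comm_of_fixes hcL hrf hw2L
    obtain ⟨k, hk⟩ : ∃ k, k = r * d * r⁻¹ := ⟨_, rfl⟩
    have hkD : k ∈ DD y (a * b) := hk ▸ conj_DD hry hrt hdD
    have hcom : Commute d k := hDc d hdD k hkD
    have hkr : r * k * r⁻¹ = d⁻¹ := by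
      rw [← hinv d hd hdt, hk, ← hrr]; group
    have hsp := span hD3 hD9 hdD hkD hne hcom hk.symm hkr
    obtain ⟨i, j, e1⟩ := hsp _ (conj_DD hw1y hw1t hdD)
    obtain ⟨m, n, e2⟩ := hsp _ (conj_DD hw2y hw2t hdD)
    exact hne (kill h hinv h1 h3 hw1y hw2y hw1t hw2t hdD
      (plane hcom hk.symm hkr hrw1 hrw2 e1 e2))

end Cfsg.Agent.UGT.LTF.EightF
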