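import Cfsg.Agent.UGT.LTF.EightF
import Cfsg.Agent.UGT.LTF.Link

/-!
# (8): `O(C(y)) ∩ C(b)` is normalized by `p`, `x^p = x b`

* `exists_p`: `p ∈ C_L(b)` with `p x p⁻¹ = x b`.
* `eight_b`: `p d p⁻¹ ∈ O(C(y))` for `d ∈ O(C(y)) ∩ C(b)`.
-/

set_option autoImplicit false

open Cfsg Subgroup
open Cfsg.Agent.SignalizersComponents Cfsg.Agent.Lib
open Cfsg.Agent.SignalizersComponents.IntrinsicBasic
open Cfsg.Agent.Intrinsic.Basic Cfsg.Agent.Intrinsic.Cen Cfsg.Agent.Intrinsic.Diag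
open Cfsg.Agent.McLLyComp.Act
open Cfsg.Agent.UGT.Triple Cfsg.Agent.UGT.TriBase Cfsg.Agent.UGT.Res.Base
open Cfsg.Agent.UGT.Iface (Bar IsL2 IsL34 IsAltOdd)
open Cfsg.Agent.UGT.LTF.Defs Cfsg.Agent.UGT.LTF.Basics Cfsg.Agent.UGT.LTF.Comp
open Cfsg.Agent.UGT.LTF.Wild Cfsg.Agent.UGT.LTF.Seven Cfsg.Agent.UGT.LTF.EightA
open Cfsg.Agent.UGT.LTF.EightB Cfsg.Agent.UGT.LTF.EightC Cfsg.Agent.UGT.LTF.EightD
open Cfsg.Agent.UGT.LTF.EightE Cfsg.Agent.UGT.LTF.EightF
open Cfsg.Agent.UGT.ThEL34 (fx mem_fx)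

namespace Cfsg.Agent.UGT.LTF.EightG

universe u

section autos

variable {D : Type*} [Group D] [Finite D] {ξ : MulAut D}

/-- involutions of `C_D(ξ)` are conjugate in `C_D(ξ)` -/
theorem conj_fix (F : FT ξ) {s t : D} (hs : s * s = 1) (hs1 : s ≠ 1) (hxs : ξ s = s)
    (ht : t * t = 1) (ht1 : t ≠ 1) (hxt : ξ t = t) : ∃ q, ξ q = q ∧ q * t * q⁻¹ = s := by
  have hs' : (⟨s, hxs⟩ : fx ξ) * ⟨s, hxs⟩ = 1 := Subtype.ext hs
  have ht' : (⟨t, hxt⟩ : fx ξ) * ⟨t, hxt⟩ = 1 := Subtype.ext ht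
  have key : IsConj (⟨t, hxt⟩ : fx ξ) ⟨s, hxs⟩ := by
    by_contra hcon
    obtain ⟨k, -, hu1, hu2, hus, hut, -, -⟩ := Link.exists_central hs' ht' hcon
    obtain ⟨⟨u, hxu⟩, hu⟩ : ∃ u : fx ξ, u = ((⟨s, hxs⟩ : fx ξ) * ⟨t, hxt⟩) ^ k := ⟨_, rfl⟩
    rw [← hu] at hu1 hu2 hus hut
    have h1 : u ≠ 1 := fun h => hu1 (Subtype.ext h)
    have h2 : u * u = 1 := congrArg Subtype.val hu2
    have h3 : u * s = s * u := congrArg Subtype.val hus
    have h4 : u * t = t * u := congrArg Subtype.val hut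
    have h5 := F.comm u s h2 hs h1 hs1 hxu hxs h3
    have h6 := F.comm u t h2 ht h1 ht1 hxu hxt h4
    have h7 : t = s := h6.symm.trans h5
    subst h7
    exact hcon (IsConj.refl _)
  obtain ⟨⟨q, hq⟩, h⟩ := isConj_iff.mp key
  exact ⟨q, hq, congrArg Subtype.val h⟩

/-- `p ∈ C_D(b)` with `ξ^p = ξ b` -/
theorem exists_p' (F : FT ξ) {b : D} (hb : b * b = 1) (hb1 : b ≠ 1) (hxb : ξ b = b) :
    ∃ p, p * b = b * p ∧ MulAut.conj p * ξ * (MulAut.conj p)⁻¹ = ξ * MulAut.conj b := by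
  have hxc : ξ * MulAut.conj b = MulAut.conj b * ξ := (F.toFacts.comm_conj_iff ξ b).mpr hxb
  obtain ⟨m, hm⟩ := F.xconj b (by
    calc ξ * MulAut.conj b * (ξ * MulAut.conj b) = ξ * (MulAut.conj b * ξ) * MulAut.conj b := by
          group
      _ = (ξ * ξ) * (MulAut.conj b * MulAut.conj b) := by rw [← hxc]; group
      _ = 1 := by rw [F.xx, ← map_mul, hb, map_one, one_mul])
  -- `m b m⁻¹` is fixed by `ξ`
  have hmb : ξ (m * b * m⁻¹) = m * b * m⁻¹ := by
    rw [← F.toFacts.comm_conj_iff, map_mul, map_mul, map_inv]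
    have h1 : (ξ * MulAut.conj b) * MulAut.conj b = MulAut.conj b * (ξ * MulAut.conj b) := by
      rw [hxc]; group
      rw [mul_assoc, hxc, ← mul_assoc]
    have h2 := congrArg (fun z => MulAut.conj m * z * (MulAut.conj m)⁻¹) h1
    calc ξ * (MulAut.conj m * MulAut.conj b * (MulAut.conj m)⁻¹)
        = MulAut.conj m * (ξ * MulAut.conj b) * (MulAut.conj m)⁻¹ *
          (MulAut.conj m * MulAut.conj b * (MulAut.conj m)⁻¹) := by rw [hm]
      _ = MulAut.conj m * (ξ * MulAut.conj b * MulAut.conj b) * (MulAut.conj m)⁻¹ := by group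
      _ = MulAut.conj m * (MulAut.conj b * (ξ * MulAut.conj b)) * (MulAut.conj m)⁻¹ := by rw [h1]
      _ = (MulAut.conj m * MulAut.conj b * (MulAut.conj m)⁻¹) *
          (MulAut.conj m * (ξ * MulAut.conj b) * (MulAut.conj m)⁻¹) := by group
      _ = _ := by rw [hm]
  obtain ⟨q, hxq, hq⟩ := conj_fix F hb hb1 hxb (t := m * b * m⁻¹) (by
      calc m * b * m⁻¹ * (m * b * m⁻¹) = m * (b * b) * m⁻¹ := by group
        _ = 1 := by rw [hb]; group) (by
      intro h
      apply hb1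
      calc b = m⁻¹ * (m * b * m⁻¹) * m := by group
        _ = 1 := by rw [h]; group) hmb
  have hqx : MulAut.conj q * ξ = ξ * MulAut.conj q := ((F.toFacts.comm_conj_iff ξ q).mpr hxq).symm
  -- `n = q m`: `n (ξ b) n⁻¹ = ξ`, `n b n⁻¹ = b`
  have h1 : q * m * b = b * (q * m) := by
    calc q * m * b = (q * (m * b * m⁻¹) * q⁻¹) * (q * m) := by group
      _ = _ := by rw [hq]
  have h2 : MulAut.conj (q * m) * (ξ * MulAut.conj b) * (MulAut.conj (q * m))⁻¹ = ξ := by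
    rw [map_mul]
    calc MulAut.conj q * MulAut.conj m * (ξ * MulAut.conj b) * (MulAut.conj q * MulAut.conj m)⁻¹
        = MulAut.conj q * (MulAut.conj m * (ξ * MulAut.conj b) * (MulAut.conj m)⁻¹) *
          (MulAut.conj q)⁻¹ := by group
      _ = MulAut.conj q * ξ * (MulAut.conj q)⁻¹ := by rw [hm]
      _ = ξ := by rw [hqx]; group
  refine ⟨(q * m)⁻¹, ?_, ?_⟩
  · calc (q * m)⁻¹ * b = (q * m)⁻¹ * (b * (q * m)) * (q * m)⁻¹ := by group
      _ = (q * m)⁻¹ * (q * m * b) * (q * m)⁻¹ := by rw [h1]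
      _ = _ := by group
  · rw [map_inv, inv_inv]
    calc (MulAut.conj (q * m))⁻¹ * ξ * MulAut.conj (q * m)
        = (MulAut.conj (q * m))⁻¹ * (MulAut.conj (q * m) * (ξ * MulAut.conj b) *
          (MulAut.conj (q * m))⁻¹) * MulAut.conj (q * m) := by rw [h2]
      _ = _ := by group

end autos

variable {G : Type u} [Group G] [Finite G] {X : Subgroup G} {x a b : G} {L S : Subgroup G} {y : G}
  {J : Subgroup G}

/-- `p ∈ C_L(b)` with `p x p⁻¹ = x b` -/
theorem exists_p (kf : KF34.{u}) (h : Sit X x a b L S) : ∃ p ∈ L, p * b = b * p ∧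
    p * x * p⁻¹ = x * b := by
  have hc := core_L h
  have F := ft kf h
  have hxL := h.T.x_mem
  obtain ⟨p', h1, h2⟩ := exists_p' F (sq_bar h.bL (sq_of_order h.b2))
    (ne_bar hc h.bL (ne_one_of_order h.b2)) (act_fix' hxL h.bL (h.bc x h.xS))
  obtain ⟨⟨p, hp⟩, rfl⟩ := QuotientGroup.mk_surjective p'
  refine ⟨p, hp, mk_comm hc hp h.bL h1, ?_⟩
  rw [← act_of_mem hp, ← act_of_mem h.bL, ← act_inv, ← act_mul, ← act_mul, ← act_mul,
    act_eq_iff] at h2
  have h3 : p * x * p⁻¹ * (x * b)⁻¹ ∈ L := by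
    have h4 : x * (p⁻¹ * b⁻¹) * x⁻¹ ∈ L := conj_mem hxL (mul_mem (inv_mem hp) (inv_mem h.bL))
    have h5 : p * x * p⁻¹ * (x * b)⁻¹ = p * (x * (p⁻¹ * b⁻¹) * x⁻¹) := by group
    rw [h5]
    exact mul_mem hp h4
  exact mul_inv_eq_one.mp (center_L kf h _ h3 fun j hj => comm_of_fixes hc h2 hj)

omit [Finite G] in
theorem comm_c' {u v : G} (h : u * v = v * u) : u * v⁻¹ = v⁻¹ * u := by
  calc u * v⁻¹ = v⁻¹ * (v * u) * v⁻¹ := by group
    _ = v⁻¹ * (u * v) * v⁻¹ := by rw [h]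
    _ = _ := by group

/-- a subgroup of `C(y) ∩ C(b)` of odd order, normalized by `C(y) ∩ C(b)` -/
structure Odd2 (y b : G) (E : Subgroup G) : Prop where
  odd : Odd (Nat.card ↥E)
  com : ∀ e ∈ E, e * y = y * e
  com' : ∀ e ∈ E, e * b = b * e
  nor : ∀ c, c * y = y * c → c * b = b * c → ∀ e ∈ E, c * e * c⁻¹ ∈ E

theorem Odd2.le {E : Subgroup G} (h : Odd2 y b E) :
    E ≤ core (centralizer ({b} : Set G) ⊓ centralizer ({y} : Set G)) := by
  refine le_core (fun e he => ⟨mem_c (h.com' e he), mem_c (h.com e he)⟩) ?_ h.odd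
  intro c hc
  rw [mem_normalizer_iff]
  intro e
  refine ⟨h.nor c (comm_c hc.2) (comm_c hc.1) e, fun h1 => ?_⟩
  have h2 := h.nor c⁻¹ (comm_c (inv_mem hc.2)) (comm_c (inv_mem hc.1)) _ h1
  have h3 : c⁻¹ * (c * e * c⁻¹) * c⁻¹⁻¹ = e := by group
  rwa [h3] at h2

/-- the image of `E` in `Aut(J)` -/
noncomputable def im (E J : Subgroup G) : Subgroup (MulAut (Bar J)) :=
  (E.subgroupOf (normalizer (J : Set G))).map (act J)

omit [Finite G] in
theorem mem_im {E J : Subgroup G} {α : MulAut (Bar J)} : α ∈ im E J ↔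
    ∃ d, ∃ hd : d ∈ normalizer (J : Set G), d ∈ E ∧ act J ⟨d, hd⟩ = α := by
  constructor
  · rintro ⟨⟨d, hd⟩, h, rfl⟩
    exact ⟨d, hd, h, rfl⟩
  · rintro ⟨d, hd, h1, rfl⟩
    exact ⟨⟨d, hd⟩, h1, rfl⟩

theorem Odd2.oddC {E : Subgroup G} (h : Odd2 y b E) (T : IsTriple y b J) (hc : core J = ⊥) :
    OddC (act J ⟨y, T.x_mem⟩) (im E J) := by
  refine ⟨?_, ?_, ?_⟩
  · refine Odd.of_dvd_nat ?_ (card_map_dvd _ _)
    refine Odd.of_dvd_nat h.odd ?_
    exact card_comap_dvd_of_injective E (normalizer (J : Set G)).subtype (subtype_injective _)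
  · intro e he
    obtain ⟨d, hd, h1, rfl⟩ := mem_im.mp he
    rw [← act_mul, ← act_mul]
    exact act_congr _ (h.com d h1)
  · intro l hl e he
    obtain ⟨d, hd, h1, rfl⟩ := mem_im.mp he
    obtain ⟨⟨m, hm⟩, rfl⟩ := QuotientGroup.mk_surjective l
    have hxm : y * m = m * y := act_fix hc T.x_mem hm hl
    rw [← act_of_mem hm, ← act_mul, ← act_inv, ← act_mul]
    exact mem_im.mpr ⟨m * d * m⁻¹, _, h.nor m hxm.symm (comm_c (T.comp.le hm)) d h1, rfl⟩

/-- **(8)** `p d p⁻¹ ∈ O(C(y))` for `d ∈ O(C(y)) ∩ C(b)` -/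
theorem eight_b (kf : KF34.{u}) (kf2 : KF2.{u}) (kfa : KFA.{u}) (h : Sit X x a b L S)
    (hy : IsY x a y) (hinv : Inv a y b) {p : G} (hp : p ∈ L) (hpb : p * b = b * p)
    (hpx : p * x * p⁻¹ = x * b) {d : G} (hd : d ∈ core (centralizer ({y} : Set G)))
    (hdb : d * b = b * d) : p * d * p⁻¹ ∈ core (centralizer ({y} : Set G)) := by
  have ht : IsT a b b := Or.inl rfl
  have haa := sq_of_order h.T.inva
  have hab : a * b = b * a := (aS h h.bS).symm
  have hpa := Y_comm h hp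
  by_cases hd1 : d = 1
  · rw [hd1, mul_one, mul_inv_cancel]; exact one_mem _
  obtain ⟨J, T, -⟩ := exists_triple (y2 h hy) h.b2 (h.bc y (yS h hy)).symm hd (mem_c hdb)
    (by rw [ct h ht, mem_bot]; exact hd1)
  have hcore := ct_J h ht T.comp
  have hcJ := cen_J kf kf2 kfa h hy ht T
  have hTJ := fun w hw hwx => T_le kf kf2 kfa h hy ht T (w := w) hw hwx
  have haJ := hTJ a (aSm h) h.T.comm
  -- `p` normalizes `J`
  have hpJ : p ∈ normalizer (J : Set G) := by
    have ha1 := ne_one_of_order h.T.inva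
    rcases mem_aat h hy ht T.comp hcJ hTJ with h1 | h1
    · exact norm_of_cen h ht T.comp hcJ h1 ha1 hpa hpb
    · refine norm_of_cen h ht T.comp hcJ h1 (t_ne h (Or.inr rfl)) ?_ hpb
      calc p * (a * b) = (p * a) * b := by group
        _ = a * (p * b) := by rw [hpa]; group
        _ = _ := by rw [hpb]; group
  -- `p y p⁻¹ = y b`
  have hpy : p * y * p⁻¹ = y * b := by
    rcases hy with rfl | rfl
    · exact hpx
    · calc p * (x * a) * p⁻¹ = (p * x * p⁻¹) * (p * a) * p⁻¹ := by group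
        _ = x * b * (a * p) * p⁻¹ := by rw [hpx, hpa]
        _ = x * (b * a) := by group
        _ = _ := by rw [← hab]; group
  have hyb : y * b = b * y := h.bc y (yS h hy)
  have hyb' : p⁻¹ * y * p = y * b⁻¹ := by
    have h1 : y = p * (y * b⁻¹) * p⁻¹ := by
      calc y = (p * y * p⁻¹) * b⁻¹ := by rw [hpy]; group
        _ = p * y * (p⁻¹ * b⁻¹) := by group
        _ = p * y * (b * p)⁻¹ := by group
        _ = p * y * (p * b)⁻¹ := by rw [hpb]
        _ = _ := by group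
    calc p⁻¹ * y * p = p⁻¹ * (p * (y * b⁻¹) * p⁻¹) * p := by rw [← h1]
      _ = _ := by group
  -- `D`, `D^p`
  have hD : Odd2 y b (DD y b) := ⟨odd_DD y b, fun e he => comm_c (core_le _ he.1),
    fun e he => comm_c he.2, fun c hcy hcb e he => conj_DD hcy hcb he⟩
  have hD' : Odd2 y b (cj p (DD y b)) := by
    refine ⟨by rw [card_cj]; exact odd_DD y b, ?_, ?_, ?_⟩
    · rintro _ ⟨e, he, rfl⟩
      change p * e * p⁻¹ * y = y * (p * e * p⁻¹)
      have h1 : e * (y * b⁻¹) = y * b⁻¹ * e := by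
        have h2 := hD.com e he
        have h3 : e * b⁻¹ = b⁻¹ * e := comm_c' (hD.com' e he)
        calc e * (y * b⁻¹) = (e * y) * b⁻¹ := by group
          _ = y * (e * b⁻¹) := by rw [h2]; group
          _ = _ := by rw [h3]; group
      calc p * e * p⁻¹ * y = p * (e * (p⁻¹ * y * p)) * p⁻¹ := by group
        _ = p * ((p⁻¹ * y * p) * e) * p⁻¹ := by rw [hyb', h1]
        _ = _ := by group
    · rintro _ ⟨e, he, rfl⟩
      change p * e * p⁻¹ * b = b * (p * e * p⁻¹)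
      exact comm_c (mul_mem (mul_mem (mem_c hpb) (mem_c (hD.com' e he))) (inv_mem (mem_c hpb)))
    · rintro c hcy hcb _ ⟨e, he, rfl⟩
      change c * (p * e * p⁻¹) * c⁻¹ ∈ _
      have h1 : p⁻¹ * c * p * y = y * (p⁻¹ * c * p) := by
        have h2 : c * (y * b) = y * b * c := by
          calc c * (y * b) = (c * y) * b := by group
            _ = y * (c * b) := by rw [hcy]; group
            _ = _ := by rw [hcb]; group
        calc p⁻¹ * c * p * y = p⁻¹ * (c * (p * y * p⁻¹)) * p := by group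
          _ = p⁻¹ * (p * y * p⁻¹ * c) * p := by rw [hpy, h2]
          _ = _ := by group
      have h2 : p⁻¹ * c * p * b = b * (p⁻¹ * c * p) :=
        comm_c (mul_mem (mul_mem (inv_mem (mem_c hpb)) (mem_c hcb)) (mem_c hpb))
      have h3 := hD.nor _ h1 h2 e he
      have h4 : c * (p * e * p⁻¹) * c⁻¹ = p * (p⁻¹ * c * p * e * (p⁻¹ * c * p)⁻¹) * p⁻¹ := by group
      rw [h4]
      exact conj_mem_cj h3
  have hdD : d ∈ DD y b := ⟨hd, mem_c hdb⟩
  have hpdJ : p * d * p⁻¹ ∈ normalizer (J : Set G) :=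
    mul_mem (mul_mem hpJ (DD_le T hdD)) (inv_mem hpJ)
  -- `p d p⁻¹` acts as an element of `D`
  have key : act J ⟨p * d * p⁻¹, hpdJ⟩ ∈ img y b J := by
    have hmem' : act J ⟨p * d * p⁻¹, hpdJ⟩ ∈ im (cj p (DD y b)) J :=
      mem_im.mpr ⟨_, hpdJ, conj_mem_cj hdD, rfl⟩
    rcases types kf kf2 kfa h hy ht hinv T with ⟨hl2, F⟩ | ⟨-, F⟩
    · -- `L₂(q)`
      have hc := (kf2 _ hl2).1
      obtain ⟨l, hl⟩ := inner_D h hinv T haJ F hdD
      obtain ⟨π, hπ⟩ : ∃ π, π = act J ⟨p, hpJ⟩ := ⟨_, rfl⟩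
      have hconj : act J ⟨p * d * p⁻¹, hpdJ⟩ = MulAut.conj (π l) := by
        rw [act_mul (mul_mem hpJ (DD_le T hdD)) (inv_mem hpJ), act_mul hpJ (DD_le T hdD),
          act_inv hpJ, hl, ← hπ, ThEL34.conj_conj]
      obtain ⟨E', hE'⟩ : ∃ E' : Subgroup (Bar J), E' = (im (cj p (DD y b)) J).comap MulAut.conj :=
        ⟨_, rfl⟩
      have hEE' : E' = (EE y b J).map π.toMonoidHom := by
        ext z
        rw [hE']
        constructor
        · intro hz
          obtain ⟨e', he'J, ⟨e, he, rfl⟩, hz'⟩ := mem_im.mp (show MulAut.conj z ∈ _ from hz)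
          refine ⟨π⁻¹ z, ?_, by
            change π (π⁻¹ z) = z
            rw [← MulAut.mul_apply, mul_inv_cancel, MulAut.one_apply]⟩
          change MulAut.conj (π⁻¹ z) ∈ img y b J
          have heJ := DD_le T he
          have h5 : MulAut.conj (π⁻¹ z) = act J ⟨e, heJ⟩ := by
            rw [← ThEL34.conj_conj, ← hz', hπ]
            have h6 : act J ⟨(MulAut.conj p).toMonoidHom e, he'J⟩ =
                act J ⟨p, hpJ⟩ * act J ⟨e, heJ⟩ * (act J ⟨p, hpJ⟩)⁻¹ := by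
              rw [← act_mul hpJ heJ, ← act_inv hpJ, ← act_mul (mul_mem hpJ heJ) (inv_mem hpJ)]
              exact act_congr _ rfl
            rw [h6]; group
          rw [h5]
          exact mem_img.mpr ⟨e, heJ, he.1, comm_c he.2, rfl⟩
        · rintro ⟨w, hw, rfl⟩
          have hw' : MulAut.conj w ∈ img y b J := hw
          obtain ⟨e, heJ, he1, he2, hew⟩ := mem_img.mp hw'
          change MulAut.conj (π w) ∈ im (cj p (DD y b)) J
          refine mem_im.mpr ⟨p * e * p⁻¹, mul_mem (mul_mem hpJ heJ) (inv_mem hpJ),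
            conj_mem_cj ⟨he1, mem_c he2⟩, ?_⟩
          rw [act_mul (mul_mem hpJ heJ) (inv_mem hpJ), act_mul hpJ heJ, act_inv hpJ, hew, ← hπ,
            ThEL34.conj_conj]
      have hO := hD'.oddC T hcore
      have huniq := F.uniq (EE y b J) E' (EE_odd hc T hcore) (EE_fix hc T hcore) (EE_nor T hcore)
        (by
          intro e he
          rw [hE'] at he
          have h1 := hO.com _ he
          apply conj_inj hc
          rw [← ThEL34.conj_conj, ← h1, mul_inv_cancel_right])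
        (by
          intro m hm e he
          rw [hE'] at he ⊢
          have h1 := hO.nor m hm _ he
          change MulAut.conj (m * e * m⁻¹) ∈ im (cj p (DD y b)) J
          rwa [map_mul, map_mul, map_inv])
        (by
          rw [hEE']
          exact (card_map_of_injective (f := π.toMonoidHom) π.injective).symm)
      have h1 : π l ∈ E' := by
        rw [hEE']
        refine ⟨l, ?_, rfl⟩
        change MulAut.conj l ∈ img y b J
        rw [← hl]
        exact mem_img.mpr ⟨d, _, hd, hdb, rfl⟩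
      rw [← huniq] at h1
      rw [hconj]
      exact h1
    · -- `L₃(4)`
      obtain ⟨z, hz, hz3, hxz⟩ := F.core _ (hD'.oddC T hcore) _ hmem'
      obtain ⟨d₀, hd₀, hd₀b, hfd₀⟩ := T.bad
      have hd₀J := T.mem_normalizer_of_core hd₀ hd₀b
      have h₀ : act J ⟨d₀, hd₀J⟩ ∈ img y b J := mem_img.mpr ⟨d₀, hd₀J, hd₀, comm_c hd₀b, rfl⟩
      obtain ⟨y₀, hy₀, hy₀3, hxy₀⟩ := F.core _ (oddC T hcore) _ h₀
      have hy₀1 : y₀ ≠ 1 := by
        rintro rfl
        rw [map_one, act_eq_one_iff] at hy₀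
        exact hfd₀ hy₀
      have h1 := F.irr y₀ z hy₀3 hy₀1 hxy₀ hz3 hxz
      have h2 : Subgroup.closure {w : Bar J | ∃ r, act J ⟨y, T.x_mem⟩ r = r ∧ w = r * y₀ * r⁻¹} ≤
          EE y b J := by
        rw [closure_le]
        rintro _ ⟨r, hr, rfl⟩
        apply EE_nor T hcore r hr
        change MulAut.conj y₀ ∈ img y b J
        rw [← hy₀]
        exact h₀
      have h3 : z ∈ EE y b J := h2 h1
      rw [hz]
      exact h3
  obtain ⟨d₁, hd₁J, hd₁, hd₁b, hact⟩ := mem_img.mp key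
  rw [act_eq_iff] at hact
  -- `e = d₁ (p d p⁻¹)⁻¹ = 1`
  have hmemD' : p * d * p⁻¹ ∈ cj p (DD y b) := conj_mem_cj hdD
  have he : d₁ * (p * d * p⁻¹)⁻¹ ∈ core (centralizer ({b} : Set G) ⊓ centralizer ({y} : Set G)) :=
    mul_mem (hD.le ⟨hd₁, mem_c hd₁b⟩) (inv_mem (hD'.le hmemD'))
  have he1 : d₁ * (p * d * p⁻¹)⁻¹ = 1 := by
    by_contra hne
    obtain ⟨M, hM, hfM⟩ := exists_moved (mem_c (h.bc y (yS h hy))) (y2 h hy) he (by
      rw [ct h ht, mem_bot]; exact hne)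
    have huq : ∀ {N : Subgroup G}, IsTriple y b N → N = J := fun T' =>
      uniq_comp h hy ht T'.comp (cen_J kf kf2 kfa h hy ht T')
        (fun w hw hwx => T_le kf kf2 kfa h hy ht T' hw hwx) T.comp hcJ hTJ
    by_cases h1 : Fixes d₁ M
    · have h2 : ¬ Fixes (p * d * p⁻¹) M := fun h3 => hfM (fixes_mul h1 (fixes_inv h3))
      have hMp : IsComp (centralizer ({b} : Set G)) (cj p⁻¹ M) :=
        comp_cj hM (inv_mem (mem_c hpb))
      have h4 : ¬ Fixes d (cj p⁻¹ M) := by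
        intro h5
        apply h2
        have h6 := h5.cj p
        rwa [cj_cj_inv] at h6
      have h5 : cj p⁻¹ M = J := huq ⟨y2 h hy, h.b2, (h.bc y (yS h hy)).symm, hMp, d, hd,
        mem_c hdb, h4⟩
      have h6 : M = J := by
        rw [← cj_cj_inv p M, h5, mem_normalizer_iff_cj.mp hpJ]
      exact hfM (h6 ▸ hact)
    · have h5 : M = J := huq ⟨y2 h hy, h.b2, (h.bc y (yS h hy)).symm, hM, d₁, hd₁,
        mem_c hd₁b, h1⟩
      exact hfM (h5 ▸ hact)
  rw [← mul_inv_eq_one.mp he1]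
  exact hd₁

end Cfsg.Agent.UGT.LTF.EightG
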