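import Cfsg.Agent.UGT.LTF.EightG

/-!
# (8), (9): `C(x) ≤ N(L)`, `Δ ∩ C(x a) ≤ N(L)`

* `inv_x`: `a` inverts `O(C(x)) ∩ C(t)`.
* `norm_x`: `C(x) ≤ N(L)`.
* `sit_xa`: the situation for `x a`.
* `delta_xa`: the conjugates of `a` in `C(x a)` are in `N(L)`.
-/

set_option autoImplicit false

open Cfsg Subgroup
open Cfsg.Agent.SignalizersComponents Cfsg.Agent.Lib
open Cfsg.Agent.SignalizersComponents.IntrinsicBasic
open Cfsg.Agent.Intrinsic.Basic Cfsg.Agent.Intrinsic.Cen Cfsg.Agent.Intrinsic.Diag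
open Cfsg.Agent.McLLyComp.Act
open Cfsg.Agent.UGT.Triple Cfsg.Agent.UGT.TriBase Cfsg.Agent.UGT.Res.Base
open Cfsg.Agent.UGT.Iface (Bar IsL2 IsL34 IsAltOdd)
open Cfsg.Agent.UGT.LTF.Defs Cfsg.Agent.UGT.LTF.Basics Cfsg.Agent.UGT.LTF.Comp
open Cfsg.Agent.UGT.LTF.Wild Cfsg.Agent.UGT.LTF.Seven Cfsg.Agent.UGT.LTF.EightA
open Cfsg.Agent.UGT.LTF.EightB Cfsg.Agent.UGT.LTF.EightC Cfsg.Agent.UGT.LTF.EightD
open Cfsg.Agent.UGT.LTF.EightE Cfsg.Agent.UGT.LTF.EightF Cfsg.Agent.UGT.LTF.EightG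

namespace Cfsg.Agent.UGT.LTF.Nine

universe u

section general

variable {G : Type*} [Group G]

theorem comm_of_inverted {N : Subgroup G} {u : G} (h : ∀ d ∈ N, u * d * u⁻¹ = d⁻¹) :
    ∀ d ∈ N, ∀ e ∈ N, d * e = e * d := by
  intro d hd e he
  have h1 := h _ (mul_mem hd he)
  have h2 : u * (d * e) * u⁻¹ = d⁻¹ * e⁻¹ := by
    rw [← h d hd, ← h e he]; group
  rw [h2, ← mul_inv_rev] at h1
  exact (inv_injective h1).symm

theorem cj_eq [Finite G] {N : Subgroup G} {p : G} (h : cj p N ≤ N) : cj p N = N :=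
  Subgroup.eq_of_le_of_card_ge h (by rw [card_cj])

/-- an element of odd order whose square is in `M` -/
theorem mem_of_sq_odd [Finite G] {N M : Subgroup G} (hN : Odd (Nat.card ↥N)) {d : G} (hd : d ∈ N)
    (h : d * d ∈ M) : d ∈ M := by
  obtain ⟨k, hk⟩ := hN
  have h1 : d ^ Nat.card ↥N = 1 := by
    have h2 : (⟨d, hd⟩ : ↥N) ^ Nat.card ↥N = 1 := pow_card_eq_one'
    exact congrArg Subtype.val h2
  have h3 : d = (d * d) ^ (k + 1) := by
    calc d = d ^ Nat.card ↥N * d := by rw [h1, one_mul]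
      _ = d ^ (2 * (k + 1)) := by rw [hk, ← pow_succ]; congr 1
      _ = _ := by rw [pow_mul, pow_two]
  rw [h3]
  exact pow_mem h _

end general

variable {G : Type u} [Group G] [Finite G] {X : Subgroup G} {x a b : G} {L S : Subgroup G} {y t : G}

/-- `a` inverts `O(C(x)) ∩ C(t)` -/
theorem inv_x (kf : KF34.{u}) (kf2 : KF2.{u}) (kfa : KFA.{u}) (h : Sit X x a b L S)
    (ht : IsT a b t) : Inv a x t := by
  intro d hd hdt
  have haa := sq_of_order h.T.inva
  have hat := ts h ht (aSm h)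
  refine inv_of_fpf (odd_DD x t) haa (fun e he => conj_DD h.T.comm hat he) ?_ d ⟨hd, mem_c hdt⟩
  intro e he hae
  have hea : e * a = a * e := hae.symm
  obtain ⟨heL, he3⟩ := mem_Y kf kf2 kfa h he.1 hea
  have hex : x * e = e * x := (comm_c (core_le _ he.1)).symm
  have hab : a * b = b * a := (aS h h.bS).symm
  have heb : e * b = b * e := by
    have h1 := comm_c he.2
    rcases ht with rfl | rfl
    · exact h1
    · exact ab_iff' hab h1 hea
  have h1 := inv_Y kf h (h.bc x h.xS).symm heL he3 hex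
  have h2 : e * e = 1 := by
    have h3 : b * e * b⁻¹ = e := by rw [← heb, mul_inv_cancel_right]
    rw [h3] at h1
    calc e * e = e * e⁻¹ := by rw [← h1]
      _ = 1 := mul_inv_cancel _
  calc e = e ^ 3 := by rw [pow_succ, pow_two, h2, one_mul]
    _ = 1 := he3

/-- `a b` inverts `O(C(y))` if `a` inverts `O(C(y)) ∩ C(a b)` -/
theorem inv_ab (kf : KF34.{u}) (kf2 : KF2.{u}) (kfa : KFA.{u}) (h : Sit X x a b L S)
    (hy : IsY x a y) (hinv : Inv a y (a * b)) : ∀ d ∈ core (centralizer ({y} : Set G)),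
    a * b * d * (a * b)⁻¹ = d⁻¹ := by
  have ht : IsT a b (a * b) := Or.inr rfl
  refine inv_of_fpf (odd_card_core _) (tt h ht) ?_ ?_
  · intro d hd
    exact conj_core (mem_c (ts h ht (yS h hy)).symm) hd
  · intro d hd hcom
    exact eight_ab kf kf2 kfa h hy hinv hd hcom.symm

/-- the subgroup `C_L(d)` contains `L` if it contains `Y` and `Y^p` -/
theorem gen_L (kf : KF34.{u}) (h : Sit X x a b L S) {p : G} (hp : p ∈ L)
    (hpb : p * b = b * p) (hpx : p * x * p⁻¹ = x * b) {H : Subgroup G}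
    (hH : ∀ z ∈ L, z ^ 3 = 1 → x * z = z * x → z ∈ H ∧ p * z * p⁻¹ ∈ H) : L ≤ H := by
  have hc := core_L h
  have F := ft kf h
  have hxL := h.T.x_mem
  have h1 := F.gen (QuotientGroup.mk ⟨p, hp⟩) (QuotientGroup.mk ⟨b, h.bL⟩)
    (sq_bar h.bL (sq_of_order h.b2)) (ne_bar hc h.bL (ne_one_of_order h.b2))
    (act_fix' hxL h.bL (h.bc x h.xS)) (mk_comm' hp h.bL hpb) (by
      rw [← act_of_mem hp, ← act_of_mem h.bL, ← act_inv, ← act_mul, ← act_mul, ← act_mul]
      exact act_congr _ hpx) ((H.subgroupOf L).map (QuotientGroup.mk' (oddCore ↥L))) (by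
      intro z' hz3 hxz
      obtain ⟨⟨z, hz⟩, rfl⟩ := QuotientGroup.mk_surjective z'
      obtain ⟨h2, h3⟩ := hH z hz (pow_three hc hz hz3) (act_fix hc hxL hz hxz)
      exact ⟨⟨⟨z, hz⟩, h2, rfl⟩,
        ⟨⟨p * z * p⁻¹, mul_mem (mul_mem hp hz) (inv_mem hp)⟩, h3, rfl⟩⟩)
  intro l hl
  have h2 : (QuotientGroup.mk (⟨l, hl⟩ : ↥L) : Bar L) ∈
      (H.subgroupOf L).map (QuotientGroup.mk' (oddCore ↥L)) := by
    rw [h1]; exact mem_top _
  obtain ⟨⟨m, hm⟩, hmH, hml⟩ := h2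
  have h3 : m = l := mk_inj hc hm hl hml
  rw [← h3]
  exact hmH

/-- `O(C(x)) ∩ C(b)` centralizes `L` -/
theorem Db_cent (kf : KF34.{u}) (kf2 : KF2.{u}) (kfa : KFA.{u}) (h : Sit X x a b L S) {d : G}
    (hd : d ∈ core (centralizer ({x} : Set G))) (hdb : d * b = b * d) : L ≤ centralizer ({d} : Set G) := by
  have hy : IsY x a x := Or.inl rfl
  obtain ⟨p, hp, hpb, hpx⟩ := exists_p kf h
  have hab := comm_of_inverted (inv_ab kf kf2 kfa h hy (inv_x kf kf2 kfa h (Or.inr rfl)))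
  have hle : cj p (DD x b) ≤ DD x b := by
    rintro _ ⟨e, he, rfl⟩
    refine ⟨eight_b kf kf2 kfa h hy (inv_x kf kf2 kfa h (Or.inl rfl)) hp hpb hpx he.1
      (comm_c he.2), ?_⟩
    exact (centralizer ({b} : Set G)).mul_mem ((centralizer ({b} : Set G)).mul_mem (mem_c hpb) he.2)
      ((centralizer ({b} : Set G)).inv_mem (mem_c hpb))
  have heq := cj_eq hle
  have hdp : p⁻¹ * d * p ∈ core (centralizer ({x} : Set G)) := by
    have h1 : d ∈ cj p (DD x b) := heq.symm ▸ (⟨hd, mem_c hdb⟩ : d ∈ DD x b)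
    exact (mem_cj.mp h1).1
  apply gen_L kf h hp hpb hpx
  intro z hz hz3 hxz
  have hzc := mem_core kf kf2 kfa h hz hz3 hxz
  refine ⟨mem_c (hab z hzc d hd), mem_c ?_⟩
  have h1 := hab z hzc _ hdp
  calc p * z * p⁻¹ * d = p * (z * (p⁻¹ * d * p)) * p⁻¹ := by group
    _ = p * (p⁻¹ * d * p * z) * p⁻¹ := by rw [h1]
    _ = _ := by group

/-- `O(C(x)) ≤ N(L)` -/
theorem core_norm (kf : KF34.{u}) (kf2 : KF2.{u}) (kfa : KFA.{u}) (h : Sit X x a b L S) {o : G}
    (ho : o ∈ core (centralizer ({x} : Set G))) : o ∈ normalizer (L : Set G) := by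
  have hy : IsY x a x := Or.inl rfl
  have hinv := inv_ab kf kf2 kfa h hy (inv_x kf kf2 kfa h (Or.inr rfl))
  have hcom := comm_of_inverted hinv
  have hbb := sq_of_order h.b2
  have haa := sq_of_order h.T.inva
  have hbi : b⁻¹ = b := inv_eq_of_mul_eq_one_left hbb
  have hai : a⁻¹ = a := inv_eq_of_mul_eq_one_left haa
  have hab : a * b = b * a := (aS h h.bS).symm
  have hbx : b ∈ centralizer ({x} : Set G) := mem_c (h.bc x h.xS).symm
  obtain ⟨q, hq⟩ : ∃ q, q = b * o * b⁻¹ := ⟨_, rfl⟩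
  have hqc : q ∈ core (centralizer ({x} : Set G)) := hq ▸ conj_core hbx ho
  have hbq : b * q * b⁻¹ = o := by
    rw [hq, hbi]
    calc b * (b * o * b) * b = (b * b) * o * (b * b) := by group
      _ = o := by rw [hbb, one_mul, mul_one]
  have hoq := hcom o ho q hqc
  -- `o q ∈ C(b)`
  have h1 : o * q ∈ normalizer (L : Set G) := by
    have h2 : o * q * b = b * (o * q) := by
      have h3 : b * (o * q) * b⁻¹ = o * q := by
        calc b * (o * q) * b⁻¹ = (b * o * b⁻¹) * (b * q * b⁻¹) := by group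
          _ = q * o := by rw [← hq, hbq]
          _ = _ := hoq.symm
      calc o * q * b = (b * (o * q) * b⁻¹) * b := by rw [h3]
        _ = _ := by group
    have h3 := Db_cent kf kf2 kfa h (mul_mem ho hqc) h2
    exact (fixes_of_comm (J := L) fun j hj => (comm_c (h3 hj)).symm).1
  -- `o⁻¹ q ∈ C(a)`
  have h2 : o⁻¹ * q ∈ normalizer (L : Set G) := by
    apply norm_L kf h
    have h3 : a * q * a⁻¹ = o⁻¹ := by
      have h4 := hinv o ho
      calc a * q * a⁻¹ = a * b * o * (a * b)⁻¹ := by rw [hq]; group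
        _ = _ := h4
    have h4 : a * o * a⁻¹ = q⁻¹ := by
      have h5 := hinv q hqc
      calc a * o * a⁻¹ = a * (b * q * b⁻¹) * a⁻¹ := by rw [hbq]
        _ = a * b * q * (a * b)⁻¹ := by group
        _ = _ := h5
    have h5 : a * (o⁻¹ * q) * a⁻¹ = o⁻¹ * q := by
      calc a * (o⁻¹ * q) * a⁻¹ = (a * o * a⁻¹)⁻¹ * (a * q * a⁻¹) := by group
        _ = q * o⁻¹ := by rw [h4, h3, inv_inv]
        _ = _ := (comm_c' hoq.symm |> fun h6 => h6)
    calc o⁻¹ * q * a = (a * (o⁻¹ * q) * a⁻¹) * a := by rw [h5]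
      _ = _ := by group
  apply mem_of_sq_odd (odd_card_core (centralizer ({x} : Set G))) ho
  have h3 : o * o = (o * q) * (o⁻¹ * q)⁻¹ := by group
  rw [h3]
  exact mul_mem h1 (inv_mem h2)

/-- **(8)** `C(x) ≤ N(L)` -/
theorem norm_x (kf : KF34.{u}) (kf2 : KF2.{u}) (kfa : KFA.{u}) (h : Sit X x a b L S) {c : G}
    (hc : c * x = x * c) : c ∈ normalizer (L : Set G) := by
  obtain ⟨o, ho, d, hdx, hda, rfl⟩ := zs kf kf2 kfa h hc
  exact mul_mem (core_norm kf kf2 kfa h ho) (norm_L kf h hda)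

end Cfsg.Agent.UGT.LTF.Nine
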