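import Cfsg.Agent.UGT.LTF.Wild
import Cfsg.Agent.UGT.SLCore

/-!
# (7) `a` is not fused in `C(x)`

* `inner_mem`: an involution of `C_S(x)` inducing an inner automorphism on `L` is in `⟨a, b⟩`.
* `eq_a_of_S`: `c ∈ C_S(x)` conjugate to `a` is `a`.
* `fus`: `d ∈ C(x)` conjugate to `a` is conjugate to `a` in `C(x)`; `hF`: if `d ∈ C(a)`, then `d = a`.
* `zs`: `C(x) = O(C(x)) (C(x) ∩ C(a))`.
-/

set_option autoImplicit false

open Cfsg Subgroup
open Cfsg.Agent.SignalizersComponents Cfsg.Agent.Lib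
open Cfsg.Agent.SignalizersComponents.IntrinsicBasic
open Cfsg.Agent.SignalizersComponents.IntrinsicIntr
open Cfsg.Agent.SignalizersComponents.PLayerAut
open Cfsg.Agent.Intrinsic.Basic Cfsg.Agent.Intrinsic.Cen Cfsg.Agent.Intrinsic.Diag
open Cfsg.Agent.McLLyComp.Act
open Cfsg.Agent.UGT.Triple Cfsg.Agent.UGT.TriBase Cfsg.Agent.UGT.Res.Base
open Cfsg.Agent.UGT.Iface (Bar IsL2 IsL34 IsAltOdd)
open Cfsg.Agent.UGT.LTF.Defs Cfsg.Agent.UGT.LTF.Basics Cfsg.Agent.UGT.LTF.Comp
open Cfsg.Agent.UGT.LTF.Wild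
open scoped commutatorElement

namespace Cfsg.Agent.UGT.LTF.Seven

universe u

variable {G : Type u} [Group G]

theorem conj_sq {a c : G} (ha : a * a = 1) (h : IsConj a c) : c * c = 1 := by
  obtain ⟨g, rfl⟩ := isConj_iff.mp h
  calc g * a * g⁻¹ * (g * a * g⁻¹) = g * (a * a) * g⁻¹ := by group
    _ = 1 := by rw [ha]; group

theorem conj_ord {a c : G} (ha : orderOf a = 2) (h : IsConj a c) : orderOf c = 2 := by
  obtain ⟨g, rfl⟩ := isConj_iff.mp h
  have h1 := (MulAut.conj g).orderOf_eq a
  rw [MulAut.conj_apply] at h1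
  rw [h1, ha]

variable [Finite G] {X : Subgroup G} {x a b : G} {L S : Subgroup G}

omit [Finite G] in
theorem conj_X (h : Sit X x a b L S) {u c : G} (hu : u ∈ X) (hc : IsConj u c) : c ∈ X := by
  obtain ⟨g, rfl⟩ := isConj_iff.mp hc
  exact h.Xn.conj_mem u hu g

omit [Finite G] in
theorem aS (h : Sit X x a b L S) {s : G} (hs : s ∈ S) : s * a = a * s := comm_c (h.SC hs)

/-- an involution `c ∈ C(x)`, commuting with `a`, `b`, inducing an inner automorphism on `L` -/
theorem inner_mem (kf : KF34.{u}) (h : Sit X x a b L S) {c m : G} (hcx : c * x = x * c)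
    (hca : c * a = a * c) (hcb : c * b = b * c) (hc2 : c * c = 1) (hm : m ∈ L)
    (hf : Fixes (c * m⁻¹) L) : c = 1 ∨ c = a ∨ c = b ∨ c = a * b := by
  have hc := core_L h
  have hcen := center_L kf h
  obtain ⟨k, hk⟩ : ∃ k, k = c * m⁻¹ := ⟨_, rfl⟩
  rw [← hk] at hf
  have hkc : ∀ l ∈ L, k * l = l * k := fun l hl => comm_of_fixes hc hf hl
  have hckm : c = k * m := by rw [hk]; group
  have hkm := hkc m hm
  -- squares
  have hsq : k * k * (m * m) = 1 := by
    calc k * k * (m * m) = k * (k * m) * m := by group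
      _ = k * (m * k) * m := by rw [hkm]
      _ = (k * m) * (k * m) := by group
      _ = 1 := by rw [← hckm, hc2]
  have hmm : m * m = 1 := by
    have h1 : m * m = (k * k)⁻¹ := (inv_eq_of_mul_eq_one_right hsq).symm
    apply hcen _ (mul_mem hm hm)
    intro j hj
    have h2 : k * k * j = j * (k * k) := by
      calc k * k * j = k * (k * j) := by group
        _ = k * (j * k) := by rw [hkc j hj]
        _ = (k * j) * k := by group
        _ = (j * k) * k := by rw [hkc j hj]
        _ = _ := by group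
    rw [h1]
    have h3 : (k * k)⁻¹ * (k * k * j) * (k * k)⁻¹ = (k * k)⁻¹ * (j * (k * k)) * (k * k)⁻¹ := by
      rw [h2]
    calc (k * k)⁻¹ * j = (k * k)⁻¹ * (j * (k * k)) * (k * k)⁻¹ := by group
      _ = (k * k)⁻¹ * (k * k * j) * (k * k)⁻¹ := h3.symm
      _ = _ := by group
  have hkk : k * k = 1 := by rwa [hmm, mul_one] at hsq
  -- `x` commutes with `m` and `k`
  have hxL := h.T.x_mem
  have hxx := sq_of_order h.T.invx
  have hxi : x⁻¹ = x := inv_eq_of_mul_eq_one_left hxx
  have hfx : Fixes (x * k * x⁻¹) L := fixes_conj hf hxL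
  have hxm : x * m * x⁻¹ ∈ L := conj_mem hxL hm
  have hmx : m * x = x * m := by
    have h1 : m * (x * m * x⁻¹)⁻¹ = 1 := by
      apply hcen _ (mul_mem hm (inv_mem hxm))
      intro j hj
      have h2 : k⁻¹ * (x * k * x⁻¹) = m * (x * m * x⁻¹)⁻¹ := by
        have h3 : x * k * x⁻¹ * (x * m * x⁻¹) = k * m := by
          calc x * k * x⁻¹ * (x * m * x⁻¹) = x * (k * m) * x⁻¹ := by group
            _ = k * m := by rw [← hckm, ← hcx]; group
        calc k⁻¹ * (x * k * x⁻¹) = k⁻¹ * (x * k * x⁻¹ * (x * m * x⁻¹)) * (x * m * x⁻¹)⁻¹ := by group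
          _ = k⁻¹ * (k * m) * (x * m * x⁻¹)⁻¹ := by rw [h3]
          _ = _ := by group
      rw [← h2]
      exact comm_of_fixes hc (fixes_mul (fixes_inv hf) hfx) hj
    have h2 : m = x * m * x⁻¹ := mul_inv_eq_one.mp h1
    calc m * x = (x * m * x⁻¹) * x := by rw [← h2]
      _ = _ := by group
  have hkx : k * x = x * k := by
    have h1 : k = c * m := by rw [hk, inv_eq_of_mul_eq_one_left hmm]
    rw [h1]
    calc c * m * x = c * (m * x) := by group
      _ = (c * x) * m := by rw [hmx]; group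
      _ = _ := by rw [hcx]; group
  have hka : k * a = a * k := by
    have h1 : k = c * m := by rw [hk, inv_eq_of_mul_eq_one_left hmm]
    have h2 := Y_comm h hm
    rw [h1]
    calc c * m * a = c * (m * a) := by group
      _ = (c * a) * m := by rw [h2]; group
      _ = _ := by rw [hca]; group
  have hmb : m * b = b * m := by
    have h2 := hkc b h.bL
    have h3 : k * (m * b) = k * (b * m) := by
      calc k * (m * b) = c * b := by rw [hckm]; group
        _ = b * c := hcb
        _ = (b * k) * m := by rw [hckm]; group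
        _ = _ := by rw [← h2]; group
    exact mul_left_cancel h3
  have hk' : k = 1 ∨ k = a := by
    by_cases h1 : k = 1
    · exact Or.inl h1
    · exact Or.inr (h.uniq k hka hf hkk h1 hkx)
  have hm' : m = 1 ∨ m = b := by
    by_cases h1 : m = 1
    · exact Or.inl h1
    · right
      have hbx := (h.bc x h.xS)
      have h2 := (ft kf h).comm _ _ (sq_bar hm hmm) (sq_bar h.bL (sq_of_order h.b2))
        (ne_bar hc hm h1) (ne_bar hc h.bL (ne_one_of_order h.b2))
        (act_fix' hxL hm hmx.symm) (act_fix' hxL h.bL hbx) (by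
          have h3 : (⟨m, hm⟩ : ↥L) * ⟨b, h.bL⟩ = ⟨b, h.bL⟩ * ⟨m, hm⟩ := Subtype.ext hmb
          rw [← QuotientGroup.mk_mul, ← QuotientGroup.mk_mul, h3])
      exact mk_inj hc hm h.bL h2
  rcases hk' with h1 | h1 <;> rcases hm' with h2 | h2
  · left; rw [hckm, h1, h2, one_mul]
  · right; right; left; rw [hckm, h1, h2, one_mul]
  · right; left; rw [hckm, h1, h2, mul_one]
  · right; right; right; rw [hckm, h1, h2]

/-- `a` is not conjugate to `1`, `b`, `a b` -/
theorem ne_of_conj (h : Sit X x a b L S) {c : G} (hc : IsConj a c)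
    (h1 : c = 1 ∨ c = a ∨ c = b ∨ c = a * b) : c = a := by
  rcases h1 with rfl | rfl | rfl | rfl
  · exfalso
    have h2 := conj_ord h.T.inva hc
    rw [orderOf_one] at h2
    omega
  · rfl
  · exact (h.nab hc).elim
  · exact (h.naab hc).elim

/-- `(x, c, N)`, `c ~ a`: `N` is a conjugate of `L` -/
theorem comp_conj (kf : KF34.{u}) (kf2 : KF2.{u}) (kfa : KFA.{u}) (h : Sit X x a b L S) {c g : G}
    {y : G} {N : Subgroup G} (hcX : c ∈ X) (hg : g * a * g⁻¹ = c) (T : IsTriple y c N)
    (hy : y = x) : N = cj g L := by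
  subst hy
  have hcN : core N = ⊥ := core_of_comp T.comp (h.cf c hcX T.inva)
  have hcen := center_typ kf kf2 kfa T hcN (h.typ _ _ _ h.xX hcX T)
  have h1 : cj g⁻¹ N = L := by
    apply lone h
    · have h2 := T.comp.cj g⁻¹
      have h3 : cj g⁻¹ (centralizer ({c} : Set G)) = centralizer ({a} : Set G) := by
        rw [cj_centralizer, ← hg]
        congr 2
        group
      rwa [h3] at h2
    · intro z hz hzn
      have h2 : g * z * g⁻¹ = 1 := by
        apply hcen
        · have := mem_cj.mp hz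
          rwa [inv_inv] at this
        · intro j hj
          have h3 := hzn _ (conj_mem_cj (g := g⁻¹) hj)
          rw [inv_inv] at h3
          calc g * z * g⁻¹ * j = g * (z * (g⁻¹ * j * g)) * g⁻¹ := by group
            _ = g * (g⁻¹ * j * g * z) * g⁻¹ := by rw [h3]
            _ = _ := by group
      calc z = g⁻¹ * (g * z * g⁻¹) * g := by group
        _ = 1 := by rw [h2]; group
  rw [← h1, cj_cj_inv]

/-- `c ∈ C_S(x)` conjugate to `a` is `a` -/
theorem eq_a_of_S (kf : KF34.{u}) (kf2 : KF2.{u}) (kfa : KFA.{u}) (h : Sit X x a b L S) {c : G}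
    (hcS : c ∈ S) (hcx : c * x = x * c) (hac : IsConj a c) : c = a := by
  have hc := core_L h
  have hca := aS h hcS
  have hcb := h.bc c hcS
  have hxb := h.bc x h.xS
  have hxx := sq_of_order h.T.invx
  have haa := sq_of_order h.T.inva
  have hc2 := conj_sq haa hac
  have hcL := h.SL hcS
  have hcX := conj_X h h.aX hac
  rcases ThEL34.tri (act L ⟨x, h.T.x_mem⟩) (act_sq hcL hc2) with ⟨l, hl⟩ | ⟨l, hl⟩ | hw
  · obtain ⟨⟨m, hm⟩, rfl⟩ := QuotientGroup.mk_surjective l
    apply ne_of_conj h hac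
    apply inner_mem kf h hcx hca hcb hc2 hm
    rw [← act_eq_iff hcL (le_normalizer hm), hl, act_of_mem hm]
  · exfalso
    obtain ⟨⟨m, hm⟩, rfl⟩ := QuotientGroup.mk_surjective l
    have hfx : Fixes (x * c * m⁻¹) L := by
      rw [← act_eq_iff (mul_mem h.T.x_mem hcL) (le_normalizer hm), act_mul h.T.x_mem hcL, hl,
        ← mul_assoc, act_sq h.T.x_mem hxx, one_mul, act_of_mem hm]
    have h1 := inner_mem kf h (c := x * c) (by rw [mul_assoc, hcx]) (by
        calc x * c * a = x * (c * a) := by group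
          _ = (x * a) * c := by rw [hca]; group
          _ = _ := by rw [← h.T.comm]; group) (by
        calc x * c * b = x * (c * b) := by group
          _ = (x * b) * c := by rw [hcb]; group
          _ = _ := by rw [hxb]; group) (by
        calc x * c * (x * c) = x * (c * x) * c := by group
          _ = (x * x) * (c * c) := by rw [hcx]; group
          _ = 1 := by rw [hxx, hc2, one_mul]) hm hfx
    have hX : x * c ∈ X := by
      have hbX := bX h
      rcases h1 with h1 | h1 | h1 | h1 <;> rw [h1]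
      · exact one_mem _
      · exact h.aX
      · exact hbX
      · exact mul_mem h.aX hbX
    apply h.xX
    have := mul_mem hX (inv_mem hcX)
    rwa [mul_inv_cancel_right] at this
  · exfalso
    have F := ft kf h
    have hcen := center_L kf h
    obtain ⟨M, hM⟩ : ∃ M, M = L ⊓ centralizer ({c} : Set G) := ⟨_, rfl⟩
    have hMc := comp_wild h.T.comp hc F hcL hw
    obtain ⟨hMs, hMp, hM2⟩ := wild_facts hc F hcL hw
    rw [← hM] at hMc hMs hMp hM2
    have hMc' : IsComp (centralizer ({c} : Set G) ⊓ centralizer ({a} : Set G)) M := by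
      rwa [inf_comm]
    -- `y`
    obtain ⟨y', h3', h1', hc', hx'⟩ := F.wthree _ hw (by
      rw [← act_mul, ← act_mul]
      exact act_congr _ hcx)
    obtain ⟨⟨y, hy⟩, rfl⟩ := QuotientGroup.mk_surjective y'
    have hy3 : y ^ 3 = 1 := pow_three hc hy h3'
    have hcy : c * y = y * c := act_fix hc hcL hy hc'
    have hxy : x * y = y * x := act_fix hc h.T.x_mem hy hx'
    have hy1 : y ≠ 1 := by
      rintro rfl
      exact h1' rfl
    have hyM : y ∈ M := hM ▸ ⟨hy, mem_c hcy.symm⟩
    have hyc := mem_core kf kf2 kfa h hy hy3 hxy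
    have hMcore : core M = ⊥ := by
      rw [eq_bot_iff, ← hc]
      have h2 : core M ≤ core (centralizer ({a} : Set G) ⊓ centralizer ({c} : Set G)) :=
        hMc.core_le_core
      have hn := hMs.eq_bot_or_eq_top_of_normal (oddCore ↥M) (by unfold oddCore; infer_instance)
      rcases hn with hn | hn
      · intro z hz
        rw [core, hn, Subgroup.map_bot, mem_bot] at hz
        rw [hz]; exact one_mem _
      · exfalso
        have h3 := odd_card_core M
        rw [core, hn, ← MonoidHom.range_eq_map, Subgroup.range_subtype] at h3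
        exact (Nat.not_even_iff_odd.mpr h3) (even_iff_two_dvd.mpr hM2)
    have hyf : ¬ Fixes y M := by
      intro hf
      have h2 : ∀ m ∈ M, y * m = m * y := fun m hm => comm_of_fixes hMcore hf hm
      have h4 : (⟨y, hyM⟩ : ↥M) ∈ center ↥M := by
        rw [mem_center_iff]
        rintro ⟨m, hm⟩
        exact Subtype.ext (h2 m hm).symm
      have h5 := hMs.eq_bot_or_eq_top_of_normal (center ↥M) inferInstance
      rcases h5 with h5 | h5
      · rw [h5, mem_bot] at h4
        exact hy1 (congrArg Subtype.val h4)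
      · have h6 : ⁅M, M⁆ ≤ ⊥ := by
          rw [commutator_le]
          intro g hg k hk
          rw [mem_bot, commutatorElement_eq_one_iff_mul_comm]
          have h7 : (⟨k, hk⟩ : ↥M) ∈ center ↥M := h5 ▸ mem_top _
          exact congrArg Subtype.val (mem_center_iff.mp h7 ⟨g, hg⟩)
        rw [hMp] at h6
        have h7 := h6 hyM
        exact hy1 (mem_bot.mp h7)
    obtain ⟨N, TN, hfN, hor⟩ := PumpGen.pump h.T.invx (conj_ord h.T.inva hac) haa hca hcx hMc' hyc
      (mem_c (Y_comm h hy)) (mem_c hcy.symm) hyf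
    obtain ⟨g, hg⟩ := isConj_iff.mp hac
    have hNg := comp_conj kf kf2 kfa h hcX hg TN rfl
    have haN : a ∈ normalizer (N : Set G) := by
      have h2 : g⁻¹ * a * g ∈ normalizer (L : Set G) := by
        apply norm_L kf h
        calc g⁻¹ * a * g * a = g⁻¹ * (a * (g * a * g⁻¹)) * g := by group
          _ = g⁻¹ * (g * a * g⁻¹ * a) * g := by rw [hg, hca]
          _ = _ := by group
      rw [mem_normalizer_iff_cj] at h2 ⊢
      have h3 : a * g = g * (g⁻¹ * a * g) := by group
      rw [hNg, ← cj_mul, h3, cj_mul, h2]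
    have hMN : M ≤ N := by
      rcases hor with ⟨-, h2⟩ | ⟨h2, -⟩
      · exact h2
      · exact (h2 (mem_normalizer_iff_cj.mp haN)).elim
    have hNc : core N = ⊥ := core_of_comp TN.comp (h.cf c hcX TN.inva)
    have hN34 : IsL34 (Bar N) := by
      subst hNg
      exact isL34_congr (cjQuot g L) h.l34
    have FN := ft_of_triple kf TN hNc hN34
    rcases not_small hMc' TN.comp hNc FN haN haa hMN with h2 | h2
    · -- `N = M`: `c` centralizes `L`
      have h3 : Nat.card ↥M = Nat.card ↥L := by rw [h2, hNg, card_cj]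
      have h4 : M = L := by
        apply Subgroup.eq_of_le_of_card_ge (hM ▸ inf_le_left)
        rw [h3]
      have h5 : act L ⟨c, hcL⟩ = 1 := by
        rw [act_eq_one_iff]
        apply fixes_of_comm
        intro j hj
        rw [← h4, hM] at hj
        exact (comm_c hj.2).symm
      exact hw.inn 1 (by rw [h5, map_one])
    · -- `a ~ a b`
      have hbM : b ∈ M := hM ▸ ⟨h.bL, mem_c hcb.symm⟩
      have hbN := hMN hbM
      have hab : a * b = b * a := (aS h h.bS).symm
      obtain ⟨m', hm'⟩ := FN.wone _ h2 (QuotientGroup.mk ⟨b, hbN⟩) (act_fix' haN hbN hab)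
        (sq_bar hbN (sq_of_order h.b2)) (ne_bar hNc hbN (ne_one_of_order h.b2))
      obtain ⟨⟨m, hm⟩, rfl⟩ := QuotientGroup.mk_surjective m'
      rw [← act_of_mem hm, ← act_of_mem hbN, ← act_inv, ← act_mul, ← act_mul, ← act_mul,
        act_eq_iff] at hm'
      have h3 : m * a * m⁻¹ * (a * b)⁻¹ ∈ N := by
        have h4 : a * m⁻¹ * a⁻¹ ∈ N := conj_mem haN (inv_mem hm)
        have h5 : a * b⁻¹ * a⁻¹ ∈ N := conj_mem haN (inv_mem hbN)
        have h6 : m * a * m⁻¹ * (a * b)⁻¹ = m * (a * m⁻¹ * a⁻¹) * (a * b⁻¹ * a⁻¹) := by group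
        rw [h6]
        exact mul_mem (mul_mem hm h4) h5
      have h4 := center_of_bar hNc (center_of_ft FN) _ h3 fun j hj => comm_of_fixes hNc hm' hj
      exact h.naab (isConj_iff.mpr ⟨m, mul_inv_eq_one.mp h4⟩)

/-- the centralizer of `k y k⁻¹` -/
theorem comm_conj {k u v : G} (h : u * v = v * u) :
    k * u * k⁻¹ * (k * v * k⁻¹) = k * v * k⁻¹ * (k * u * k⁻¹) := by
  calc k * u * k⁻¹ * (k * v * k⁻¹) = k * (u * v) * k⁻¹ := by group
    _ = k * (v * u) * k⁻¹ := by rw [h]
    _ = _ := by group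

/-- a 2-subgroup of `C(x)` lies in `C_S(x)` up to conjugation -/
theorem syl_conj (h : Sit X x a b L S) {R : Subgroup G} (h2 : IsPGroup 2 ↥R)
    (hR : R ≤ centralizer ({x} : Set G)) : ∃ k, k * x = x * k ∧ ∀ r ∈ R, k * r * k⁻¹ ∈ S ∧
      k * r * k⁻¹ * x = x * (k * r * k⁻¹) := by
  obtain ⟨g, hg, hle⟩ := h.syl.conj h2 hR
  refine ⟨g⁻¹, comm_c (inv_mem hg), fun r hr => ?_⟩
  have h3 := mem_cj.mp (hle hr)
  have h4 : g⁻¹ * r * g⁻¹⁻¹ = g⁻¹ * r * g := by rw [inv_inv]
  rw [h4]
  exact ⟨h3.1, comm_c h3.2⟩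

/-- `d ∈ C(x)` conjugate to `a` is conjugate to `a` in `C(x)` -/
theorem fus (kf : KF34.{u}) (kf2 : KF2.{u}) (kfa : KFA.{u}) (h : Sit X x a b L S) {d : G}
    (hd : IsConj a d) (hdx : d * x = x * d) : ∃ c, c * x = x * c ∧ c * a * c⁻¹ = d := by
  obtain ⟨k, hk, hkr⟩ := syl_conj h (R := zpowers d) (isPGroup_zpowers (conj_ord h.T.inva hd))
    (zpowers_le.mpr (mem_c hdx))
  obtain ⟨h1, h2⟩ := hkr d (mem_zpowers d)
  have h3 := eq_a_of_S kf kf2 kfa h h1 h2 (hd.trans (isConj_iff.mpr ⟨k, rfl⟩))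
  refine ⟨k⁻¹, comm_c (inv_mem (mem_c hk)), ?_⟩
  rw [← h3]
  group

/-- `d ∈ C(x) ∩ C(a)` conjugate to `a` is `a` -/
theorem hF (kf : KF34.{u}) (kf2 : KF2.{u}) (kfa : KFA.{u}) (h : Sit X x a b L S) {d : G}
    (hd : IsConj a d) (hdx : d * x = x * d) (hda : d * a = a * d) : d = a := by
  have haa := sq_of_order h.T.inva
  have hdd := conj_sq haa hd
  have hR2 : IsPGroup 2 ↥(closure ({a, d} : Set G)) := by
    intro ⟨y, hy⟩
    refine ⟨1, Subtype.ext ?_⟩
    change y ^ 2 ^ 1 = 1
    rw [pow_one, pow_two]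
    have hcomm : ∀ u ∈ ({a, d} : Set G), ∀ v ∈ ({a, d} : Set G), u * v = v * u := by
      rintro u (rfl | rfl) v (rfl | rfl)
      · rfl
      · exact hda.symm
      · exact hda
      · rfl
    have hmc : ∀ u ∈ closure ({a, d} : Set G), ∀ v ∈ closure ({a, d} : Set G), u * v = v * u := by
      intro u hu v hv
      have h1 : closure ({a, d} : Set G) ≤ centralizer ({a, d} : Set G) := by
        rw [closure_le]
        intro u hu
        rw [SetLike.mem_coe, mem_centralizer_iff]
        intro v hv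
        exact hcomm v hv u hu
      have h2 : closure ({a, d} : Set G) ≤ centralizer (closure ({a, d} : Set G) : Set G) := by
        rw [centralizer_closure]
        exact h1
      exact (mem_centralizer_iff.mp (h2 hu) v hv).symm
    induction hy using closure_induction with
    | mem y hy =>
      rcases hy with rfl | rfl
      · exact haa
      · exact hdd
    | one => rw [one_mul]
    | mul u v hu hv h1 h2 =>
      have h3 := hmc u hu v hv
      calc u * v * (u * v) = u * (v * u) * v := by group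
        _ = (u * u) * (v * v) := by rw [← h3]; group
        _ = 1 := by rw [h1, h2, one_mul]
    | inv u hu h1 =>
      rw [← mul_inv_rev, h1, inv_one]
  obtain ⟨k, hk, hkr⟩ := syl_conj h (R := closure ({a, d} : Set G)) hR2 (by
    rw [closure_le]
    rintro u (rfl | rfl)
    · exact mem_c h.T.comm
    · exact mem_c hdx)
  have key : ∀ u ∈ ({a, d} : Set G), IsConj a u → k * u * k⁻¹ = a := by
    intro u hu hau
    obtain ⟨h1, h2⟩ := hkr u (subset_closure hu)
    exact eq_a_of_S kf kf2 kfa h h1 h2 (hau.trans (isConj_iff.mpr ⟨k, rfl⟩))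
  have h1 := key a (Or.inl rfl) (IsConj.refl a)
  have h2 := key d (Or.inr rfl) hd
  exact mul_left_cancel (mul_right_cancel (h2.trans h1.symm))

/-- `C(x) = O(C(x)) (C(x) ∩ C(a))` -/
theorem zs (kf : KF34.{u}) (kf2 : KF2.{u}) (kfa : KFA.{u}) (h : Sit X x a b L S) {c : G}
    (hc : c * x = x * c) : ∃ o ∈ core (centralizer ({x} : Set G)), ∃ d, d * x = x * d ∧
      d * a = a * d ∧ c = o * d := by
  have haa := sq_of_order h.T.inva
  rcases Cfsg.Agent.UGT.SL.zstar_sub (X := centralizer ({x} : Set G)) (mem_c h.T.comm) haa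
    (ne_one_of_order h.T.inva) with ⟨g, hg, h1, h2⟩ | ⟨N, hN, hodd, hn, hcom⟩
  · exact (h1 (hF kf kf2 kfa h (isConj_iff.mpr ⟨g, rfl⟩)
      (comm_c (mul_mem (mul_mem hg (mem_c h.T.comm)) (inv_mem hg))) h2.symm)).elim
  · have hNc : N ≤ core (centralizer ({x} : Set G)) := by
      refine le_core hN ?_ hodd
      intro y hy
      rw [mem_normalizer_iff]
      intro n
      refine ⟨hn y hy n, fun h3 => ?_⟩
      have h4 := hn y⁻¹ (inv_mem hy) _ h3
      have h5 : y⁻¹ * (y * n * y⁻¹) * y⁻¹⁻¹ = n := by group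
      rwa [h5] at h4
    have h3 := hcom c (mem_c hc)
    -- `c⁻¹ a c = a n`
    obtain ⟨o, ho, hoc⟩ := Intrinsic.Lifting.exists_commute (N := N) (v := a) (m := c) (n := 1)
      hodd (by rw [pow_one, pow_two, haa]) (by
        rw [mem_normalizer_iff]
        intro n
        have h5 : a ∈ centralizer ({x} : Set G) := mem_c h.T.comm
        refine ⟨hn a h5 n, fun h3 => ?_⟩
        have h4 := hn a⁻¹ (inv_mem h5) _ h3
        have h6 : a⁻¹ * (a * n * a⁻¹) * a⁻¹⁻¹ = n := by group
        rwa [h6] at h4) (by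
          have h5 := hn c⁻¹ (inv_mem (mem_c hc)) _ h3
          have h6 : c⁻¹ * (a * c * a⁻¹ * c⁻¹) * c⁻¹⁻¹ = c⁻¹ * (a * c * a⁻¹) := by group
          rwa [h6] at h5)
    refine ⟨c * o⁻¹ * c⁻¹, hNc (hn c (mem_c hc) _ (inv_mem ho)), c * o, ?_, hoc.symm, by group⟩
    exact comm_c (mul_mem (mem_c hc) (hN ho))

end Cfsg.Agent.UGT.LTF.Seven
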